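import Mathlib

/-!
An element of order three acting without fixed points on a group of order 16 forces it to be
abelian.
-/

set_option autoImplicit false
set_option linter.style.haveILetI false

namespace CfsgLib.AltEightLocal

variable {K : Type*} [Group K] [Finite K]

theorem fpf_card_mod {I : Subgroup K} {y : K} (hy3 : y ^ 3 = 1)
    (hI : ∀ a ∈ I, y * a * y⁻¹ ∈ I) (hfix : ∀ a ∈ I, y * a = a * y → a = 1) :
    Nat.card I % 3 = 1 := by
  rcases eq_or_ne y 1 with e | hy1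
  · subst e
    have : I = ⊥ := (Subgroup.eq_bot_iff_forall I).2 fun a ha => hfix a ha (by simp)
    rw [this, Subgroup.card_bot]
  haveI : Fact (Nat.Prime 3) := ⟨Nat.prime_three⟩
  obtain ⟨Y, hY⟩ : ∃ Y : Subgroup K, Y = Subgroup.zpowers y := ⟨_, rfl⟩
  have hYI : ∀ g ∈ Y, ∀ a ∈ I, g * a * g⁻¹ ∈ I := by
    intro g hg
    rw [hY, ← mem_powers_iff_mem_zpowers, Submonoid.mem_powers_iff] at hg
    obtain ⟨n, rfl⟩ := hg
    induction n with
    | zero => intro a ha; simpa using ha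
    | succ n ih =>
      intro a ha
      have := hI _ (ih a ha)
      rwa [show y * (y ^ n * a * (y ^ n)⁻¹) * y⁻¹ = y ^ (n + 1) * a * (y ^ (n + 1))⁻¹ by
        rw [pow_succ']; group] at this
  letI : MulAction Y I :=
    { smul := fun g a => ⟨(g : K) * (a : K) * (g : K)⁻¹, hYI g g.2 a a.2⟩
      one_smul := fun a => Subtype.ext (by show (1 : K) * (a : K) * (1 : K)⁻¹ = a; group)
      mul_smul := fun g k a => Subtype.ext (by
        show (g : K) * (k : K) * (a : K) * ((g : K) * (k : K))⁻¹ =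
          (g : K) * ((k : K) * (a : K) * (k : K)⁻¹) * (g : K)⁻¹
        group) }
  have hp : IsPGroup 3 Y := IsPGroup.of_card (n := 1) (by
    rw [hY, Nat.card_zpowers, pow_one, orderOf_eq_prime hy3 hy1])
  have hmod := hp.card_modEq_card_fixedPoints I
  have h1 : Nat.card (MulAction.fixedPoints Y I) = 1 := by
    rw [Nat.card_eq_one_iff_unique]
    refine ⟨⟨fun p q => ?_⟩, ⟨⟨1, fun g => Subtype.ext (by
      show (g : K) * ((1 : I) : K) * (g : K)⁻¹ = ((1 : I) : K); simp)⟩⟩⟩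
    have key : ∀ p : MulAction.fixedPoints Y I, ((p : I) : K) = 1 := fun p =>
      hfix _ (p : I).2 (mul_inv_eq_iff_eq_mul.1
        (congrArg Subtype.val (p.2 ⟨y, hY ▸ Subgroup.mem_zpowers y⟩)))
    exact Subtype.ext (Subtype.ext ((key p).trans (key q).symm))
  rw [h1] at hmod
  exact hmod

theorem fpf_commute {A : Subgroup K} {y : K} (hy3 : y ^ 3 = 1)
    (hA : ∀ a ∈ A, y * a * y⁻¹ ∈ A) (hfix : ∀ a ∈ A, y * a = a * y → a = 1) {x : K} (hx : x ∈ A) :
    (y * x * y⁻¹) * (y * (y * x * y⁻¹) * y⁻¹) = (y * (y * x * y⁻¹) * y⁻¹) * (y * x * y⁻¹) := by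
  have hy2 : ∀ a ∈ A, y * y * a * (y * y)⁻¹ ∈ A := fun a ha => by
    have := hA _ (hA a ha)
    rwa [show y * (y * a * y⁻¹) * y⁻¹ = y * y * a * (y * y)⁻¹ by group] at this
  have tele : ∀ g : K, g ^ 3 = 1 → (∀ a ∈ A, g * a * g⁻¹ ∈ A) →
      (∀ a ∈ A, g * a = a * g → a = 1) → ∀ x ∈ A,
      x * (g * x * g⁻¹) * (g * (g * x * g⁻¹) * g⁻¹) = 1 := by
    intro g hg3 hgA hgfix x hx
    have hinj : Function.Injective fun a : A =>
        (⟨(a : K)⁻¹ * (g * a * g⁻¹), mul_mem (inv_mem a.2) (hgA a a.2)⟩ : A) := by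
      intro a b e
      have e' : (a : K)⁻¹ * (g * a * g⁻¹) = (b : K)⁻¹ * (g * b * g⁻¹) := congrArg Subtype.val e
      have hc : g * ((b : K) * (a : K)⁻¹) = (b : K) * (a : K)⁻¹ * g := by
        refine mul_inv_eq_iff_eq_mul.1 ?_
        calc g * ((b : K) * (a : K)⁻¹) * g⁻¹
            = (b : K) * ((b : K)⁻¹ * (g * b * g⁻¹)) * (g * a * g⁻¹)⁻¹ := by group
          _ = _ := by rw [← e']; group
      exact Subtype.ext (mul_inv_eq_one.1 (hgfix _ (mul_mem b.2 (inv_mem a.2)) hc)).symm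
    obtain ⟨a, ha⟩ := Finite.surjective_of_injective hinj ⟨x, hx⟩
    have ha' : (a : K)⁻¹ * (g * a * g⁻¹) = x := congrArg Subtype.val ha
    rw [← ha']
    calc _ = (a : K)⁻¹ * (g ^ 3 * a * (g ^ 3)⁻¹) := by
          simp only [pow_succ, pow_zero, one_mul]; group
      _ = 1 := by rw [hg3]; group
  have h1 := tele y hy3 hA hfix x hx
  have h2 := tele (y * y) (by rw [← pow_two, ← pow_mul, mul_comm, pow_mul, hy3, one_pow]) hy2
    (fun a ha e => hfix a ha (by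
      have e2 : Commute (y * y) a := e
      have e3 := e2.mul_left e2
      rwa [show y * y * (y * y) = y by
        calc y * y * (y * y) = y ^ 3 * y := by simp only [pow_succ, pow_zero, one_mul, mul_assoc]
          _ = y := by rw [hy3, one_mul]] at e3)) x hx
  have e4 : y * y * (y * y * x * (y * y)⁻¹) * (y * y)⁻¹ = y * x * y⁻¹ := by
    calc _ = y ^ 3 * (y * x * y⁻¹) * (y ^ 3)⁻¹ := by simp only [pow_succ, pow_zero, one_mul]; group
      _ = _ := by rw [hy3]; group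
  rw [e4] at h2
  have e5 : y * y * x * (y * y)⁻¹ = y * (y * x * y⁻¹) * y⁻¹ := by group
  rw [e5] at h2
  rw [mul_assoc] at h1 h2
  exact mul_left_cancel (h1.trans h2.symm)

/-- A fixed-point-free element of order three forces a group of order 16 to be abelian. -/
theorem comm_of_fpf {A : Subgroup K} (hA16 : Nat.card A = 16) {y : K} (hy3 : y ^ 3 = 1)
    (hA : ∀ a ∈ A, y * a * y⁻¹ ∈ A) (hfix : ∀ a ∈ A, y * a = a * y → a = 1) :
    ∀ a ∈ A, ∀ b ∈ A, a * b = b * a := by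
  haveI : Fact (Nat.Prime 2) := ⟨Nat.prime_two⟩
  obtain ⟨Z, hZ⟩ : ∃ Z : Subgroup K, Z = A ⊓ Subgroup.centralizer (A : Set K) := ⟨_, rfl⟩
  have hZmem : ∀ {z : K}, z ∈ Z ↔ z ∈ A ∧ ∀ a ∈ A, a * z = z * a := fun {z} => by
    rw [hZ, Subgroup.mem_inf, Subgroup.mem_centralizer_iff]; rfl
  have hconj : ∀ {a b : K}, a * b = b * a → y * a * y⁻¹ * (y * b * y⁻¹) = y * b * y⁻¹ * (y * a * y⁻¹) :=
    fun {a b} e => by
      calc y * a * y⁻¹ * (y * b * y⁻¹) = y * (a * b) * y⁻¹ := by group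
        _ = _ := by rw [e]; group
  have hpre : ∀ a ∈ A, ∃ b ∈ A, y * b * y⁻¹ = a := fun a ha =>
    ⟨y * (y * a * y⁻¹) * y⁻¹, hA _ (hA a ha), by
      calc _ = y ^ 3 * a * (y ^ 3)⁻¹ := by simp only [pow_succ, pow_zero, one_mul]; group
        _ = _ := by rw [hy3]; group⟩
  have hZy : ∀ z ∈ Z, y * z * y⁻¹ ∈ Z := fun z hz => by
    obtain ⟨h1, h2⟩ := hZmem.1 hz
    refine hZmem.2 ⟨hA z h1, fun a ha => ?_⟩
    obtain ⟨b, hb, rfl⟩ := hpre a ha
    exact hconj (h2 b hb)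
  have hZge : 4 ≤ Nat.card Z := by
    have hAp : IsPGroup 2 A := IsPGroup.of_card (n := 4) (by rw [hA16]; rfl)
    haveI : Nontrivial A := Finite.one_lt_card_iff_nontrivial.1 (by rw [hA16]; norm_num)
    haveI := hAp.center_nontrivial
    obtain ⟨z, hz⟩ := exists_ne (1 : Subgroup.center A)
    have hzZ : ((z : A) : K) ∈ Z := hZmem.2 ⟨(z : A).2, fun a ha =>
      congrArg Subtype.val (Subgroup.mem_center_iff.1 z.2 ⟨a, ha⟩)⟩
    have h2 : 2 ≤ Nat.card Z := Finite.one_lt_card_iff_nontrivial.2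
      ⟨⟨⟨_, hzZ⟩, 1, fun e => hz (Subtype.ext (Subtype.ext (congrArg (fun g : Z => (g : K)) e)))⟩⟩
    have hm := fpf_card_mod hy3 hZy fun a ha e => hfix a (hZmem.1 ha).1 e
    omega
  intro a ha b hb
  by_contra hab
  obtain ⟨C, hC⟩ : ∃ C : Subgroup K, C = A ⊓ Subgroup.centralizer ({a} : Set K) := ⟨_, rfl⟩
  have hCmem : ∀ {g : K}, g ∈ C ↔ g ∈ A ∧ g * a = a * g := fun {g} => by
    rw [hC, Subgroup.mem_inf, Subgroup.mem_centralizer_singleton_iff]
  obtain ⟨a₁, ha₁⟩ : ∃ a₁, a₁ = y * a * y⁻¹ := ⟨_, rfl⟩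
  have ha₁A : a₁ ∈ A := ha₁ ▸ hA a ha
  -- `a` commutes with its images
  have hcomm : a * a₁ = a₁ * a := by
    obtain ⟨x, hx, hxe⟩ := hpre a ha
    have := fpf_commute hy3 hA hfix hx
    rwa [hxe, ← ha₁] at this
  have hZC : Z ≤ C := fun z hz => hCmem.2 ⟨(hZmem.1 hz).1, ((hZmem.1 hz).2 a ha).symm⟩
  have hCA : C ≤ A := fun g hg => (hCmem.1 hg).1
  have haZ : a ∉ Z := fun e => hab ((hZmem.1 e).2 b hb).symm
  have hd : Nat.card C ∣ 16 := hA16 ▸ Subgroup.card_dvd_of_le hCA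
  have hC8 : Nat.card C = 8 := by
    have hlt : Nat.card Z < Nat.card C := lt_of_le_of_ne (Subgroup.card_le_of_le hZC) fun e =>
      haZ ((Subgroup.eq_of_le_of_card_ge hZC e.ge).symm ▸ hCmem.2 ⟨ha, rfl⟩)
    have hlt2 : Nat.card C ≠ 16 := fun e => hab (by
      have := Subgroup.eq_of_le_of_card_ge hCA (by rw [e, hA16])
      exact (hCmem.1 (this.symm ▸ hb)).2.symm)
    obtain ⟨k, hk, e⟩ := (Nat.dvd_prime_pow Nat.prime_two).1 (show Nat.card C ∣ 2 ^ 4 from hd)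
    interval_cases k <;> omega
  -- `C` is invariant
  obtain ⟨C₁, hC₁⟩ : ∃ C₁ : Subgroup K, C₁ = A ⊓ Subgroup.centralizer ({a₁} : Set K) := ⟨_, rfl⟩
  have hmap : ∀ g ∈ C, y * g * y⁻¹ ∈ C₁ := fun g hg => by
    rw [hC₁, Subgroup.mem_inf, Subgroup.mem_centralizer_singleton_iff, ha₁]
    exact ⟨hA g (hCmem.1 hg).1, hconj (hCmem.1 hg).2⟩
  have hC₁8 : Nat.card C₁ = 8 := by
    refine le_antisymm ?_ ?_
    · have hle : C₁ ≤ A := hC₁ ▸ inf_le_left
      have hne : Nat.card C₁ ≠ 16 := fun e => by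
        have he := Subgroup.eq_of_le_of_card_ge hle (by rw [e, hA16])
        have hbb : y * b * y⁻¹ ∈ C₁ := he.symm ▸ hA b hb
        rw [hC₁, Subgroup.mem_inf, Subgroup.mem_centralizer_singleton_iff, ha₁] at hbb
        refine hab (mul_left_cancel (a := y) (mul_right_cancel (b := y⁻¹) ?_))
        calc y * (a * b) * y⁻¹ = y * a * y⁻¹ * (y * b * y⁻¹) := by group
          _ = _ := by rw [← hbb.2]; group
      have hd1 : Nat.card C₁ ∣ 2 ^ 4 := by
        rw [show 2 ^ 4 = Nat.card A by rw [hA16]; rfl]; exact Subgroup.card_dvd_of_le hle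
      obtain ⟨k, hk, e⟩ := (Nat.dvd_prime_pow Nat.prime_two).1 hd1
      interval_cases k <;> omega
    · rw [← hC8]
      refine Nat.card_le_card_of_injective (fun g : C => (⟨_, hmap g g.2⟩ : C₁)) fun p q e => ?_
      exact Subtype.ext ((MulAut.conj y).injective (congrArg Subtype.val e))
  -- the subgroup `I` of both
  obtain ⟨a₂, ha₂⟩ : ∃ a₂, a₂ = y * a₁ * y⁻¹ := ⟨_, rfl⟩
  obtain ⟨I, hI⟩ : ∃ I : Subgroup K, I = C ⊓ C₁ ⊓ Subgroup.centralizer ({a₂} : Set K) := ⟨_, rfl⟩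
  have hImem : ∀ {g : K}, g ∈ I ↔ g ∈ A ∧ g * a = a * g ∧ g * a₁ = a₁ * g ∧ g * a₂ = a₂ * g :=
    fun {g} => by
      rw [hI, Subgroup.mem_inf, Subgroup.mem_inf, hC₁, Subgroup.mem_inf,
        Subgroup.mem_centralizer_singleton_iff, Subgroup.mem_centralizer_singleton_iff, hCmem]
      tauto
  have hIy : ∀ g ∈ I, y * g * y⁻¹ ∈ I := fun g hg => by
    obtain ⟨h1, h2, h3, h4⟩ := hImem.1 hg
    refine hImem.2 ⟨hA g h1, ?_, ha₁ ▸ hconj h2, ha₂ ▸ hconj h3⟩
    have e : y * a₂ * y⁻¹ = a := by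
      rw [ha₂, ha₁]
      calc _ = y ^ 3 * a * (y ^ 3)⁻¹ := by simp only [pow_succ, pow_zero, one_mul]; group
        _ = _ := by rw [hy3]; group
    have := hconj h4
    rwa [e] at this
  have hc12 : a₁ * a₂ = a₂ * a₁ := by
    have := fpf_commute hy3 hA hfix ha
    rwa [← ha₁, ← ha₂] at this
  have hc02 : a * a₂ = a₂ * a := by
    have e : y * a₂ * y⁻¹ = a := by
      rw [ha₂, ha₁]
      calc _ = y ^ 3 * a * (y ^ 3)⁻¹ := by simp only [pow_succ, pow_zero, one_mul]; group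
        _ = _ := by rw [hy3]; group
    have := hconj hc12
    rw [← ha₂, e] at this
    exact this.symm
  have haI : a ∈ I := hImem.2 ⟨ha, rfl, hcomm, hc02⟩
  have hZI : Z ≤ I := fun z hz => by
    obtain ⟨h1, h2⟩ := hZmem.1 hz
    exact hImem.2 ⟨h1, (h2 a ha).symm, (h2 a₁ ha₁A).symm, (h2 a₂ (ha₂ ▸ hA _ ha₁A)).symm⟩
  have hlt : Nat.card Z < Nat.card I := lt_of_le_of_ne (Subgroup.card_le_of_le hZI) fun e =>
    haZ ((Subgroup.eq_of_le_of_card_ge hZI e.ge).symm ▸ haI)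
  have hdI : Nat.card I ∣ 8 := hC8 ▸ Subgroup.card_dvd_of_le (hI ▸ inf_le_left.trans inf_le_left)
  have hm := fpf_card_mod hy3 hIy fun g hg e => hfix g (hImem.1 hg).1 e
  have h8 := Nat.le_of_dvd (by norm_num) hdI
  have : Nat.card I = 8 := by
    obtain ⟨k, hk, e⟩ := (Nat.dvd_prime_pow Nat.prime_two).1 (show Nat.card I ∣ 2 ^ 3 from hdI)
    interval_cases k <;> omega
  omega

end CfsgLib.AltEightLocal
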