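import Cfsg.Agent.AltEightLocal.SylowTwo
import Cfsg.Agent.AltEightLocal.FpfThree
import Cfsg.Agent.SelfCentralThree.Main

/-!
The centraliser of `e` has a normal 2-subgroup of order 32 with commutators in `⟨e⟩`.
-/

set_option autoImplicit false
set_option linter.style.haveILetI false

namespace CfsgLib.AltEightLocal

open Equiv

variable {G : Type*} [Group G]

namespace Frame

variable {h : Hyp G} [Finite G] (f : Frame h)
include f

/-- The centraliser of `e`. -/
abbrev He (_f : Frame h) : Subgroup G := Subgroup.centralizer ({_f.e} : Set G)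

theorem mem_He {g : G} : g ∈ f.He ↔ g * f.e = f.e * g := Subgroup.mem_centralizer_singleton_iff

theorem c_e : h.c * f.e = f.e * h.c := (f.mem_Lf.1 f.e_mem_Lf).2.symm

theorem S₂_le_He : f.S₂ ≤ f.He := by
  have hM : ∀ y ∈ f.M₂, y ∈ f.He := fun y hy => by
    rcases f.mem_M₂.1 hy with e | e
    · exact f.mem_He.2 (f.W_comm e f.e_mem)
    · refine f.mem_He.2 ?_
      have e1 : Commute (y * h.c) f.e := f.W_comm e f.e_mem
      have e2 : Commute h.c f.e := f.c_e
      have := e1.mul_left e2.inv_left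
      rwa [mul_inv_cancel_right] at this
  intro x hx
  rcases mem_adjoinSqrt.1 hx with e | e
  · exact hM x e
  · have := mul_mem (hM _ e) (inv_mem (f.mem_He.2 (commute_iff_conj.1 f.s_e)))
    rwa [mul_inv_cancel_right] at this

theorem not_128_dvd : ¬ 128 ∣ Nat.card G := by
  haveI : Fact (Nat.Prime 2) := ⟨Nat.prime_two⟩
  intro h128
  obtain ⟨P, hP⟩ := f.exists_sylow_two
  have h1 := (P : Subgroup G).card_mul_index
  rw [show Nat.card (P : Subgroup G) = 64 by rw [hP, f.card_S₂]] at h1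
  refine P.not_dvd_index ?_
  rw [← h1, show 128 = 64 * 2 from rfl] at h128
  exact Nat.dvd_of_mul_dvd_mul_left (by norm_num) h128

/-- An element of order three of `C(e)`, inverted there, with centraliser `⟨y⟩ × ⟨e⟩`. -/
theorem exists_three : ∃ y c' : G, y ∈ f.He ∧ c' ∈ f.He ∧ y ^ 3 = 1 ∧ y ≠ 1 ∧
    c' * y * c'⁻¹ = y⁻¹ ∧ IsConj (h.z * h.w) y ∧
    ∀ g ∈ f.He, g * y = y * g → ∃ i : ℕ, g = y ^ i ∨ g = y ^ i * f.e := by
  obtain ⟨k, hk⟩ := isConj_iff.1 f.u_conj_e
  obtain ⟨y, hy⟩ : ∃ y, y = k * (h.z * h.w) * k⁻¹ := ⟨_, rfl⟩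
  have hconj : ∀ {a b : G}, a * b = b * a → k * a * k⁻¹ * (k * b * k⁻¹) = k * b * k⁻¹ * (k * a * k⁻¹) :=
    fun {a b} e => by rw [← conj_mul3, e, conj_mul3]
  have hd3 : (h.z * h.w) ^ 3 = 1 := h.D_cube (mul_mem h.z_mem h.w_mem)
  have hd1 : h.z * h.w ≠ 1 := fun e => by
    have e2 : h.z ^ ((1 : Fin 3) : ℕ) * h.L.al cyc ^ ((1 : Fin 3) : ℕ) =
        h.z ^ ((0 : Fin 3) : ℕ) * h.L.al cyc ^ ((0 : Fin 3) : ℕ) := by simp [h.w_eq, e]
    exact absurd (h.L.grid_inj e2).1 (by decide)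
  refine ⟨y, k * h.c * k⁻¹, ?_, ?_, ?_, ?_, ?_, isConj_iff.2 ⟨k, hy.symm⟩, ?_⟩
  · rw [f.mem_He, ← hk, hy]; exact hconj h.u_zw.symm
  · rw [f.mem_He, ← hk]; exact hconj h.c_u.symm
  · rw [hy, conj_pow, hd3, mul_one, mul_inv_cancel]
  · rw [hy]; exact fun e => hd1 (conj_eq_one_iff.1 e)
  · have e : h.c * (h.z * h.w) * h.c⁻¹ = (h.z * h.w)⁻¹ := by
      calc h.c * (h.z * h.w) * h.c⁻¹ = h.c * h.z * h.c⁻¹ * (h.c * h.w * h.c⁻¹) := by group
        _ = h.z⁻¹ * h.w⁻¹ := by rw [h.c_inv, h.c_z, h.c_w]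
        _ = _ := by rw [mul_inv_rev]; exact h.D_comm (inv_mem h.z_mem) (inv_mem h.w_mem)
    rw [hy]
    calc k * h.c * k⁻¹ * (k * (h.z * h.w) * k⁻¹) * (k * h.c * k⁻¹)⁻¹
        = k * (h.c * (h.z * h.w) * h.c⁻¹) * k⁻¹ := by group
      _ = _ := by rw [e]; group
  · intro g hg hgy
    obtain ⟨g₀, hg₀⟩ : ∃ g₀, g₀ = k⁻¹ * g * k := ⟨_, rfl⟩
    have hg' : g = k * g₀ * k⁻¹ := by rw [hg₀]; group
    have h1 : g₀ * h.u = h.u * g₀ := by
      refine conj_inj (g := k) ?_
      rw [conj_mul3, conj_mul3, ← hg', hk]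
      exact f.mem_He.1 hg
    have h2 : g₀ * (h.z * h.w) = h.z * h.w * g₀ := by
      refine conj_inj (g := k) ?_
      rw [conj_mul3 k g₀, conj_mul3 k (h.z * h.w) g₀, ← hg', ← hy, hgy]
    have key : ∀ d ∈ h.D, d * h.u = h.u * d → ∃ i : ℕ, d = (h.z * h.w) ^ i := by
      intro d hd hdu
      obtain ⟨i, j, rfl⟩ := h.grid hd
      have e : h.u * (h.z ^ (i : ℕ) * h.w ^ (j : ℕ)) * h.u⁻¹ =
          h.z ^ (j : ℕ) * h.w ^ (i : ℕ) := by
        calc h.u * (h.z ^ (i : ℕ) * h.w ^ (j : ℕ)) * h.u⁻¹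
            = (h.u * h.z * h.u⁻¹) ^ (i : ℕ) * (h.u * h.w * h.u⁻¹) ^ (j : ℕ) := by
              rw [conj_pow, conj_pow]; group
          _ = _ := by
              rw [h.u_inv, h.u_z, h.u_w]
              exact h.D_comm (pow_mem h.w_mem _) (pow_mem h.z_mem _)
      rw [← hdu, mul_inv_cancel_right] at e
      rw [← h.w_eq] at e
      obtain ⟨eij, -⟩ := h.L.grid_inj e
      refine ⟨i, ?_⟩
      rw [(show Commute h.z h.w from h.zw_comm).mul_pow, eij]
    rcases h.of_commute_zw h2 with e | e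
    · obtain ⟨i, hi⟩ := key g₀ e h1
      exact ⟨i, Or.inl (by rw [hg', hi, hy, conj_pow])⟩
    · obtain ⟨i, hi⟩ := key _ e (by rw [mul_assoc, ← mul_assoc h.u, ← h1, mul_assoc])
      refine ⟨i, Or.inr ?_⟩
      have : g₀ = (h.z * h.w) ^ i * h.u := by rw [← hi, mul_assoc, h.u_sq, mul_one]
      rw [hg', this, hy, conj_pow, ← hk]
      group

/-- A normal 2-subgroup of order 32 of `C(e)` with commutators in `⟨e⟩`. -/
structure CentData (f : Frame h) where
  T : Subgroup G
  y : G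
  le : T ≤ f.S₂
  card : Nat.card T = 32
  norm : ∀ g ∈ f.He, ∀ t ∈ T, g * t * g⁻¹ ∈ T
  comm : ∀ a ∈ T, ∀ b ∈ T, a * b * a⁻¹ * b⁻¹ = 1 ∨ a * b * a⁻¹ * b⁻¹ = f.e
  e_mem : f.e ∈ T
  y_mem : y ∈ f.He
  y_cube : y ^ 3 = 1
  y_ne : y ≠ 1
  y_fix : ∀ g ∈ f.He, g * y = y * g → ∃ i : ℕ, g = y ^ i ∨ g = y ^ i * f.e
  six : ∃ K : Subgroup f.He, K.Normal ∧ Group.IsNilpotent K ∧ K.index = 6 ∧
    (Nat.card K).Coprime 3 ∧ T.subgroupOf f.He ≤ K

theorem e_He : f.e ∈ f.He := f.mem_He.2 rfl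

theorem mem_zpowers_e {x : G} (hx : x ∈ Subgroup.zpowers f.e) : x = 1 ∨ x = f.e := by
  obtain ⟨k, rfl⟩ := Subgroup.mem_zpowers_iff.1 hx
  have h2 : f.e ^ (2 : ℤ) = 1 := by rw [zpow_two]; exact f.W_sq f.e_mem
  rw [← Int.emod_add_mul_ediv k 2, zpow_add, zpow_mul, h2, one_zpow, mul_one]
  rcases (show k % 2 = 0 ∨ k % 2 = 1 by omega) with e | e <;> rw [e]
  · exact Or.inl (zpow_zero _)
  · exact Or.inr (zpow_one _)

theorem exists_centData : Nonempty (CentData f) := by
  classical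
  haveI : Fact (Nat.Prime 2) := ⟨Nat.prime_two⟩
  haveI : Fact (Nat.Prime 3) := ⟨Nat.prime_three⟩
  obtain ⟨y, c', hyH, hcH, hy3, hy1, hinv, -, hfix⟩ := f.exists_three
  obtain ⟨Z, hZ⟩ : ∃ Z : Subgroup f.He, Z = (Subgroup.zpowers f.e).subgroupOf f.He := ⟨_, rfl⟩
  have hZmem : ∀ {g : f.He}, g ∈ Z ↔ (g : G) = 1 ∨ (g : G) = f.e := fun {g} => by
    rw [hZ, Subgroup.mem_subgroupOf]
    refine ⟨f.mem_zpowers_e, ?_⟩
    rintro (e | e) <;> rw [e]
    exacts [one_mem _, Subgroup.mem_zpowers _]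
  have hZc : ∀ g : f.He, ∀ z ∈ Z, g * z = z * g := fun g z hz => Subtype.ext (by
    rcases hZmem.1 hz with e | e <;> simp only [Subgroup.coe_mul, e]
    · simp
    · exact f.mem_He.1 g.2)
  haveI hZn : Z.Normal := ⟨fun z hz g => by rw [hZc g z hz, mul_inv_cancel_right]; exact hz⟩
  have he2 : orderOf f.e = 2 := orderOf_eq_prime (by rw [pow_two, f.W_sq f.e_mem]) f.e_ne
  have hZ2 : Nat.card Z = 2 := by
    rw [hZ, Nat.card_congr (Subgroup.subgroupOfEquivOfLe (Subgroup.zpowers_le.2 f.e_He)).toEquiv,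
      Nat.card_zpowers, he2]
  obtain ⟨π, hπ⟩ : ∃ π : f.He →* f.He ⧸ Z, π = QuotientGroup.mk' Z := ⟨_, rfl⟩
  have hπker : ∀ {g : f.He}, π g = 1 ↔ g ∈ Z := fun {g} => by
    rw [hπ, QuotientGroup.mk'_apply, QuotientGroup.eq_one_iff]
  obtain ⟨Y, hY⟩ : ∃ Y, Y = π ⟨y, hyH⟩ := ⟨_, rfl⟩
  have hY1 : Y ≠ 1 := fun e => by
    rcases hZmem.1 (hπker.1 (hY ▸ e)) with e' | e'
    · exact hy1 e'
    · have e3 := orderOf_dvd_of_pow_eq_one hy3
      rw [show y = f.e from e', he2] at e3
      norm_num at e3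
  have hY3 : Y ^ 3 = 1 := by
    rw [hY, ← map_pow, show (⟨y, hyH⟩ : f.He) ^ 3 = 1 from Subtype.ext hy3, map_one]
  have hcomm : ∀ g : f.He, π g * Y = Y * π g → (g : G) * y = y * g := by
    intro g e
    rw [hY, ← map_mul, ← map_mul, ← inv_mul_eq_one, ← map_inv, ← map_mul, hπker, hZmem] at e
    simp only [Subgroup.coe_mul, Subgroup.coe_inv] at e
    rcases e with e | e
    · exact inv_mul_eq_one.1 e
    · exfalso
      have e1 : (g : G)⁻¹ * y * g = y * f.e := by
        rw [← e]; group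
      have e2 : ((g : G)⁻¹ * y * g) ^ 3 = 1 := by
        have := conj_pow (a := (g : G)⁻¹) (b := y) (i := 3)
        rw [inv_inv] at this
        rw [this, hy3, mul_one, inv_mul_cancel]
      rw [e1, (show Commute y f.e from f.mem_He.1 hyH).mul_pow, hy3, one_mul] at e2
      have := orderOf_dvd_of_pow_eq_one e2
      rw [he2] at this
      norm_num at this
  have hHyp : CfsgLib.SelfCentralizing.Hyp (f.He ⧸ Z) 3 Y := by
    refine ⟨Nat.prime_three, orderOf_eq_prime hY3 hY1, le_antisymm (fun g hg => ?_)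
      (Subgroup.zpowers_le.2 (Subgroup.mem_centralizer_singleton_iff.2 rfl))⟩
    rw [Subgroup.mem_centralizer_singleton_iff] at hg
    obtain ⟨g, rfl⟩ := QuotientGroup.mk'_surjective Z g
    rw [← hπ] at hg ⊢
    obtain ⟨i, hi⟩ := hfix g g.2 (hcomm g hg)
    have : π g = Y ^ i := by
      rw [hY, ← map_pow, eq_comm, ← inv_mul_eq_one, ← map_inv, ← map_mul, hπker, hZmem]
      simp only [Subgroup.coe_mul, Subgroup.coe_inv, SubmonoidClass.coe_pow]
      rcases hi with e | e
      · exact Or.inl (by rw [e, inv_mul_cancel])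
      · exact Or.inr (by rw [e, inv_mul_cancel_left])
    rw [this]
    exact Subgroup.npow_mem_zpowers _ _
  -- the 2-part
  have hS : 64 ∣ Nat.card f.He := f.card_S₂ ▸ Subgroup.card_dvd_of_le f.S₂_le_He
  have h128 : ¬ 128 ∣ Nat.card f.He := fun e =>
    f.not_128_dvd (e.trans (Subgroup.card_subgroup_dvd_card _))
  have hq : Nat.card f.He = Nat.card (f.He ⧸ Z) * 2 := by
    rw [Subgroup.card_eq_card_quotient_mul_card_subgroup Z, hZ2]
  rcases CfsgLib.SelfCentralThree.shape hHyp with ⟨N, hN, hnil, hcop, hidx⟩ |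
    ⟨N, hN, -, hexp, hidx, -⟩ | ⟨hc, -⟩
  · haveI := hN
    have hYN : Y ∉ N := fun e => by
      have h3 := Subgroup.orderOf_dvd_natCard N e
      rw [orderOf_eq_prime hY3 hY1] at h3
      exact (Nat.prime_three.coprime_iff_not_dvd.1 hcop.symm) h3
    have h6 : N.index = 6 := by
      refine hidx.resolve_left fun h3 => ?_
      haveI : IsCyclic ((f.He ⧸ Z) ⧸ N) :=
        isCyclic_of_prime_card (p := 3) (by rw [← Subgroup.index_eq_card, h3])
      obtain ⟨g, hg⟩ := IsCyclic.exists_generator (α := (f.He ⧸ Z) ⧸ N)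
      obtain ⟨a, ha⟩ : ∃ a, a = (QuotientGroup.mk' N) Y := ⟨_, rfl⟩
      obtain ⟨b, hb⟩ : ∃ b, b = (QuotientGroup.mk' N) (π ⟨c', hcH⟩) := ⟨_, rfl⟩
      have hab : b * a * b⁻¹ = a⁻¹ := by
        rw [ha, hb, hY, ← map_mul, ← map_inv, ← map_mul, ← map_inv]
        refine congrArg _ ?_
        rw [← map_mul, ← map_inv π, ← map_mul]
        exact congrArg π (Subtype.ext hinv)
      obtain ⟨i, hi⟩ := Subgroup.mem_zpowers_iff.1 (hg a)
      obtain ⟨j, hj⟩ := Subgroup.mem_zpowers_iff.1 (hg b)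
      rw [← hi, ← hj, ((Commute.refl g).zpow_zpow j i).eq, mul_inv_cancel_right, hi] at hab
      have h2 : a * a = 1 := by
        conv_lhs => arg 1; rw [hab]
        exact inv_mul_cancel a
      have hd := Nat.dvd_gcd (orderOf_dvd_of_pow_eq_one (n := 2) (by rw [pow_two, h2]))
        (orderOf_dvd_natCard a)
      rw [← Subgroup.index_eq_card, h3] at hd
      refine hYN ((QuotientGroup.eq_one_iff Y).1 ?_)
      show (QuotientGroup.mk' N) Y = 1
      rw [← ha]
      exact orderOf_eq_one_iff.1 (Nat.dvd_one.1 hd)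
    obtain ⟨K, hK⟩ : ∃ K : Subgroup f.He, K = N.comap π := ⟨_, rfl⟩
    have hKn : K.Normal := hK ▸ hN.comap π
    have hπsurj : Function.Surjective π := hπ ▸ QuotientGroup.mk'_surjective Z
    have hKi : K.index = 6 := by rw [hK, Subgroup.index_comap_of_surjective _ hπsurj, h6]
    have hKnil : Group.IsNilpotent K := by
      haveI := hnil
      let φ : K →* N := (π.comp K.subtype).codRestrict N fun g =>
        show π (g : f.He) ∈ N from Subgroup.mem_comap.1 (hK ▸ g.2)
      refine Subgroup.isNilpotent_of_ker_le_center φ fun g hg => Subgroup.mem_center_iff.2 fun k => ?_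
      have hgZ : (g : f.He) ∈ Z := hπker.1 (congrArg Subtype.val (MonoidHom.mem_ker.1 hg))
      exact Subtype.ext (hZc k g hgZ)
    have hKcard : Nat.card K * 6 = Nat.card f.He := hKi ▸ K.card_mul_index
    have hKcop : (Nat.card K).Coprime 3 := by
      refine ((Nat.prime_three.coprime_iff_not_dvd).2 fun h3 => ?_).symm
      have h1 : Nat.card K = Nat.card N * 2 := by
        have h2 := N.card_mul_index
        rw [h6] at h2
        omega
      rw [h1] at h3
      rcases Nat.prime_three.dvd_mul.1 h3 with e | e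
      · exact (Nat.prime_three.coprime_iff_not_dvd.1 hcop.symm) e
      · norm_num at e
    -- the Sylow 2-subgroup of `K`
    obtain ⟨S', hS'⟩ : ∃ S' : Subgroup f.He, S' = f.S₂.subgroupOf f.He := ⟨_, rfl⟩
    have hS'card : Nat.card S' = 64 := by
      rw [hS', Nat.card_congr (Subgroup.subgroupOfEquivOfLe f.S₂_le_He).toEquiv, f.card_S₂]
    obtain ⟨T', hT'⟩ : ∃ T' : Subgroup f.He, T' = S' ⊓ K := ⟨_, rfl⟩
    have hS'p : IsPGroup 2 S' := IsPGroup.of_card (n := 6) (by rw [hS'card]; rfl)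
    have hT'p : IsPGroup 2 T' := hS'p.to_le (hT' ▸ inf_le_left)
    have hT'card : Nat.card T' = 32 := by
      have h1 := (T'.subgroupOf S').card_mul_index
      rw [Nat.card_congr (Subgroup.subgroupOfEquivOfLe (show T' ≤ S' from hT' ▸ inf_le_left)).toEquiv,
        hS'card] at h1
      have hi : (T'.subgroupOf S').index ∣ 6 := by
        rw [← hKi]
        show T'.relIndex S' ∣ _
        rw [hT', Subgroup.inf_relIndex_left]
        exact Subgroup.relIndex_dvd_index_of_normal K S'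
      have hne : (T'.subgroupOf S').index ≠ 1 := fun e => by
        rw [e, mul_one] at h1
        have h64 : 64 ∣ Nat.card K := h1 ▸ Subgroup.card_dvd_of_le (hT' ▸ inf_le_right)
        refine h128 ?_
        rw [← hKcard, show 128 = 64 * 2 from rfl]
        exact Nat.mul_dvd_mul h64 (by norm_num)
      have hd : (T'.subgroupOf S').index ∣ 2 ^ 6 := Dvd.intro_left _ h1
      have h2 : (T'.subgroupOf S').index ∣ 2 :=
        (Nat.dvd_gcd hi hd).trans (by norm_num)
      rw [((Nat.dvd_prime Nat.prime_two).1 h2).resolve_left hne] at h1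
      omega
    have hTK : T' ≤ K := hT' ▸ inf_le_right
    -- normality
    have hnorm : ∀ g : f.He, ∀ t ∈ T', g * t * g⁻¹ ∈ T' := by
      haveI := hKnil
      have hf : (Nat.card K).factorization 2 = 5 := by
        have h1 : 5 ≤ (Nat.card K).factorization 2 :=
          (Nat.prime_two.pow_dvd_iff_le_factorization Nat.card_pos.ne').1
            (by rw [show 2 ^ 5 = Nat.card T' by rw [hT'card]; rfl]
                exact Subgroup.card_dvd_of_le hTK)
        have h2 : ¬ 6 ≤ (Nat.card K).factorization 2 := fun e => h128 (by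
          have h64 := (Nat.prime_two.pow_dvd_iff_le_factorization Nat.card_pos.ne').2 e
          rw [← hKcard, show 128 = 64 * 2 from rfl]
          exact Nat.mul_dvd_mul h64 (by norm_num))
        omega
      let P : Sylow 2 K := Sylow.ofCard (T'.subgroupOf K) (by
        rw [Nat.card_congr (Subgroup.subgroupOfEquivOfLe hTK).toEquiv, hT'card, hf]; rfl)
      have hPn : (P : Subgroup K).Normal :=
        P.normal_of_normalizerCondition Group.normalizerCondition_of_isNilpotent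
      haveI : (P : Subgroup K).Characteristic := P.characteristic_of_normal hPn
      haveI := hKn
      haveI hn : ((P : Subgroup K).map K.subtype).Normal :=
        ConjAct.normal_of_characteristic_of_normal
      intro g t ht
      have := hn.conj_mem t ⟨⟨t, hTK ht⟩, ht, rfl⟩ g
      obtain ⟨x, hx, e⟩ := this
      rw [← e]; exact hx
    have heT : (⟨f.e, f.e_He⟩ : f.He) ∈ T' := by
      rw [hT', Subgroup.mem_inf, hS', hK, Subgroup.mem_comap, hπker.2 (hZmem.2 (Or.inr rfl))]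
      exact ⟨f.M₂_le_S₂ (f.W_le_M₂ f.e_mem), one_mem _⟩
    -- the image is abelian
    have hAcard : Nat.card (T'.map π) = 16 := by
      have h1 := Subgroup.card_eq_card_quotient_mul_card_subgroup (π.subgroupMap T').ker
      have e : Nat.card (π.subgroupMap T').ker = 2 := by
        rw [← hZ2]
        refine Nat.card_congr
          { toFun := fun g => ⟨(g : T'), hπker.1 (congrArg Subtype.val g.2)⟩
            invFun := fun g => ⟨⟨g, ?_⟩, Subtype.ext (hπker.2 g.2)⟩
            left_inv := fun _ => rfl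
            right_inv := fun _ => rfl }
        rcases hZmem.1 g.2 with e | e
        · rw [show (g : f.He) = 1 from Subtype.ext e]; exact one_mem _
        · rw [show (g : f.He) = ⟨f.e, f.e_He⟩ from Subtype.ext e]; exact heT
      rw [hT'card, e, Nat.card_congr (QuotientGroup.quotientKerEquivOfSurjective _
        (π.subgroupMap_surjective T')).toEquiv] at h1
      omega
    have hAy : ∀ a ∈ T'.map π, Y * a * Y⁻¹ ∈ T'.map π := by
      rintro _ ⟨t, ht, rfl⟩
      refine ⟨_, hnorm ⟨y, hyH⟩ t ht, ?_⟩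
      rw [map_mul, map_mul, map_inv, hY]
    have hAfix : ∀ a ∈ T'.map π, Y * a = a * Y → a = 1 := by
      rintro _ ⟨t, ht, rfl⟩ e
      obtain ⟨i, hi⟩ := hfix t t.2 (hcomm t e.symm)
      obtain ⟨k, hk⟩ := IsPGroup.iff_orderOf.1 hT'p ⟨t, ht⟩
      rw [Subgroup.orderOf_mk, ← Subgroup.orderOf_coe] at hk
      have hyi : y ^ i = 1 := by
        have hdiv : orderOf (y ^ i) ∣ 3 := orderOf_dvd_of_pow_eq_one (by
          rw [← pow_mul, mul_comm, pow_mul, hy3, one_pow])
        have h2 : orderOf (y ^ i) ∣ 2 ^ (k + 1) := by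
          refine orderOf_dvd_of_pow_eq_one ?_
          have ht2 : (t : G) ^ (2 ^ (k + 1)) = 1 := by
            rw [pow_succ, pow_mul, ← hk, pow_orderOf_eq_one, one_pow]
          rcases hi with e' | e'
          · rw [← e', ht2]
          · rw [e', ((show Commute y f.e from f.mem_He.1 hyH).pow_left i).mul_pow,
              show f.e ^ 2 ^ (k + 1) = 1 by
                rw [pow_succ', pow_mul, pow_two, f.W_sq f.e_mem, one_pow], mul_one] at ht2
            exact ht2
        exact orderOf_eq_one_iff.1 (Nat.eq_one_of_dvd_coprimes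
          (Nat.Coprime.pow_right (k + 1) (by norm_num : Nat.Coprime 3 2)) hdiv h2)
      refine hπker.2 (hZmem.2 ?_)
      rw [hyi, one_mul] at hi
      exact hi
    have habel := comm_of_fpf hAcard hY3 hAy hAfix
    refine ⟨⟨T'.map f.He.subtype, y, ?_, ?_, ?_, ?_, ?_, hyH, hy3, hy1, hfix, K, hKn, hKnil, hKi,
      hKcop, ?_⟩⟩
    · rintro _ ⟨t, ht, rfl⟩
      have : t ∈ S' := (hT' ▸ ht : t ∈ S' ⊓ K).1
      rw [hS'] at this
      exact this
    · rw [Subgroup.card_map_of_injective f.He.subtype_injective, hT'card]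
    · rintro g hg _ ⟨t, ht, rfl⟩
      exact ⟨_, hnorm ⟨g, hg⟩ t ht, rfl⟩
    · rintro _ ⟨a, ha, rfl⟩ _ ⟨b, hb, rfl⟩
      have e := habel _ ⟨a, ha, rfl⟩ _ ⟨b, hb, rfl⟩
      have e2 : π (a * b * a⁻¹ * b⁻¹) = 1 := by
        rw [map_mul, map_mul, map_mul, map_inv, map_inv, e, mul_inv_cancel_right, mul_inv_cancel]
      exact hZmem.1 (hπker.1 e2)
    · exact ⟨_, heT, rfl⟩
    · intro g hg
      obtain ⟨t, ht, e⟩ := (Subgroup.mem_subgroupOf.1 hg)
      exact Subtype.ext e ▸ hTK ht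
  · exfalso
    haveI := hN
    have hNp : IsPGroup 2 N := fun n => ⟨1, Subtype.ext (by
      have := hexp n n.2
      simpa using this)⟩
    obtain ⟨k, hk⟩ := IsPGroup.iff_card.1 hNp
    have h1 := N.card_mul_index
    rw [hidx, hk] at h1
    have hk3 : k = 3 := by
      have h64 := hS
      rw [hq, ← h1] at h64
      have h128' := h128
      rw [hq, ← h1] at h128'
      rcases (show k ≤ 2 ∨ k = 3 ∨ 4 ≤ k by omega) with e | e | e
      · exfalso
        interval_cases k <;> norm_num at h64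
      · exact e
      · refine absurd ?_ h128'
        obtain ⟨l, rfl⟩ := Nat.exists_eq_add_of_le e
        exact ⟨2 ^ l * 15, by ring⟩
    have hfixN : ∀ a ∈ N, Y * a = a * Y → a = 1 := fun a ha e => by
      have h3 := Subgroup.orderOf_dvd_natCard _ (hHyp.mem_zpowers_of_commute e.symm)
      rw [hHyp.card_zpowers] at h3
      have h2 : orderOf a ∣ 2 := orderOf_dvd_of_pow_eq_one (hexp a ha)
      exact orderOf_eq_one_iff.1 (Nat.eq_one_of_dvd_coprimes (by norm_num : Nat.Coprime 3 2) h3 h2)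
    have hm := fpf_card_mod hY3 (fun a ha => hN.conj_mem a ha Y) hfixN
    rw [hk, hk3] at hm
    norm_num at hm
  · exfalso
    rw [hq, hc] at hS
    norm_num at hS

end Frame

end CfsgLib.AltEightLocal
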