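import Cfsg.Agent.AltEightLocal.OddKill
import Cfsg.Agent.NilpotentCover.Basic
import Cfsg.Agent.FgsSix.SmallOrders
import Cfsg.Agent.Coprime.Action
import Cfsg.Prelude.Def_Solvable

/-!
`C(e)` has shape `2^{1+4}.S₃`.
-/

set_option autoImplicit false
set_option linter.style.haveILetI false

namespace CfsgLib.AltEightLocal

open Equiv

variable {G : Type*} [Group G]

namespace Frame

variable {h : Hyp G} [Finite G] {f : Frame h} (d : CentData f)
include d

/-- The kernel of index six has order 32. -/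
theorem CentData.index_T : (d.T.subgroupOf f.He).index = 6 ∧ (d.T.subgroupOf f.He).Normal := by
  haveI : Fact (Nat.Prime 2) := ⟨Nat.prime_two⟩
  obtain ⟨K, hKn, hKnil, hKi, hKcop, hTK⟩ := d.six
  haveI := hKnil
  haveI := hKn
  obtain ⟨T', hT'⟩ : ∃ T', T' = d.T.subgroupOf f.He := ⟨_, rfl⟩
  rw [← hT'] at hTK ⊢
  have hTle : d.T ≤ f.He := d.le.trans f.S₂_le_He
  have hT'card : Nat.card T' = 32 := by
    rw [hT', Nat.card_congr (Subgroup.subgroupOfEquivOfLe hTle).toEquiv, d.card]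
  have hT'n : T'.Normal := ⟨fun t ht g => by
    rw [hT', Subgroup.mem_subgroupOf] at ht ⊢
    exact d.norm g g.2 t ht⟩
  refine ⟨?_, hT'n⟩
  suffices hKT : K ≤ T' by rw [le_antisymm hTK hKT, hKi]
  obtain ⟨U, hU⟩ : ∃ U : Subgroup K, U = T'.subgroupOf K := ⟨_, rfl⟩
  have hUcard : Nat.card U = 32 := by
    rw [hU, Nat.card_congr (Subgroup.subgroupOfEquivOfLe hTK).toEquiv, hT'card]
  haveI hUn : U.Normal := hU ▸ hT'n.subgroupOf K
  have hUodd : Odd U.index := by
    rw [Nat.odd_iff]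
    by_contra he
    have h2 : 2 ∣ U.index := by omega
    have h64 : 64 ∣ Nat.card K := by
      rw [← U.card_mul_index, hUcard]; exact Nat.mul_dvd_mul_left 32 h2
    refine f.not_128_dvd ((?_ : 128 ∣ Nat.card f.He).trans (Subgroup.card_subgroup_dvd_card _))
    rw [← K.card_mul_index, hKi, show 128 = 64 * 2 from rfl]
    exact Nat.mul_dvd_mul h64 (by norm_num)
  obtain ⟨Q₀, hQ₀⟩ := Subgroup.exists_left_complement'_of_coprime (N := U) (by
    rw [hUcard, show 32 = 2 ^ 5 from rfl]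
    exact Nat.Coprime.pow_left 5 (Nat.coprime_two_left.2 hUodd))
  have hQodd : Odd (Nat.card Q₀) := hQ₀.index_eq_card ▸ hUodd
  have hcomm : ∀ q : K, Odd (orderOf q) → ∀ t : G, t ∈ d.T → ((q : f.He) : G) * t = t * (q : f.He) := by
    intro q hq t ht
    have htK : (⟨t, hTle ht⟩ : f.He) ∈ K := hTK (by rw [hT', Subgroup.mem_subgroupOf]; exact ht)
    have ho : (orderOf q).Coprime (orderOf (⟨⟨t, hTle ht⟩, htK⟩ : K)) := by
      have : orderOf (⟨⟨t, hTle ht⟩, htK⟩ : K) ∣ 2 ^ 5 := by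
        rw [Subgroup.orderOf_mk, Subgroup.orderOf_mk, show 2 ^ 5 = Nat.card d.T by rw [d.card]; rfl]
        exact Subgroup.orderOf_dvd_natCard _ ht
      exact Nat.Coprime.coprime_dvd_right this
        (Nat.Coprime.pow_right 5 (Nat.coprime_two_right.2 hq))
    exact congrArg (fun x : K => ((x : f.He) : G))
      (CfsgLib.NilpotentCover.commute_of_coprime q _ ho).eq
  -- odd elements form the complement
  have hQmem : ∀ q : K, Odd (orderOf q) → q ∈ Q₀ := by
    intro q hq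
    obtain ⟨⟨q₀, t⟩, e⟩ := hQ₀.2 q
    have e' : (q₀ : K) * (t : K) = q := e
    have hc : Commute (q₀ : K) (t : K) := by
      refine CfsgLib.NilpotentCover.commute_of_coprime _ _ ?_
      refine Nat.Coprime.coprime_dvd_right ((Subgroup.orderOf_dvd_natCard U t.2).trans
        (dvd_of_eq hUcard)) ?_
      rw [show 32 = 2 ^ 5 from rfl]
      exact Nat.Coprime.pow_right 5 (Nat.coprime_two_right.2 (odd_of_mem hQodd q₀.2))
    have ht1 : (t : K) = 1 := by
      obtain ⟨m, hm⟩ : ∃ m, m = orderOf q * Nat.card Q₀ := ⟨_, rfl⟩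
      have hmodd : Odd m := hm ▸ hq.mul hQodd
      have h1 : (t : K) ^ m = 1 := by
        have e2 : q ^ m = 1 := by rw [hm, pow_mul, pow_orderOf_eq_one, one_pow]
        rw [← e', hc.mul_pow] at e2
        have e3 : (q₀ : K) ^ m = 1 := by
          have h3 : q₀ ^ Nat.card Q₀ = 1 := pow_card_eq_one'
          rw [hm, mul_comm, pow_mul, ← SubmonoidClass.coe_pow, h3, OneMemClass.coe_one, one_pow]
        rwa [e3, one_mul] at e2
      have hd := Nat.dvd_gcd (orderOf_dvd_of_pow_eq_one h1) (Subgroup.orderOf_dvd_natCard U t.2)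
      rw [hUcard, show 32 = 2 ^ 5 from rfl,
        (Nat.Coprime.pow_right 5 (Nat.coprime_two_right.2 hmodd))] at hd
      exact orderOf_eq_one_iff.1 (Nat.dvd_one.1 hd)
    rw [← e', ht1, mul_one]; exact q₀.2
  have hv' : h.v' ∈ f.He :=
    f.S₂_le_He (f.M₂_le_S₂ (f.W_le_M₂ (h.Vs_le_W h.v'_mem)))
  obtain ⟨A, hA⟩ : ∃ A : Subgroup G, A = Q₀.map (f.He.subtype.comp K.subtype) := ⟨_, rfl⟩
  have hAodd : ∀ a ∈ A, Odd (orderOf a) := by
    intro a ha
    rw [hA] at ha
    obtain ⟨q, hq, rfl⟩ := ha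
    show Odd (orderOf ((q : f.He) : G))
    rw [Subgroup.orderOf_coe, Subgroup.orderOf_coe]
    exact odd_of_mem hQodd hq
  have hAT : ∀ a ∈ A, ∀ t ∈ d.T, a * t = t * a := by
    intro a ha t ht
    rw [hA] at ha
    obtain ⟨q, hq, rfl⟩ := ha
    exact hcomm q (odd_of_mem hQodd hq) t ht
  have hAHe : ∀ a ∈ A, a ∈ f.He := by
    intro a ha
    rw [hA] at ha
    obtain ⟨q, -, rfl⟩ := ha
    exact (q : f.He).2
  have hAv' : ∀ a ∈ A, h.v' * a * h.v'⁻¹ ∈ A := by
    intro a ha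
    rw [hA] at ha ⊢
    obtain ⟨q, hq, rfl⟩ := ha
    have hmem : (⟨h.v', hv'⟩ : f.He) * (q : f.He) * (⟨h.v', hv'⟩)⁻¹ ∈ K := hKn.conj_mem _ q.2 _
    refine ⟨⟨_, hmem⟩, hQmem _ ?_, rfl⟩
    rw [Subgroup.orderOf_mk]
    rw [show orderOf ((⟨h.v', hv'⟩ : f.He) * (q : f.He) * (⟨h.v', hv'⟩)⁻¹) = orderOf (q : f.He) from
      orderOf_injective (MulAut.conj (⟨h.v', hv'⟩ : f.He)).toMonoidHom
        (MulAut.conj (⟨h.v', hv'⟩ : f.He)).injective (q : f.He), Subgroup.orderOf_coe]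
    exact odd_of_mem hQodd hq
  obtain ⟨hinv, -⟩ := invol_inverts (A := A) (t := h.v') (h.Vs_sq h.v'_mem) hAv' (fun a ha e => by
    refine eq_one_of_sq_of_odd (f.W_sq (h.mem_W.2 ⟨hAT a ha _ d.v_mem, e.symm, ?_⟩)) (hAodd a ha)
    intro h3
    refine (Nat.prime_three.coprime_iff_not_dvd.1 hKcop.symm) (h3.trans ?_)
    rw [hA] at ha
    obtain ⟨q, -, rfl⟩ := ha
    show orderOf ((q : f.He) : G) ∣ _
    rw [Subgroup.orderOf_coe, Subgroup.orderOf_coe]
    exact orderOf_dvd_natCard q)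
  intro k hk
  obtain ⟨⟨q₀, t⟩, e⟩ := hQ₀.2 (⟨k, hk⟩ : K)
  have hq₀ : ((q₀ : K) : f.He) = 1 := by
    have ha : (((q₀ : K) : f.He) : G) ∈ A := hA ▸ ⟨_, q₀.2, rfl⟩
    exact Subtype.ext (f.odd_kill d.s_eq (hAodd _ ha) (hAT _ ha _ d.v_mem) (hAT _ ha _ d.w₁_mem)
      (hAT _ ha _ d.p_mem) (hinv _ ha))
  have e' : ((q₀ : K) : f.He) * ((t : K) : f.He) = k := congrArg Subtype.val e
  rw [hq₀, one_mul] at e'
  rw [← e']
  exact Subgroup.mem_subgroupOf.1 (hU.le t.2)

theorem CentData.card_He : Nat.card f.He = 192 := by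
  rw [← (d.T.subgroupOf f.He).card_mul_index, d.index_T.1,
    Nat.card_congr (Subgroup.subgroupOfEquivOfLe (d.le.trans f.S₂_le_He)).toEquiv, d.card]

theorem CentData.y_pow_mem {i : ℕ} (hm : d.y ^ i ∈ d.T) : d.y ^ i = 1 := by
  have h1 : orderOf (d.y ^ i) ∣ 3 := orderOf_dvd_of_pow_eq_one (by
    rw [← pow_mul, mul_comm, pow_mul, d.y_cube, one_pow])
  have h2 : orderOf (d.y ^ i) ∣ 2 ^ 5 := by
    rw [show 2 ^ 5 = Nat.card d.T by rw [d.card]; rfl]
    exact Subgroup.orderOf_dvd_natCard _ hm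
  exact orderOf_eq_one_iff.1 (Nat.eq_one_of_dvd_coprimes (by norm_num) h1 h2)

theorem CentData.eq_one_of_fix {g : G} (hg : g ∈ d.T) (hy : g * d.y = d.y * g) :
    g = 1 ∨ g = f.e := by
  obtain ⟨i, hi⟩ := d.y_fix g (f.S₂_le_He (d.le hg)) hy
  have hyi : d.y ^ i = 1 := by
    refine d.y_pow_mem ?_
    rcases hi with e | e
    · rw [← e]; exact hg
    · have := mul_mem hg (inv_mem d.e_mem)
      rwa [e, mul_inv_cancel_right] at this
  rw [hyi, one_mul] at hi
  exact hi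

theorem CentData.exists_quotient (hn : (d.T.subgroupOf f.He).Normal) :
    Nonempty (f.He ⧸ d.T.subgroupOf f.He ≃* Equiv.Perm (Fin 3)) := by
  haveI := hn
  haveI : Fact (Nat.Prime 3) := ⟨Nat.prime_three⟩
  obtain ⟨T', hT'⟩ : ∃ T', T' = d.T.subgroupOf f.He := ⟨_, rfl⟩
  have hT'mem : ∀ {g : f.He}, g ∈ T' ↔ (g : G) ∈ d.T := fun {g} => by
    rw [hT', Subgroup.mem_subgroupOf]
  subst hT'
  have h6 : Nat.card (f.He ⧸ d.T.subgroupOf f.He) = 6 := by
    rw [← Subgroup.index_eq_card, d.index_T.1]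
  obtain ⟨π, hπ⟩ : ∃ π : f.He →* f.He ⧸ d.T.subgroupOf f.He, π = QuotientGroup.mk' _ := ⟨_, rfl⟩
  have hπker : ∀ {g : f.He}, π g = 1 ↔ (g : G) ∈ d.T := fun {g} => by
    rw [hπ, QuotientGroup.mk'_apply, QuotientGroup.eq_one_iff, hT'mem]
  obtain ⟨a, ha⟩ : ∃ a, a = π ⟨d.y, d.y_mem⟩ := ⟨_, rfl⟩
  have ha1 : a ≠ 1 := fun e => d.y_ne (by
    have := d.y_pow_mem (i := 1) (by rw [pow_one]; exact hπker.1 (ha ▸ e))
    rwa [pow_one] at this)
  have ha3 : orderOf a = 3 := orderOf_eq_prime (by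
    rw [ha, ← map_pow, show (⟨d.y, d.y_mem⟩ : f.He) ^ 3 = 1 from Subtype.ext d.y_cube, map_one]) ha1
  haveI : Fact (Nat.Prime 2) := ⟨Nat.prime_two⟩
  obtain ⟨t, ht⟩ := exists_prime_orderOf_dvd_card' (G := f.He ⧸ d.T.subgroupOf f.He) 2
    (by rw [h6]; norm_num)
  have hidx : (Subgroup.zpowers a).index = 2 := by
    have := (Subgroup.zpowers a).card_mul_index
    rw [Nat.card_zpowers, ha3, h6] at this
    omega
  haveI := Subgroup.normal_of_index_eq_two hidx
  obtain ⟨k, hk⟩ := Subgroup.mem_zpowers_iff.1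
    ((inferInstance : (Subgroup.zpowers a).Normal).conj_mem a (Subgroup.mem_zpowers a) t)
  have h3 : a ^ (3 : ℤ) = 1 := by rw [← orderOf_dvd_iff_zpow_eq_one, ha3]; rfl
  rw [← Int.emod_add_mul_ediv k 3, zpow_add, zpow_mul, h3, one_zpow, mul_one] at hk
  refine CfsgLib.FgsSix.nonempty_mulEquiv_perm_three h6 ha3 ht ?_
  rcases (show k % 3 = 0 ∨ k % 3 = 1 ∨ k % 3 = 2 by omega) with e | e | e <;> rw [e] at hk
  · exact absurd (conj_eq_one_iff.1 (hk.symm.trans (zpow_zero a))) ha1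
  · exfalso
    rw [zpow_one] at hk
    obtain ⟨x, hx⟩ := (hπ ▸ QuotientGroup.mk'_surjective _ : Function.Surjective π) t
    have hxy : a * t = t * a := (commute_iff_conj.1 hk.symm).symm
    rw [ha, ← hx, ← map_mul, ← map_mul, ← inv_mul_eq_one, ← map_inv, ← map_mul, hπker] at hxy
    simp only [Subgroup.coe_mul, Subgroup.coe_inv] at hxy
    have hy1 : d.y ≠ 1 := d.y_ne
    haveI : IsCyclic (Subgroup.zpowers d.y) := inferInstance
    have hyN : d.y ∈ Subgroup.normalizer (d.T : Set G) :=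
      conj_mem_normalizer (d.norm _ d.y_mem)
    have hstep : (x : G)⁻¹ * (d.y * (x : G) * d.y⁻¹) ∈ d.T := by
      have hrev := inv_mem hxy
      have h0 := d.norm _ d.y_mem _ hrev
      convert h0 using 1
      group
    obtain ⟨x', hx'A, hx'T⟩ := Coprime.exists_fixed_mem_coset
      (Subgroup.zpowers_le.2 hyN : Subgroup.zpowers d.y ≤ Subgroup.normalizer (d.T : Set G))
      (by rw [Nat.card_zpowers, orderOf_eq_prime d.y_cube hy1, d.card]; norm_num)
      (Or.inl inferInstance) (k := (x : G)) (by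
        intro a ha
        rw [← mem_powers_iff_mem_zpowers, Submonoid.mem_powers_iff] at ha
        obtain ⟨n, rfl⟩ := ha
        induction n with
        | zero => simp
        | succ n ih =>
          have := mul_mem hstep (d.norm _ d.y_mem _ ih)
          convert this using 1
          rw [pow_succ']; group)
    have hx'y : x' * d.y = d.y * x' :=
      (Subgroup.mem_centralizer_iff.1 hx'A d.y (Subgroup.mem_zpowers d.y)).symm
    have hx'He : x' ∈ f.He := by
      have := mul_mem x.2 (f.S₂_le_He (d.le hx'T))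
      rwa [mul_inv_cancel_left] at this
    have hxπ : π ⟨x', hx'He⟩ = t := by
      rw [← hx, eq_comm, ← inv_mul_eq_one, ← map_inv, ← map_mul, hπker]
      exact hx'T
    obtain ⟨i, hi⟩ := d.y_fix x' hx'He hx'y
    have hti : t = a ^ i := by
      rw [← hxπ, ha, ← map_pow, eq_comm, ← inv_mul_eq_one, ← map_inv, ← map_mul, hπker]
      simp only [Subgroup.coe_mul, Subgroup.coe_inv, SubmonoidClass.coe_pow]
      rcases hi with e | e <;> rw [e]
      · rw [inv_mul_cancel]; exact one_mem _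
      · rw [inv_mul_cancel_left]; exact d.e_mem
    have hd : orderOf t ∣ 3 := orderOf_dvd_of_pow_eq_one (by
      rw [hti, ← pow_mul, mul_comm, pow_mul, ← ha3, pow_orderOf_eq_one, one_pow])
    rw [ht] at hd
    norm_num at hd
  · rw [← hk, eq_comm]
    refine inv_eq_of_mul_eq_one_right ?_
    rw [zpow_two, ← mul_assoc]
    rw [show (3 : ℤ) = 1 + 1 + 1 by norm_num, zpow_add, zpow_add, zpow_one] at h3
    exact h3

theorem CentData.pCore_eq : Cfsg.pCore 2 f.He = d.T.subgroupOf f.He := by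
  haveI hTn := d.index_T.2
  have hTle : d.T ≤ f.He := d.le.trans f.S₂_le_He
  obtain ⟨e⟩ := d.exists_quotient hTn
  refine le_antisymm (sSup_le ?_) (le_sSup ⟨hTn, IsPGroup.of_card (n := 5) (by
    rw [Nat.card_congr (Subgroup.subgroupOfEquivOfLe hTle).toEquiv, d.card]; rfl)⟩)
  rintro N ⟨hN, hNp⟩
  obtain ⟨M, hM⟩ : ∃ M : Subgroup (Equiv.Perm (Fin 3)),
      M = N.map (e.toMonoidHom.comp (QuotientGroup.mk' (d.T.subgroupOf f.He))) := ⟨_, rfl⟩
  have hMn : M.Normal := hM ▸ hN.map _ (e.surjective.comp (QuotientGroup.mk'_surjective _))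
  have hM2 : IsPGroup 2 M := hM ▸ hNp.map _
  have hbot : M = ⊥ := by
    rw [Subgroup.eq_bot_iff_forall]
    intro σ hσ
    obtain ⟨k, hk⟩ := hM2 ⟨σ, hσ⟩
    have hk' : σ ^ 2 ^ k = 1 := by
      have := congrArg Subtype.val hk
      simpa using this
    have h6 : σ ^ 6 = 1 := by
      rw [show 6 = Nat.card (Equiv.Perm (Fin 3)) by
        rw [Nat.card_eq_fintype_card, Fintype.card_perm, Fintype.card_fin]; rfl]
      exact pow_card_eq_one'
    have h2 : σ * σ = 1 := by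
      rw [← pow_two, ← orderOf_dvd_iff_pow_eq_one]
      refine Dvd.dvd.trans (Nat.dvd_gcd (orderOf_dvd_of_pow_eq_one hk') (orderOf_dvd_of_pow_eq_one h6)) ?_
      have hd : Nat.gcd (2 ^ k) 6 ∣ 2 * 3 := Nat.gcd_dvd_right _ _
      exact (Nat.Coprime.dvd_of_dvd_mul_right (Nat.Coprime.coprime_dvd_left (Nat.gcd_dvd_left _ _)
        (Nat.Coprime.pow_left k (by norm_num))) hd)
    have key : ∀ σ : Equiv.Perm (Fin 3), σ * σ = 1 → σ ≠ 1 →
        ∃ τ, (σ * (τ * σ * τ⁻¹)) * (σ * (τ * σ * τ⁻¹)) ≠ 1 := by decide +kernel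
    by_contra hne
    obtain ⟨τ, hτ⟩ := key σ h2 hne
    obtain ⟨l, hl⟩ := hM2 ⟨_, mul_mem hσ (hMn.conj_mem σ hσ τ)⟩
    have hl' : (σ * (τ * σ * τ⁻¹)) ^ 2 ^ l = 1 := by
      have := congrArg Subtype.val hl
      simpa using this
    have hk3 : ∀ ρ : Equiv.Perm (Fin 3), ρ * ρ = 1 ∨ ρ * ρ * ρ = 1 := by decide +kernel
    rcases hk3 (σ * (τ * σ * τ⁻¹)) with e1 | e1
    · exact hτ e1
    · have h1 := orderOf_dvd_of_pow_eq_one hl'
      have h3 : orderOf (σ * (τ * σ * τ⁻¹)) ∣ 3 := orderOf_dvd_of_pow_eq_one (by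
        rw [pow_three']; exact e1)
      refine hτ ?_
      rw [orderOf_eq_one_iff.1 (Nat.eq_one_of_dvd_coprimes
        (Nat.Coprime.pow_left l (by norm_num : Nat.Coprime 2 3)) h1 h3), one_mul]
  intro g hg
  have : e (QuotientGroup.mk' (d.T.subgroupOf f.He) g) ∈ M := hM ▸ ⟨g, hg, rfl⟩
  rw [hbot, Subgroup.mem_bot, MulEquiv.map_eq_one_iff, QuotientGroup.mk'_apply,
    QuotientGroup.eq_one_iff] at this
  exact this

/-- The fixed points in `T` of a Sylow 3-subgroup of `C(e)`. -/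
theorem CentData.centralizer_sylow (X : Sylow 3 f.He) :
    d.T ⊓ Subgroup.centralizer (((X : Subgroup f.He).map f.He.subtype : Subgroup G) : Set G) =
      Subgroup.zpowers f.e := by
  haveI : Fact (Nat.Prime 3) := ⟨Nat.prime_three⟩
  refine le_antisymm (fun t ht => ?_) (Subgroup.zpowers_le.2 ⟨d.e_mem, ?_⟩)
  · obtain ⟨htT, htX⟩ := ht
    have hf : (Nat.card f.He).factorization 3 = 1 := by
      rw [d.card_He]
      refine le_antisymm ?_ ?_
      · by_contra hlt
        have := (Nat.prime_three.pow_dvd_iff_le_factorization (by norm_num)).2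
          (show 2 ≤ (192 : ℕ).factorization 3 by omega)
        norm_num at this
      · exact (Nat.prime_three.pow_dvd_iff_le_factorization (by norm_num)).1 (by norm_num)
    have hord : orderOf (⟨d.y, d.y_mem⟩ : f.He) = 3 := by
      rw [Subgroup.orderOf_mk]; exact orderOf_eq_prime d.y_cube d.y_ne
    let Y : Sylow 3 f.He := Sylow.ofCard (Subgroup.zpowers ⟨d.y, d.y_mem⟩)
      (by rw [Nat.card_zpowers, hord, hf]; rfl)
    obtain ⟨g, hg⟩ := MulAction.exists_smul_eq f.He Y X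
    have hyX : ((g : G) * d.y * (g : G)⁻¹) ∈ (X : Subgroup f.He).map f.He.subtype := by
      refine ⟨g * ⟨d.y, d.y_mem⟩ * g⁻¹, ?_, rfl⟩
      rw [← hg, Sylow.coe_subgroup_smul]
      exact Subgroup.smul_mem_pointwise_smul _ (MulAut.conj g) _ (Subgroup.mem_zpowers _)
    have hc := Subgroup.mem_centralizer_iff.1 htX _ hyX
    have hmem : (g : G)⁻¹ * t * (g : G) ∈ d.T := by
      have := d.norm _ (inv_mem g.2) _ htT
      rwa [inv_inv] at this
    have hge : (g : G) * f.e * (g : G)⁻¹ = f.e := commute_iff_conj.2 (f.mem_He.1 g.2)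
    rcases d.eq_one_of_fix hmem (by
      calc (g : G)⁻¹ * t * g * d.y = (g : G)⁻¹ * (t * ((g : G) * d.y * (g : G)⁻¹)) * g := by group
        _ = (g : G)⁻¹ * (((g : G) * d.y * (g : G)⁻¹) * t) * g := by rw [hc]
        _ = _ := by group) with e | e
    · rw [show t = 1 by
        calc t = (g : G) * ((g : G)⁻¹ * t * g) * (g : G)⁻¹ := by group
          _ = 1 := by rw [e]; group]
      exact one_mem _
    · rw [show t = f.e by
        calc t = (g : G) * ((g : G)⁻¹ * t * g) * (g : G)⁻¹ := by group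
          _ = _ := by rw [e, hge]]
      exact Subgroup.mem_zpowers _
  · show f.e ∈ Subgroup.centralizer _
    rw [Subgroup.mem_centralizer_iff]
    rintro _ ⟨x, -, rfl⟩
    exact f.mem_He.1 x.2

end Frame

end CfsgLib.AltEightLocal
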