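import Cfsg.Agent.AltEightLocal.CentE
import Cfsg.Agent.LargeExtraspecial.Quotient

/-!
The normal subgroup of order 32 of `C(e)` is extraspecial, and `s = u`.
-/

set_option autoImplicit false
set_option linter.style.haveILetI false

namespace CfsgLib.AltEightLocal

open Equiv

variable {G : Type*} [Group G]

namespace Frame

variable {h : Hyp G} [Finite G] {f : Frame h} (d : CentData f)
include d

theorem CentData.parity {a b : G} (ha : a ∈ f.S₂) (hb : b ∈ f.S₂) :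
    a * b ∈ d.T ↔ (a ∈ d.T ↔ b ∈ d.T) := by
  have hidx : (d.T.subgroupOf f.S₂).index = 2 := by
    have h1 := (d.T.subgroupOf f.S₂).card_mul_index
    rw [Nat.card_congr (Subgroup.subgroupOfEquivOfLe d.le).toEquiv, d.card, f.card_S₂] at h1
    omega
  have := Subgroup.mul_mem_iff_of_index_two hidx (a := ⟨a, ha⟩) (b := ⟨b, hb⟩)
  simpa [Subgroup.mem_subgroupOf] using this

omit d in
theorem in_S₂ : h.c ∈ f.S₂ ∧ f.s ∈ f.S₂ ∧ h.v' ∈ f.S₂ ∧ h.v ∈ f.S₂ :=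
  ⟨f.M₂_le_S₂ self_mem_adjoinSqrt, self_mem_adjoinSqrt,
    f.M₂_le_S₂ (f.W_le_M₂ (h.Vs_le_W h.v'_mem)), f.M₂_le_S₂ (f.W_le_M₂ (h.Vs_le_W h.v_mem))⟩

theorem CentData.commutator_mem {a b : G} (ha : a ∈ f.S₂) (hb : b ∈ f.S₂) :
    a * b * a⁻¹ * b⁻¹ ∈ d.T := by
  rw [d.parity (mul_mem (mul_mem ha hb) (inv_mem ha)) (inv_mem hb),
    d.parity (mul_mem ha hb) (inv_mem ha), d.parity ha hb, inv_mem_iff, inv_mem_iff]
  tauto

theorem CentData.v_mem : h.v ∈ d.T := by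
  obtain ⟨hc, -, hv', -⟩ := in_S₂ (f := f)
  have := d.commutator_mem hc hv'
  rwa [h.c_inv, h.c_v', inv_eq_of_mul_eq_one_right (h.Vs_sq h.v'_mem),
    h.Vs_comm h.v'_mem h.v_mem, mul_assoc, h.Vs_sq h.v'_mem, mul_one] at this

theorem CentData.w₁_mem : f.w₁ ∈ d.T := by
  have := mul_mem d.v_mem d.e_mem
  rwa [show f.e = h.v * f.w₁ from rfl, ← mul_assoc, h.v_sq, one_mul] at this

/-- The element `v' * s v' s⁻¹`. -/
abbrev CentData.p (_d : CentData f) : G := h.v' * (f.s * h.v' * f.s⁻¹)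

omit d in
theorem p_mixed : h.v' * (f.s * h.v' * f.s⁻¹) ≠ 1 ∧ h.v' * (f.s * h.v' * f.s⁻¹) ≠ f.e :=
  ⟨f.mixed_ne h.v'_mem h.v'_mem (Or.inl h.v'_ne), fun e => h.v'_ne_v
    (f.decomp_unique h.v'_mem h.v_mem h.v'_mem h.v_mem e).1⟩

theorem CentData.p_mem : d.p ∈ d.T := by
  obtain ⟨-, hs, hv', -⟩ := in_S₂ (f := f)
  have := d.commutator_mem hv' hs
  rw [inv_eq_of_mul_eq_one_right (h.Vs_sq h.v'_mem)] at this
  show h.v' * (f.s * h.v' * f.s⁻¹) ∈ d.T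
  convert this using 1
  group

omit d in
theorem c_p : h.c * (h.v' * (f.s * h.v' * f.s⁻¹)) * h.c⁻¹ =
    h.v' * (f.s * h.v' * f.s⁻¹) * f.e := by
  rw [show h.v' * (f.s * h.v' * f.s⁻¹) = f.diagU h.v' from rfl, f.diagU_c, h.c_v',
    f.diagU_mul h.v'_mem h.v_mem]

theorem CentData.v'_not_mem : h.v' ∉ d.T := by
  intro hv'
  obtain ⟨g, hgT, hgM⟩ : ∃ g ∈ d.T, g ∉ f.M₂ := by
    by_contra hall
    push Not at hall
    have heq : d.T = f.M₂ := Subgroup.eq_of_le_of_card_ge hall (by rw [d.card, f.card_M₂])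
    have hc : h.c ∈ d.T := heq ▸ self_mem_adjoinSqrt
    have := d.comm _ hc _ hv'
    rw [h.c_inv, h.c_v', inv_eq_of_mul_eq_one_right (h.Vs_sq h.v'_mem),
      h.Vs_comm h.v'_mem h.v_mem, mul_assoc, h.Vs_sq h.v'_mem, mul_one] at this
    rcases this with e | e
    · exact h.v_ne e
    · exact f.e_ne_v e.symm
  obtain ⟨b, hb, hbe⟩ := f.mem_Us.1 (f.outside_moves (d.le hgT) hgM h.v'_mem)
  have := d.comm _ hgT _ hv'
  rw [inv_eq_of_mul_eq_one_right (h.Vs_sq h.v'_mem), ← hbe,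
    f.W_comm (f.s_mem b hb) (h.Vs_le_W h.v'_mem)] at this
  rcases this with e | e
  · exact f.mixed_ne h.v'_mem hb (Or.inl h.v'_ne) e
  · exact h.v'_ne_v (f.decomp_unique h.v'_mem h.v_mem hb h.v_mem e).1

/-- The Sylow 2-subgroup is split: `s = u`. -/
theorem CentData.s_eq : f.s = h.u := by
  refine f.s_sq.resolve_right fun hs2 => ?_
  have hcT : h.c ∈ d.T := by
    obtain ⟨-, hs, -, -⟩ := in_S₂ (f := f)
    rw [← hs2, d.parity hs hs]
  obtain ⟨g, hgT, hgM⟩ : ∃ g ∈ d.T, g ∉ f.M₂ := by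
    by_contra hall
    push Not at hall
    have heq : d.T = f.M₂ := Subgroup.eq_of_le_of_card_ge hall (by rw [d.card, f.card_M₂])
    exact d.v'_not_mem (heq ▸ f.W_le_M₂ (h.Vs_le_W h.v'_mem))
  obtain ⟨m, hm, hgm⟩ : ∃ m ∈ f.M₂, g = m * f.s⁻¹ :=
    ⟨g * f.s, (mem_adjoinSqrt.1 (d.le hgT)).resolve_left hgM, (mul_inv_cancel_right _ _).symm⟩
  obtain ⟨pp, hpp⟩ : ∃ pp, pp = h.v' * (f.s * h.v' * f.s⁻¹) := ⟨_, rfl⟩
  have hppW : pp ∈ h.W := hpp ▸ mul_mem (h.Vs_le_W h.v'_mem) (f.s_mem _ h.v'_mem)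
  have hconj : f.s⁻¹ * pp * f.s = pp * f.w₁ := by
    have hsI : f.s⁻¹ = f.s * h.c := by
      calc f.s⁻¹ = f.s⁻¹ * ((f.s * f.s) * h.c) := by rw [hs2, h.c_sq, mul_one]
        _ = _ := by group
    have h1 : f.s⁻¹ * h.v' * f.s = (f.s * h.v' * f.s⁻¹) * f.w₁ := by
      calc f.s⁻¹ * h.v' * f.s = f.s⁻¹ * h.v' * (f.s⁻¹)⁻¹ := by rw [inv_inv]
        _ = f.s * h.c * h.v' * (f.s * h.c)⁻¹ := by rw [hsI]
        _ = f.s * (h.c * h.v' * h.c⁻¹) * f.s⁻¹ := by group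
        _ = _ := by rw [h.c_inv, h.c_v', conj_mul3]
    calc f.s⁻¹ * pp * f.s = (f.s⁻¹ * h.v' * f.s) * h.v' := by rw [hpp]; group
      _ = h.v' * ((f.s * h.v' * f.s⁻¹) * f.w₁) := by
          rw [h1, f.W_comm (mul_mem (f.s_mem _ h.v'_mem) f.w₁_mem) (h.Vs_le_W h.v'_mem)]
      _ = _ := by rw [hpp, ← mul_assoc]
  have hg : g * pp * g⁻¹ * pp⁻¹ = f.w₁ ∨ g * pp * g⁻¹ * pp⁻¹ = h.v := by
    have hq : pp * f.w₁ ∈ h.W := mul_mem hppW f.w₁_mem
    have e0 : g * pp * g⁻¹ = m * (pp * f.w₁) * m⁻¹ := by rw [hgm, ← hconj]; group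
    rw [e0]
    rcases f.mem_M₂.1 hm with e | e
    · left
      rw [commute_iff_conj.2 (f.W_comm e hq), f.W_comm hppW f.w₁_mem, mul_inv_cancel_right]
    · right
      obtain ⟨y, hy⟩ : ∃ y, y = m * h.c := ⟨_, rfl⟩
      have hm' : m = y * h.c := by rw [hy, mul_assoc, h.c_sq, mul_one]
      have hcw : h.c * f.w₁ * h.c⁻¹ = f.w₁ := commute_iff_conj.2 f.c_w₁
      have e1 : h.c * (pp * f.w₁) * h.c⁻¹ = pp * f.e * f.w₁ := by
        rw [conj_mul3, hcw, hpp, c_p]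
      rw [hm', show y * h.c * (pp * f.w₁) * (y * h.c)⁻¹ =
        y * (h.c * (pp * f.w₁) * h.c⁻¹) * y⁻¹ by group, e1,
        commute_iff_conj.2 (f.W_comm (hy ▸ e) (mul_mem (mul_mem hppW f.e_mem) f.w₁_mem))]
      have hev : f.e * f.w₁ = h.v := by
        show h.v * f.w₁ * f.w₁ = h.v; rw [mul_assoc, f.W_sq f.w₁_mem, mul_one]
      rw [mul_assoc pp, hev, f.W_comm hppW (h.Vs_le_W h.v_mem), mul_inv_cancel_right]
  have hbad := d.comm _ hgT _ (hpp ▸ d.p_mem : pp ∈ d.T)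
  rcases hg with e | e <;> rw [e] at hbad <;> rcases hbad with e' | e'
  · exact f.w₁_ne e'
  · exact h.v_ne (mul_eq_right.1 e'.symm)
  · exact h.v_ne e'
  · exact f.e_ne_v e'.symm

theorem CentData.c_u_mem : h.c ∈ d.T ∧ f.s ∈ d.T := by
  obtain ⟨hc, hs, hv', -⟩ := in_S₂ (f := f)
  have hs2 : f.s * f.s = 1 := by rw [d.s_eq, h.u_sq]
  have hsI : f.s⁻¹ = f.s := inv_eq_of_mul_eq_one_right hs2
  have hvI : h.v'⁻¹ = h.v' := inv_eq_of_mul_eq_one_right (h.Vs_sq h.v'_mem)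
  have hcs : f.s * h.c = h.c * f.s := f.s_c
  have hx : ∀ {a}, a ∈ f.S₂ → a ∉ d.T → h.v' * a ∈ d.T := fun {a} ha hna =>
    (d.parity hv' ha).2 ⟨fun x => absurd x d.v'_not_mem, fun x => absurd x hna⟩
  have hcv : h.c * h.v' * h.c⁻¹ * h.v'⁻¹ = h.v := by
    rw [h.c_inv, h.c_v', hvI, h.Vs_comm h.v'_mem h.v_mem, mul_assoc, h.Vs_sq h.v'_mem, mul_one]
  have hcsI : h.c * f.s * h.c⁻¹ * f.s⁻¹ = 1 := by rw [← hcs, mul_inv_cancel_right, mul_inv_cancel]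
  have hv : h.v ≠ 1 ∧ h.v ≠ f.e := ⟨h.v_ne, f.e_ne_v.symm⟩
  have hp := p_mixed (f := f)
  have hvs : h.v' * f.s * h.v'⁻¹ * f.s⁻¹ = h.v' * (f.s * h.v' * f.s⁻¹) := by
    rw [hvI]; group
  by_cases hcT : h.c ∈ d.T
  · refine ⟨hcT, by_contra fun hsT => ?_⟩
    have := d.comm _ hcT _ (hx hs hsT)
    rw [show h.c * (h.v' * f.s) * h.c⁻¹ * (h.v' * f.s)⁻¹ = (h.c * h.v' * h.c⁻¹) *
      (h.c * f.s * h.c⁻¹ * f.s⁻¹) * h.v'⁻¹ by group, hcsI, mul_one, hcv] at this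
    exact this.elim hv.1 hv.2
  · exfalso
    by_cases hsT : f.s ∈ d.T
    · have := d.comm _ (hx hc hcT) _ hsT
      rw [show h.v' * h.c * f.s * (h.v' * h.c)⁻¹ * f.s⁻¹ = h.v' * (h.c * f.s * h.c⁻¹ * f.s⁻¹) *
        f.s * h.v'⁻¹ * f.s⁻¹ by group, hcsI, mul_one, hvs] at this
      exact this.elim hp.1 hp.2
    · have := d.comm _ (hx hc hcT) _ (hx hs hsT)
      have hz : h.v' * h.c * (h.v' * f.s) * (h.v' * h.c)⁻¹ * (h.v' * f.s)⁻¹ =
          h.v * (h.v' * (f.s * h.v' * f.s⁻¹)) := by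
        calc _ = h.v' * (h.c * h.v' * h.c⁻¹) * (h.c * f.s * h.c⁻¹) * h.v'⁻¹ * f.s⁻¹ * h.v'⁻¹ := by
              group
          _ = h.v' * (h.v' * h.v) * (f.s * h.v' * f.s⁻¹) * h.v' := by
              rw [h.c_inv, h.c_v', ← hcs, mul_assoc f.s, h.c_sq, mul_one, hvI]
              group
          _ = h.v * ((f.s * h.v' * f.s⁻¹) * h.v') := by
              rw [← mul_assoc h.v', h.Vs_sq h.v'_mem, one_mul]; group
          _ = _ := by rw [f.W_comm (f.s_mem _ h.v'_mem) (h.Vs_le_W h.v'_mem)]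
      rw [hz, ← mul_assoc] at this
      rcases this with e | e
      · have h2 := (f.decomp_unique (mul_mem h.v_mem h.v'_mem) (one_mem _) h.v'_mem (one_mem _)
          (by rw [e]; group)).2
        exact h.v'_ne h2
      · exact h.v'_ne_v (f.decomp_unique (mul_mem h.v_mem h.v'_mem) h.v_mem h.v'_mem h.v_mem e).2

/-- `T` is extraspecial. -/
theorem CentData.extraspecial : Cfsg.IsExtraspecial 2 d.T ∧
    ∀ x ∈ d.T, (∀ y ∈ d.T, y * x = x * y) → x = 1 ∨ x = f.e := by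
  obtain ⟨hcT, hsT⟩ := d.c_u_mem
  have hs2 : f.s * f.s = 1 := by rw [d.s_eq, h.u_sq]
  have hee : f.e * f.e = 1 := f.W_sq f.e_mem
  have hTe : ∀ x ∈ d.T, x * f.e = f.e * x := fun x hx =>
    f.mem_He.1 (f.S₂_le_He (d.le hx))
  have hmul : ∀ a ∈ d.T, ∀ b ∈ d.T, (a * a = 1 ∨ a * a = f.e) → (b * b = 1 ∨ b * b = f.e) →
      a * b * (a * b) = 1 ∨ a * b * (a * b) = f.e := by
    intro a ha b hb h1 h2
    have e : a * b * (a * b) = a * a * (a⁻¹ * b * a⁻¹⁻¹ * b⁻¹) * (b * b) := by group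
    rw [e]
    have key : ∀ x y, (x = 1 ∨ x = f.e) → (y = 1 ∨ y = f.e) → (x * y = 1 ∨ x * y = f.e) := by
      rintro x y (e1 | e1) (e2 | e2) <;> rw [e1, e2]
      · simp
      · simp
      · simp
      · exact Or.inl hee
    exact key _ _ (key _ _ h1 (d.comm _ (inv_mem ha) _ hb)) h2
  have hsq : ∀ x ∈ d.T, x * x = 1 ∨ x * x = f.e := by
    have hW : ∀ x ∈ d.T, x ∈ f.M₂ → x * x = 1 ∨ x * x = f.e := by
      intro x hx hxM
      rcases f.mem_M₂.1 hxM with e | e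
      · exact Or.inl (f.W_sq e)
      · have := hmul _ (mul_mem hx hcT) _ hcT (Or.inl (f.W_sq e)) (Or.inl h.c_sq)
        rwa [mul_assoc x h.c h.c, h.c_sq, mul_one] at this
    intro x hx
    rcases mem_adjoinSqrt.1 (d.le hx) with e | e
    · exact hW x hx e
    · have := hmul _ (mul_mem hx hsT) _ hsT (hW _ (mul_mem hx hsT) e) (Or.inl hs2)
      rwa [mul_assoc x f.s f.s, hs2, mul_one] at this
  have hcen : ∀ x ∈ d.T, (∀ y ∈ d.T, y * x = x * y) → x = 1 ∨ x = f.e := by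
    intro x hx hall
    have hxM : x ∈ f.M₂ := by
      by_contra hn
      have h1 := f.outside_moves (d.le hx) hn h.v_mem
      rw [commute_iff_conj.2 (hall _ d.v_mem).symm] at h1
      exact h.v_ne (f.Vs_Us h.v_mem h1)
    have hxW : x ∈ h.W := by
      refine (f.mem_M₂.1 hxM).resolve_right fun e => ?_
      obtain ⟨y, hy⟩ : ∃ y, y = x * h.c := ⟨_, rfl⟩
      have hp : d.p ∈ h.W := mul_mem (h.Vs_le_W h.v'_mem) (f.s_mem _ h.v'_mem)
      have h1 : Commute x d.p := (hall _ d.p_mem).symm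
      have h2 : Commute (x * h.c) d.p := f.W_comm e hp
      have h3 := h1.inv_left.mul_left h2
      rw [inv_mul_cancel_left] at h3
      have h4 : h.c * d.p * h.c⁻¹ = d.p := commute_iff_conj.2 h3.eq
      exact f.e_ne (mul_eq_left.1 (c_p.symm.trans h4))
    have hxL : x ∈ f.Lf := f.mem_Lf.2 ⟨hxW, (hall _ hcT).symm⟩
    rcases f.Lf_cases hxL with e | e | e | e
    · exact Or.inl e
    · exact absurd (commute_iff_conj.2 (e ▸ hall _ hsT)) f.v_ne_w₁.symm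
    · exact absurd (f.s_w₁.symm.trans (commute_iff_conj.2 (e ▸ hall _ hsT))) f.v_ne_w₁
    · exact Or.inr e
  refine ⟨(LargeExtraspecial.isExtraspecial_of_props (T := d.T) (z := f.e)
    (IsPGroup.of_card (n := 5) (by rw [d.card]; rfl))
    (orderOf_eq_prime (by rw [pow_two, hee]) f.e_ne) d.e_mem hTe hsq d.comm hcen
    ⟨h.c, hcT, d.p, d.p_mem, fun e => f.e_ne (mul_eq_left.1
      (c_p.symm.trans (commute_iff_conj.2 e)))⟩).1, hcen⟩

/-- A conjugate of `e` other than `e` in `T`. -/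
theorem CentData.not_weakly_closed : ∃ g : G, g * f.e * g⁻¹ ∈ d.T ∧ g * f.e * g⁻¹ ≠ f.e := by
  obtain ⟨q, -, hqe⟩ := f.to_e h.v'_mem h.v'_mem h.v'_ne h.v'_ne
  refine ⟨q⁻¹, ?_⟩
  rw [← hqe, show q⁻¹ * (q * (h.v' * (f.s * h.v' * f.s⁻¹)) * q⁻¹) * q⁻¹⁻¹ =
    h.v' * (f.s * h.v' * f.s⁻¹) by group]
  exact ⟨d.p_mem, by rw [hqe]; exact (p_mixed (f := f)).2⟩

end Frame

end CfsgLib.AltEightLocal
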