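import Cfsg.Agent.AltEightLocal.SmallCase

/-!
The group `W = V × s V s⁻¹` with the actions of `z`, `w`, `c` and `s`.
-/

set_option autoImplicit false

namespace CfsgLib.AltEightLocal

open Equiv

variable {G : Type*} [Group G]

theorem conj_mul3 (g a b : G) : g * (a * b) * g⁻¹ = g * a * g⁻¹ * (g * b * g⁻¹) := by group

theorem conj_cancel (g a : G) : g⁻¹ * (g * a * g⁻¹) * g = a := by group

theorem conj_inj {g a b : G} (e : g * a * g⁻¹ = g * b * g⁻¹) : a = b :=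
  (MulAut.conj g).injective e

theorem commute_iff_conj {g a : G} : g * a * g⁻¹ = a ↔ g * a = a * g :=
  mul_inv_eq_iff_eq_mul

namespace Frame

variable {h : Hyp G} [Finite G] (f : Frame h)
include f

theorem W_comm {x y : G} (hx : x ∈ h.W) (hy : y ∈ h.W) : x * y = y * x := by
  obtain ⟨a, ha, b, hb, rfl⟩ := f.decomp x hx
  obtain ⟨a', ha', b', hb', rfl⟩ := f.decomp y hy
  have c1 : ∀ {p q : G}, p ∈ h.Vs → q ∈ h.W → Commute p q := fun hp hq => (h.W_Vs hq hp).symm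
  have c2 : Commute (f.s * b * f.s⁻¹) (f.s * b' * f.s⁻¹) := by
    show _ = _
    rw [← conj_mul3, ← conj_mul3, h.Vs_comm hb hb']
  exact ((c1 ha (h.Vs_le_W ha')).mul_right (c1 ha (f.s_mem _ hb'))).mul_left
    ((c1 ha' (f.s_mem _ hb)).symm.mul_right c2) |>.eq

theorem W_sq {x : G} (hx : x ∈ h.W) : x * x = 1 := by
  obtain ⟨a, ha, b, hb, rfl⟩ := f.decomp x hx
  calc a * (f.s * b * f.s⁻¹) * (a * (f.s * b * f.s⁻¹))
      = a * ((f.s * b * f.s⁻¹) * a) * (f.s * b * f.s⁻¹) := by group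
    _ = (a * a) * (f.s * (b * b) * f.s⁻¹) := by rw [h.W_Vs (f.s_mem b hb) ha]; group
    _ = 1 := by rw [h.Vs_sq ha, h.Vs_sq hb]; group

theorem W_inv {x : G} (hx : x ∈ h.W) : x⁻¹ = x := inv_eq_of_mul_eq_one_right (f.W_sq hx)

/-- The fixed points of `w` on `W`. -/
theorem fix_w {x : G} (hx : x ∈ h.Vs) : f.s * x * f.s⁻¹ * h.w = h.w * (f.s * x * f.s⁻¹) := by
  rw [← f.s_z]
  calc f.s * x * f.s⁻¹ * (f.s * h.z * f.s⁻¹) = f.s * (x * h.z) * f.s⁻¹ := by group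
    _ = f.s * (h.z * x) * f.s⁻¹ := by rw [h.Vs_z hx]
    _ = _ := by group

theorem eq_one_of_both {x : G} (hx : x ∈ h.W) (h1 : x * h.z = h.z * x)
    (h2 : x * h.w = h.w * x) : x = 1 :=
  h.eq_one_of_D_sq (h.mem_D.2 ⟨h1, h2⟩) (f.W_sq hx)

theorem decomp_unique {a a' b b' : G} (ha : a ∈ h.Vs) (ha' : a' ∈ h.Vs) (hb : b ∈ h.Vs)
    (hb' : b' ∈ h.Vs) (e : a * (f.s * b * f.s⁻¹) = a' * (f.s * b' * f.s⁻¹)) : a = a' ∧ b = b' := by
  have e2 : a'⁻¹ * a = f.s * (b' * b⁻¹) * f.s⁻¹ := by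
    calc a'⁻¹ * a = a'⁻¹ * (a * (f.s * b * f.s⁻¹)) * (f.s * b * f.s⁻¹)⁻¹ := by group
      _ = _ := by rw [e]; group
  have hm : a'⁻¹ * a ∈ h.Vs := mul_mem (inv_mem ha') ha
  have h1 : a'⁻¹ * a = 1 := f.eq_one_of_both (h.Vs_le_W hm) (h.Vs_z hm)
    (by rw [e2]; exact f.fix_w (mul_mem hb' (inv_mem hb)))
  rw [h1] at e2
  exact ⟨(inv_mul_eq_one.1 h1).symm,
    (mul_inv_eq_one.1 (conj_eq_one_iff.1 e2.symm)).symm⟩

theorem s_inv_mem : f.s * f.s ∈ ({1, h.c} : Set G) := by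
  rcases f.s_sq with e | e
  · exact Or.inl (by rw [e, h.u_sq])
  · exact Or.inr e

theorem s_W {x : G} (hx : x ∈ h.W) : f.s * x * f.s⁻¹ ∈ h.W ∧ f.s⁻¹ * x * f.s ∈ h.W := by
  have h1 : ∀ {y : G}, y ∈ h.W → f.s * y * f.s⁻¹ ∈ h.W := by
    intro y hy
    obtain ⟨a, ha, b, hb, rfl⟩ := f.decomp y hy
    rw [conj_mul3]
    refine mul_mem (f.s_mem a ha) ?_
    rw [show f.s * (f.s * b * f.s⁻¹) * f.s⁻¹ = (f.s * f.s) * b * (f.s * f.s)⁻¹ by group]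
    rcases f.s_inv_mem with e | e
    · rw [e]; simpa using h.Vs_le_W hb
    · rw [Set.mem_singleton_iff] at e
      rw [e, h.c_inv]; exact h.c_W (h.Vs_le_W hb)
  refine ⟨h1 hx, ?_⟩
  have e : f.s⁻¹ = f.s * (f.s * f.s)⁻¹ := by group
  have hcW : (f.s * f.s)⁻¹ * x * (f.s * f.s) ∈ h.W := by
    rcases f.s_inv_mem with e' | e'
    · rw [e']; simpa using hx
    · rw [Set.mem_singleton_iff] at e'
      rw [e', h.c_inv]; exact h.c_W hx
  have := h1 hcW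
  rwa [show f.s * ((f.s * f.s)⁻¹ * x * (f.s * f.s)) * f.s⁻¹ = f.s⁻¹ * x * f.s by group] at this

theorem s_norm : f.s ∈ Subgroup.normalizer (h.W : Set G) := by
  rw [Subgroup.mem_normalizer_iff]
  exact fun x => ⟨fun hx => (f.s_W hx).1, fun hx => by
    have := (f.s_W hx).2; rwa [conj_cancel] at this⟩

omit f in
theorem c_norm : h.c ∈ Subgroup.normalizer (h.W : Set G) := by
  rw [Subgroup.mem_normalizer_iff]
  refine fun x => ⟨fun hx => by rw [h.c_inv]; exact h.c_W hx, fun hx => ?_⟩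
  have := h.c_W hx
  rwa [show h.c * (h.c * x * h.c⁻¹) * h.c = (h.c * h.c) * x * (h.c⁻¹ * h.c) by group, h.c_sq,
    inv_mul_cancel, one_mul, mul_one] at this

/-- The element `s v s⁻¹`. -/
abbrev w₁ : G := f.s * h.v * f.s⁻¹

/-- The mixed element fixed by `c` and `s`. -/
abbrev e : G := h.v * f.w₁

theorem w₁_mem : f.w₁ ∈ h.W := f.s_mem _ h.v_mem

theorem e_mem : f.e ∈ h.W := mul_mem (h.Vs_le_W h.v_mem) f.w₁_mem

theorem c_w₁ : h.c * f.w₁ = f.w₁ * h.c := by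
  have h1 : h.c * f.s = f.s * h.c := f.s_c.symm
  have h2 : h.c * f.s⁻¹ = f.s⁻¹ * h.c := (Commute.inv_right (show Commute h.c f.s from h1)).eq
  calc h.c * (f.s * h.v * f.s⁻¹) = (h.c * f.s) * h.v * f.s⁻¹ := by group
    _ = f.s * (h.c * h.v) * f.s⁻¹ := by rw [h1]; group
    _ = f.s * h.v * (h.c * f.s⁻¹) := by rw [h.c_v]; group
    _ = f.s * h.v * f.s⁻¹ * h.c := by rw [h2]; group

theorem s_e : f.s * f.e * f.s⁻¹ = f.e := by
  have hss : (f.s * f.s) * h.v * (f.s * f.s)⁻¹ = h.v := by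
    rcases f.s_inv_mem with e | e
    · rw [e]; simp
    · rw [Set.mem_singleton_iff] at e
      rw [e, h.c_v, mul_inv_cancel_right]
  calc f.s * f.e * f.s⁻¹ = f.w₁ * ((f.s * f.s) * h.v * (f.s * f.s)⁻¹) := by
        show f.s * (h.v * (f.s * h.v * f.s⁻¹)) * f.s⁻¹ = (f.s * h.v * f.s⁻¹) * _
        group
    _ = _ := by rw [hss]; exact f.W_comm f.w₁_mem (h.Vs_le_W h.v_mem)

theorem s_w₁ : f.s * f.w₁ * f.s⁻¹ = h.v := by
  have e1 := f.s_e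
  rw [show f.e = h.v * f.w₁ from rfl, conj_mul3] at e1
  have e2 : f.s * f.w₁ * f.s⁻¹ = f.w₁⁻¹ * (h.v * f.w₁) := by
    calc f.s * f.w₁ * f.s⁻¹ = f.w₁⁻¹ * (f.w₁ * (f.s * f.w₁ * f.s⁻¹)) := by group
      _ = _ := by rw [e1]
  rw [e2, ← f.W_comm f.w₁_mem (h.Vs_le_W h.v_mem), inv_mul_cancel_left]

theorem w₁_ne : f.w₁ ≠ 1 := fun e => h.v_ne (conj_eq_one_iff.1 e)

theorem mixed_ne {a b : G} (ha : a ∈ h.Vs) (hb : b ∈ h.Vs) (h1 : a ≠ 1 ∨ b ≠ 1) :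
    a * (f.s * b * f.s⁻¹) ≠ 1 := fun e => by
  have := f.decomp_unique ha (one_mem _) hb (one_mem _) (by rw [e]; group)
  rcases h1 with h1 | h1
  exacts [h1 this.1, h1 this.2]

theorem e_ne : f.e ≠ 1 := f.mixed_ne h.v_mem h.v_mem (Or.inl h.v_ne)

theorem e_ne_v : f.e ≠ h.v := fun e => f.w₁_ne (mul_eq_left.1 e)

theorem v_ne_w₁ : h.v ≠ f.w₁ := fun e => f.e_ne (by
  show h.v * f.w₁ = 1
  rw [← e, h.v_sq])

omit f in
theorem c_v'_ne : h.c * h.v' * h.c ≠ h.v' := fun e => h.v_ne (by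
  rw [h.c_v'] at e; exact mul_eq_left.1 e)

/-- The fixed points of `c` on `W`. -/
theorem fix_c {x : G} (hx : x ∈ h.W) (hc : h.c * x = x * h.c) :
    x = 1 ∨ x = h.v ∨ x = f.w₁ ∨ x = f.e := by
  obtain ⟨a, ha, b, hb, rfl⟩ := f.decomp x hx
  have key : h.c * a * h.c * (f.s * (h.c * b * h.c) * f.s⁻¹) = a * (f.s * b * f.s⁻¹) := by
    have h1 : h.c * f.s = f.s * h.c := f.s_c.symm
    have h2 : f.s⁻¹ * h.c = h.c * f.s⁻¹ := (Commute.inv_left (show Commute f.s h.c from f.s_c)).eq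
    have e1 : f.s * (h.c * b * h.c) * f.s⁻¹ = h.c * (f.s * b * f.s⁻¹) * h.c := by
      calc f.s * (h.c * b * h.c) * f.s⁻¹ = (f.s * h.c) * b * (h.c * f.s⁻¹) := by group
        _ = (h.c * f.s) * b * (f.s⁻¹ * h.c) := by rw [h1, h2]
        _ = _ := by group
    rw [e1, show h.c * a * h.c * (h.c * (f.s * b * f.s⁻¹) * h.c) =
      h.c * (a * (h.c * h.c) * (f.s * b * f.s⁻¹)) * h.c by group, h.c_sq, mul_one, hc, mul_assoc,
      h.c_sq, mul_one]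
  obtain ⟨r1, r2⟩ := f.decomp_unique (h.Vs_conj_c ha) ha (h.Vs_conj_c hb) hb key
  have hfix : ∀ y ∈ h.Vs, h.c * y * h.c = y → y = 1 ∨ y = h.v := by
    intro y hy e
    rcases h.Vs_cases hy with e' | e' | e' | e'
    · exact Or.inl e'
    · exact Or.inr e'
    all_goals exfalso; subst e'
    · exact c_v'_ne e
    · refine c_v'_ne (h := h) (mul_left_cancel (a := h.v) ?_)
      have e3 : h.c * (h.v * h.v') * h.c = h.v * (h.c * h.v' * h.c) := by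
        calc h.c * (h.v * h.v') * h.c = (h.c * h.v) * h.v' * h.c := by group
          _ = _ := by rw [h.c_v]; group
      rw [← e3]; exact e
  rcases hfix a ha r1 with e1 | e1 <;> rcases hfix b hb r2 with e2 | e2 <;> subst e1 e2
  · exact Or.inl (by group)
  · exact Or.inr (Or.inr (Or.inl (by show _ = f.s * h.v * f.s⁻¹; group)))
  · exact Or.inr (Or.inl (by group))
  · exact Or.inr (Or.inr (Or.inr rfl))

omit f in
theorem w_pow_Vs {a : G} (ha : a ∈ h.Vs) (ha1 : a ≠ 1) :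
    ∃ i : ℕ, h.w ^ i * a * (h.w ^ i)⁻¹ = h.v := by
  obtain ⟨σ, hσ, rfl⟩ := h.mem_Vs.1 ha
  have hσ1 : σ ≠ 1 := fun e => ha1 (by rw [e, map_one])
  have hwi : h.L.al cyc⁻¹ = h.w ^ 2 := by
    rw [map_inv, h.w_eq]
    exact inv_eq_of_mul_eq_one_right (by rw [← pow_succ', h.w_cube])
  rcases cyc_orbit σ hσ hσ1 with e | e | e
  · exact ⟨0, by rw [e]; simp⟩
  · exact ⟨1, by rw [pow_one, ← h.w_eq, ← map_inv, ← map_mul, ← map_mul, e]⟩
  · refine ⟨2, ?_⟩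
    rw [← hwi, ← map_inv, inv_inv, ← map_mul, ← map_mul, e]

theorem w_pow_U {b : G} (hb : b ∈ h.Vs) (i : ℕ) :
    h.w ^ i * (f.s * b * f.s⁻¹) * (h.w ^ i)⁻¹ = f.s * b * f.s⁻¹ :=
  commute_iff_conj.2 ((show Commute h.w (f.s * b * f.s⁻¹) from (f.fix_w hb).symm).pow_left i).eq

theorem z_pow_U {b : G} (hb : b ∈ h.Vs) (hb1 : b ≠ 1) :
    ∃ i : ℕ, h.z ^ i * (f.s * b * f.s⁻¹) * (h.z ^ i)⁻¹ = f.w₁ := by
  obtain ⟨i, hi⟩ := w_pow_Vs hb hb1
  obtain ⟨j, hj⟩ : ∃ j, f.s * h.w ^ i * f.s⁻¹ = h.z ^ j := by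
    rw [← conj_pow]
    rcases f.s_w with e | e <;> rw [e]
    · exact ⟨i, rfl⟩
    · refine ⟨2 * i, ?_⟩
      rw [pow_mul, ← inv_eq_of_mul_eq_one_right (show h.z * h.z ^ 2 = 1 by
        rw [← pow_succ', h.z_cube])]
  refine ⟨j, ?_⟩
  rw [← hj]
  show _ = f.s * h.v * f.s⁻¹
  rw [← hi]; group

/-- Every element of `W` outside `V ∪ s V s⁻¹` is conjugate to `e` under `D`. -/
theorem to_e {a b : G} (ha : a ∈ h.Vs) (hb : b ∈ h.Vs) (ha1 : a ≠ 1) (hb1 : b ≠ 1) :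
    ∃ d ∈ h.D, d * (a * (f.s * b * f.s⁻¹)) * d⁻¹ = f.e := by
  obtain ⟨i, hi⟩ := w_pow_Vs ha ha1
  obtain ⟨j, hj⟩ := f.z_pow_U hb hb1
  refine ⟨h.z ^ j * h.w ^ i, mul_mem (pow_mem h.z_mem j) (pow_mem h.w_mem i), ?_⟩
  have hv : h.z ^ j * h.v * (h.z ^ j)⁻¹ = h.v :=
    commute_iff_conj.2 ((Commute.symm (show Commute h.v h.z from h.Vs_z h.v_mem)).pow_left j).eq
  calc h.z ^ j * h.w ^ i * (a * (f.s * b * f.s⁻¹)) * (h.z ^ j * h.w ^ i)⁻¹
      = (h.z ^ j * (h.w ^ i * a * (h.w ^ i)⁻¹) * (h.z ^ j)⁻¹) *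
        (h.z ^ j * (h.w ^ i * (f.s * b * f.s⁻¹) * (h.w ^ i)⁻¹) * (h.z ^ j)⁻¹) := by group
    _ = _ := by rw [hi, hv, f.w_pow_U hb, hj]

/-- The centraliser of `W` is `W`. -/
theorem centralizer_W {g : G} (hg : ∀ x ∈ h.W, g * x = x * g) : g ∈ h.W := by
  obtain ⟨k, hk⟩ := h.CV_decomp (hg _ (h.Vs_le_W h.v_mem)) (hg _ (h.Vs_le_W h.v'_mem))
  have hzk : ∀ x ∈ h.W, h.z ^ k * x = x * h.z ^ k := by
    intro x hx
    have e1 : Commute (g * h.z ^ k) x := f.W_comm hk hx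
    have e2 : Commute g x := hg x hx
    simpa using (e2.inv_left.mul_left e1).eq
  have h3 : k % 3 = 0 := by
    by_contra hne
    have hzc : h.z * f.w₁ = f.w₁ * h.z := by
      have e1 : Commute (h.z ^ (k % 3)) f.w₁ := by
        have := hzk _ f.w₁_mem
        rwa [pow_eq_pow_mod k h.z_cube] at this
      have : k % 3 = 1 ∨ k % 3 = 2 := by omega
      rcases this with e | e <;> rw [e] at e1
      · rwa [pow_one] at e1
      · have e2 := e1.pow_left 2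
        rwa [← pow_mul, show 2 * 2 = 3 + 1 from rfl, pow_succ, h.z_cube, one_mul] at e2
    exact f.w₁_ne (f.eq_one_of_both f.w₁_mem hzc.symm (f.fix_w h.v_mem))
  rw [pow_eq_pow_mod k h.z_cube, h3, pow_zero, mul_one] at hk
  exact hk

theorem tt_six {x : G} (hx : x ∈ h.Vs) (hx1 : x ≠ 1) : h.Tt (f.s * x * f.s⁻¹) :=
  h.tt_conj (h.tt_Vs hx hx1)

/-- An involution in the coset `W c` is conjugate to `t`. -/
theorem tt_Wc {x : G} (hx : x ∈ h.W) (hsq : x * h.c * (x * h.c) = 1) : h.Tt (x * h.c) := by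
  have hcx : h.c * x = x * h.c := by
    calc h.c * x = x⁻¹ * (x * h.c * (x * h.c)) * h.c⁻¹ := by group
      _ = x * h.c := by rw [hsq, f.W_inv hx, mul_one, h.c_inv]
  have e1 : h.v' * h.c * h.v' = h.v * h.c := by
    have hv'i : h.v'⁻¹ = h.v' := inv_eq_of_mul_eq_one_right (h.Vs_sq h.v'_mem)
    calc h.v' * h.c * h.v' = h.v' * (h.c * h.v' * h.c) * h.c⁻¹ := by group
      _ = h.v' * (h.v' * h.v) * h.c := by rw [h.c_v', h.c_inv]
      _ = _ := by rw [← mul_assoc, h.Vs_sq h.v'_mem, one_mul]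
  obtain ⟨q, hq⟩ : ∃ q, q = f.s * h.v' * f.s⁻¹ := ⟨_, rfl⟩
  have hqW : q ∈ h.W := hq ▸ f.s_mem _ h.v'_mem
  have hqi : q⁻¹ = q := f.W_inv hqW
  have hsc : f.s * h.c * f.s⁻¹ = h.c := commute_iff_conj.2 f.s_c
  have e2 : q * h.c * q = f.w₁ * h.c := by
    calc q * h.c * q = (f.s * h.v' * f.s⁻¹) * (f.s * h.c * f.s⁻¹) * (f.s * h.v' * f.s⁻¹) := by
          rw [hsc, hq]
      _ = f.s * (h.v' * h.c * h.v') * f.s⁻¹ := by group
      _ = f.s * h.v * f.s⁻¹ * (f.s * h.c * f.s⁻¹) := by rw [e1]; group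
      _ = _ := by rw [hsc]
  have ha : h.Tt (h.v * h.c) := by
    rw [← e1, show h.v' * h.c * h.v' = h.v' * h.c * h.v'⁻¹ by
      rw [inv_eq_of_mul_eq_one_right (h.Vs_sq h.v'_mem)]]
    exact h.tt_conj h.tt_c
  rcases f.fix_c hx hcx with e | e | e | e <;> subst e
  · rw [one_mul]; exact h.tt_c
  · exact ha
  · rw [← e2, show q * h.c * q = q * h.c * q⁻¹ by rw [hqi]]; exact h.tt_conj h.tt_c
  · have e3 : h.v * f.w₁ * h.c = q * (h.v * h.c) * q⁻¹ := by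
      calc h.v * f.w₁ * h.c = h.v * (q * h.c * q) := by rw [e2, mul_assoc]
        _ = (h.v * q) * h.c * q := by group
        _ = (q * h.v) * h.c * q⁻¹ := by rw [hqi, f.W_comm (h.Vs_le_W h.v_mem) hqW]
        _ = _ := by group
    rw [show f.e * h.c = h.v * f.w₁ * h.c from rfl, e3]
    exact h.tt_conj ha

end Frame

end CfsgLib.AltEightLocal
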