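import Cfsg.Agent.AltEightLocal.Setup

/-!
Elements of order three, the involutions commuting with them, and the absence of subgroups of
index two.
-/

set_option autoImplicit false

namespace CfsgLib.AltEightLocal

open Equiv
open scoped Pointwise

variable {G : Type*} [Group G]

theorem exists_commute_involution {x y : G} (h : IsConj x y) {i : G} (hi : i * y = y * i) :
    ∃ k : G, k * x * k⁻¹ = y ∧ (k⁻¹ * i * k) * x = x * (k⁻¹ * i * k) := by
  obtain ⟨k, hk⟩ := isConj_iff.1 h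
  refine ⟨k, hk, ?_⟩
  calc k⁻¹ * i * k * x = k⁻¹ * (i * (k * x * k⁻¹)) * k := by group
    _ = k⁻¹ * ((k * x * k⁻¹) * i) * k := by rw [hk, hi]
    _ = _ := by group

theorem conj_of_mul_cube {a b : G} (ha : a * a = 1) (hb : b * b = 1)
    (h3 : (a * b) ^ 3 = 1) : a * b * a * (a * b)⁻¹ = b := by
  have aI : a⁻¹ = a := inv_eq_of_mul_eq_one_right ha
  have bI : b⁻¹ = b := inv_eq_of_mul_eq_one_right hb
  calc a * b * a * (a * b)⁻¹ = a * b * a * (b * a) := by rw [mul_inv_rev, aI, bI]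
    _ = (a * b) ^ 3 * b := by
      rw [pow_three']; simp only [mul_assoc]; simp [hb]
    _ = b := by rw [h3, one_mul]

theorem conj_sq {k i : G} (hi : i * i = 1) : k⁻¹ * i * k * (k⁻¹ * i * k) = 1 := by
  calc k⁻¹ * i * k * (k⁻¹ * i * k) = k⁻¹ * (i * i) * k := by group
    _ = 1 := by rw [hi]; group

theorem conj_ne {k i : G} (hi : i ≠ 1) : k⁻¹ * i * k ≠ 1 := fun h => hi <| by
  calc i = k * (k⁻¹ * i * k) * k⁻¹ := by group
    _ = 1 := by rw [h]; group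

theorem isConj_inv {x y : G} (hxy : IsConj x y) : IsConj x⁻¹ y⁻¹ := by
  obtain ⟨k, hk⟩ := isConj_iff.1 hxy
  exact isConj_iff.2 ⟨k, by rw [← hk]; group⟩

theorem conj_c_tail : ∃ ρ : Perm (Fin 5), Perm.sign ρ = 1 ∧ ρ * flip * ρ⁻¹ = tail :=
  odd_involution tail sign_facts.2.2.1 mul_facts.2.2.2.2.1

namespace Hyp

variable (h : Hyp G)

/-- The inverter of `z` and `w`. -/
abbrev c : G := h.L.al flip

/-- The involution fixing `z` and inverting `w`. -/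
abbrev t : G := h.L.al turn

theorem z_cube : h.z ^ 3 = 1 := h.L.cube

theorem w_cube : h.w ^ 3 = 1 := h.w_eq ▸ h.L.w_cube

theorem z_ne : h.z ≠ 1 := h.L.ne

theorem w_ne : h.w ≠ 1 := h.w_eq ▸ h.L.w_ne

theorem zw_comm : h.z * h.w = h.w * h.z := h.w_eq ▸ h.L.comm_w.symm

theorem u_inv : h.u⁻¹ = h.u := inv_eq_of_mul_eq_one_right h.u_sq

theorem u_w : h.u * h.w * h.u = h.z := by
  calc h.u * h.w * h.u = (h.u * h.u) * h.z * (h.u * h.u) := by rw [← h.u_z]; group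
    _ = h.z := by rw [h.u_sq, one_mul, mul_one]

theorem c_sq : h.c * h.c = 1 := h.L.al_sq mul_facts.2.2.1

theorem c_inv : h.c⁻¹ = h.c := inv_eq_of_mul_eq_one_right h.c_sq

theorem c_z : h.c * h.z * h.c = h.z⁻¹ := by
  have := h.L.inv _ sign_facts.2.1
  rwa [show (h.L.al flip)⁻¹ = h.c from h.c_inv] at this

theorem c_w : h.c * h.w * h.c = h.w⁻¹ := by
  rw [← h.w_eq, ← map_mul, ← map_mul, ← map_inv]
  exact congrArg h.L.al mul_facts.2.2.2.2.2.2.2.2.2.2.1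

theorem t_sq : h.t * h.t = 1 := h.L.al_sq mul_facts.2.2.2.2.2.2.1

theorem t_z : h.t * h.z = h.z * h.t := h.L.comm _ sign_facts.2.2.2.1

theorem t_w : h.t * h.w * h.t = h.w⁻¹ := by
  rw [← h.w_eq, ← map_mul, ← map_mul, ← map_inv]
  exact congrArg h.L.al mul_facts.2.2.2.2.2.2.2.2.2.2.2.2

theorem tail_w : h.L.al tail * h.w = h.w * h.L.al tail := by
  rw [← h.w_eq, ← map_mul, ← map_mul]
  exact congrArg h.L.al (by decide +kernel)

/-- The subgroup `⟨z, w⟩`. -/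
def D : Subgroup G := Subgroup.centralizer {h.z, h.w}

theorem mem_D {g : G} : g ∈ h.D ↔ g * h.z = h.z * g ∧ g * h.w = h.w * g := by
  rw [D, Subgroup.mem_centralizer_iff]
  simp [eq_comm]

theorem grid {g : G} (hg : g ∈ h.D) : ∃ i j : Fin 3, g = h.z ^ (i : ℕ) * h.w ^ (j : ℕ) :=
  h.selfC g (h.mem_D.1 hg).1 (h.mem_D.1 hg).2

theorem z_mem : h.z ∈ h.D := h.mem_D.2 ⟨rfl, h.zw_comm⟩

theorem w_mem : h.w ∈ h.D := h.mem_D.2 ⟨h.zw_comm.symm, rfl⟩

theorem D_comm {a b : G} (ha : a ∈ h.D) (hb : b ∈ h.D) : a * b = b * a := by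
  obtain ⟨i, j, rfl⟩ := h.grid hb
  exact ((Commute.pow_right (h.mem_D.1 ha).1 _).mul_right
    (Commute.pow_right (h.mem_D.1 ha).2 _)).eq

theorem card_D : Nat.card h.D = 9 := by
  let f : Fin 3 × Fin 3 → h.D := fun p => ⟨h.z ^ (p.1 : ℕ) * h.w ^ (p.2 : ℕ),
    mul_mem (pow_mem h.z_mem _) (pow_mem h.w_mem _)⟩
  have hb : Function.Bijective f := by
    refine ⟨?_, ?_⟩
    · rintro ⟨i, j⟩ ⟨i', j'⟩ e
      have e' := congrArg Subtype.val e
      simp only [f, ← h.w_eq] at e'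
      obtain ⟨rfl, rfl⟩ := h.L.grid_inj e'
      rfl
    · rintro ⟨g, hg⟩
      obtain ⟨i, j, rfl⟩ := h.grid hg
      exact ⟨(i, j), rfl⟩
  rw [← Nat.card_congr (Equiv.ofBijective f hb), Nat.card_prod, Nat.card_eq_fintype_card,
    Fintype.card_fin]

theorem D_cube {g : G} (hg : g ∈ h.D) : g ^ 3 = 1 := by
  obtain ⟨i, j, rfl⟩ := h.grid hg
  rw [((show Commute h.z h.w from h.zw_comm).pow_pow _ _).mul_pow, ← pow_mul, ← pow_mul,
    mul_comm, mul_comm (j : ℕ), pow_mul, pow_mul, h.z_cube, h.w_cube, one_pow, one_pow, one_mul]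

theorem eq_one_of_D_sq {g : G} (hg : g ∈ h.D) (h2 : g * g = 1) : g = 1 := by
  have h3 := h.D_cube hg
  rw [pow_three', h2, one_mul] at h3
  exact h3

theorem u_conj_D {g : G} (hg : g ∈ h.D) : h.u * g * h.u ∈ h.D := by
  obtain ⟨i, j, rfl⟩ := h.grid hg
  have e : h.u * (h.z ^ (i : ℕ) * h.w ^ (j : ℕ)) * h.u = h.w ^ (i : ℕ) * h.z ^ (j : ℕ) := by
    calc h.u * (h.z ^ (i : ℕ) * h.w ^ (j : ℕ)) * h.u
        = (h.u * h.z * h.u⁻¹) ^ (i : ℕ) * (h.u * h.w * h.u⁻¹) ^ (j : ℕ) * (h.u * h.u) := by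
          rw [conj_pow, conj_pow]; group
      _ = _ := by rw [h.u_inv, h.u_z, h.u_w, h.u_sq, mul_one]
  rw [e]
  exact mul_mem (pow_mem h.w_mem _) (pow_mem h.z_mem _)

theorem u_not_mem : h.u ∉ h.D := fun hu => by
  have := h.eq_one_of_D_sq hu h.u_sq
  have e := h.u_z
  rw [this, one_mul, mul_one] at e
  have e2 : h.z ^ ((1 : Fin 3) : ℕ) * h.L.al cyc ^ ((0 : Fin 3) : ℕ) =
      h.z ^ ((0 : Fin 3) : ℕ) * h.L.al cyc ^ ((1 : Fin 3) : ℕ) := by simp [h.w_eq, ← e]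
  exact absurd (h.L.grid_inj e2).1 (by decide)

theorem u_zw : h.u * (h.z * h.w) = h.z * h.w * h.u := by
  calc h.u * (h.z * h.w) = (h.u * h.z * h.u⁻¹) * (h.u * h.w * h.u⁻¹) * h.u := by group
    _ = _ := by rw [h.u_inv, h.u_z, h.u_w, h.zw_comm]

variable [Finite G]

include h

theorem card_centralizer_z : 60 ≤ Nat.card (Subgroup.centralizer ({h.z} : Set G)) := h.L.sixty_le

/-- The centraliser of `z * w` is `D ∪ D u`. -/
theorem of_commute_zw {g : G} (hg : g * (h.z * h.w) = h.z * h.w * g) :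
    g ∈ h.D ∨ g * h.u ∈ h.D := by
  obtain ⟨C, hC⟩ : ∃ C : Subgroup G, C = Subgroup.centralizer ({h.z * h.w} : Set G) := ⟨_, rfl⟩
  have hcardC : Nat.card C = 18 := hC ▸ h.cy
  have hle : h.D ≤ C := fun x hx => hC ▸ Subgroup.mem_centralizer_singleton_iff.2
    (h.D_comm hx (mul_mem h.z_mem h.w_mem))
  have hu : h.u ∈ C := hC ▸ Subgroup.mem_centralizer_singleton_iff.2 h.u_zw
  have hidx : (h.D.subgroupOf C).index = 2 := by
    have e := (h.D.subgroupOf C).card_mul_index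
    rw [Nat.card_congr (Subgroup.subgroupOfEquivOfLe hle).toEquiv, h.card_D, hcardC] at e
    omega
  have hgC : g ∈ C := hC ▸ Subgroup.mem_centralizer_singleton_iff.2 hg
  rcases em (g ∈ h.D) with h1 | h1
  · exact Or.inl h1
  · refine Or.inr ?_
    have h2 := Subgroup.mul_mem_iff_of_index_two hidx (a := ⟨g, hgC⟩) (b := ⟨h.u, hu⟩)
    simp only [Subgroup.mem_subgroupOf, Subgroup.coe_mul] at h2
    exact h2.2 ⟨fun x => absurd x h1, fun x => absurd x h.u_not_mem⟩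

/-- A Sylow 3-subgroup. -/
theorem exists_sylow : ∃ P : Sylow 3 G, (P : Subgroup G) = h.D := by
  haveI : Fact (Nat.Prime 3) := ⟨Nat.prime_three⟩
  have hf : (Nat.card G).factorization 3 = 2 := by
    have h1 : 2 ≤ (Nat.card G).factorization 3 :=
      (Nat.prime_three.pow_dvd_iff_le_factorization Nat.card_pos.ne').1
        (by rw [show 3 ^ 2 = Nat.card h.D by rw [h.card_D]; rfl]
            exact Subgroup.card_subgroup_dvd_card _)
    have h2 : ¬ 3 ≤ (Nat.card G).factorization 3 := fun hle =>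
      h.sylow ((Nat.prime_three.pow_dvd_iff_le_factorization Nat.card_pos.ne').2 hle)
    omega
  exact ⟨Sylow.ofCard h.D (by rw [h.card_D, hf]; rfl), rfl⟩

/-- Every element of order three is conjugate to `z` or to `z * w`. -/
theorem three_cases {x : G} (hx : x ^ 3 = 1) (hx1 : x ≠ 1) :
    IsConj h.z x ∨ IsConj (h.z * h.w) x := by
  haveI : Fact (Nat.Prime 3) := ⟨Nat.prime_three⟩
  have hp : IsPGroup 3 (Subgroup.zpowers x) :=
    IsPGroup.of_card (n := 1) (by rw [Nat.card_zpowers, pow_one, orderOf_eq_prime hx hx1])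
  obtain ⟨P, hP⟩ := hp.exists_le_sylow
  obtain ⟨Q, hQ⟩ := h.exists_sylow
  obtain ⟨g, hg⟩ := MulAction.exists_smul_eq G P Q
  have hxD : g * x * g⁻¹ ∈ h.D := by
    rw [← hQ, ← hg, Sylow.coe_subgroup_smul]
    exact Subgroup.smul_mem_pointwise_smul x (MulAut.conj g) _ (hP (Subgroup.mem_zpowers x))
  suffices hs : IsConj h.z (g * x * g⁻¹) ∨ IsConj (h.z * h.w) (g * x * g⁻¹) by
    have hgx : IsConj (g * x * g⁻¹) x := isConj_iff.2 ⟨g⁻¹, by group⟩
    exact hs.imp (fun e => e.trans hgx) (fun e => e.trans hgx)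
  obtain ⟨i, j, hij⟩ := h.grid hxD
  have hne : g * x * g⁻¹ ≠ 1 := fun e => hx1 (conj_eq_one_iff.1 e)
  rw [hij] at hne ⊢
  have cz : IsConj h.z h.z⁻¹ := isConj_iff.2 ⟨h.c, by rw [h.c_inv]; exact h.c_z⟩
  have cw : IsConj h.z h.w := isConj_iff.2 ⟨h.u, by rw [h.u_inv]; exact h.u_z⟩
  have cwi : IsConj h.z h.w⁻¹ := cz.trans (isConj_inv cw)
  have tI : h.t⁻¹ = h.t := inv_eq_of_mul_eq_one_right h.t_sq
  have d2 : IsConj (h.z * h.w) (h.z * h.w⁻¹) := isConj_iff.2 ⟨h.t, by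
    calc h.t * (h.z * h.w) * h.t⁻¹ = h.t * h.z * h.t⁻¹ * (h.t * h.w * h.t⁻¹) := by group
      _ = _ := by rw [h.t_z, mul_inv_cancel_right, tI, h.t_w]⟩
  have d3 : IsConj (h.z * h.w) (h.z⁻¹ * h.w⁻¹) := isConj_iff.2 ⟨h.c, by
    calc h.c * (h.z * h.w) * h.c⁻¹ = h.c * h.z * h.c⁻¹ * (h.c * h.w * h.c⁻¹) := by group
      _ = _ := by rw [h.c_inv, h.c_z, h.c_w]⟩
  have d4 : IsConj (h.z * h.w) (h.z⁻¹ * h.w) := d3.trans (isConj_iff.2 ⟨h.t, by
    calc h.t * (h.z⁻¹ * h.w⁻¹) * h.t⁻¹ = (h.t * h.z * h.t⁻¹)⁻¹ * (h.t * h.w * h.t⁻¹)⁻¹ := by group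
      _ = _ := by rw [h.t_z, mul_inv_cancel_right, tI, h.t_w, inv_inv]⟩)
  have z2 : h.z ^ 2 = h.z⁻¹ :=
    (inv_eq_of_mul_eq_one_right (by rw [← pow_succ', h.z_cube])).symm
  have w2 : h.w ^ 2 = h.w⁻¹ :=
    (inv_eq_of_mul_eq_one_right (by rw [← pow_succ', h.w_cube])).symm
  have hi : (i : ℕ) = 0 ∨ (i : ℕ) = 1 ∨ (i : ℕ) = 2 := by omega
  have hj : (j : ℕ) = 0 ∨ (j : ℕ) = 1 ∨ (j : ℕ) = 2 := by omega
  rcases hi with e | e | e <;> rcases hj with e' | e' | e' <;> rw [e, e'] at hne ⊢ <;>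
    simp only [pow_zero, pow_one, one_mul, mul_one, z2, w2] at hne ⊢ <;>
    first
      | exact absurd rfl hne
      | exact Or.inl (IsConj.refl _)
      | exact Or.inl cz
      | exact Or.inl cw
      | exact Or.inl cwi
      | exact Or.inr (IsConj.refl _)
      | exact Or.inr d2
      | exact Or.inr d3
      | exact Or.inr d4

theorem z_not_zw : ¬ IsConj h.z (h.z * h.w) := by
  intro hc
  obtain ⟨k, hk⟩ := isConj_iff.1 hc
  have h1 := h.cy
  rw [← hk, card_centralizer_conj] at h1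
  have := h.card_centralizer_z
  omega

/-- The class of `t`. -/
def Tt (x : G) : Prop := IsConj h.t x

/-- An involution commuting with a conjugate of `z` is conjugate to `t`. -/
theorem tt_of_commute {x y : G} (hy : IsConj h.z y) (hx : x * x = 1) (hx1 : x ≠ 1)
    (hxy : x * y = y * x) : h.Tt x := by
  obtain ⟨k, -, hk⟩ := exists_commute_involution hy hxy
  have h2 : (k⁻¹ * x * k) ^ 2 = 1 := by rw [pow_two, conj_sq hx]
  have ho : ¬ 3 ∣ orderOf (k⁻¹ * x * k) := fun h3 => by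
    have := Nat.le_of_dvd (by norm_num) (h3.trans (orderOf_dvd_of_pow_eq_one h2))
    omega
  obtain ⟨σ, hσ, e⟩ := h.L.of_commute_coprime hk ho
  have hσ2 : σ * σ = 1 := h.L.inj (by rw [map_mul, ← e, conj_sq hx, map_one])
  have hσ1 : σ ≠ 1 := fun e1 => conj_ne (k := k) hx1 (by rw [e, e1, map_one])
  obtain ⟨ρ, -, hρ⟩ := even_involution σ hσ hσ2 hσ1
  refine isConj_iff.2 ⟨k * h.L.al ρ, ?_⟩
  calc k * h.L.al ρ * h.t * (k * h.L.al ρ)⁻¹
      = k * h.L.al (ρ * turn * ρ⁻¹) * k⁻¹ := by rw [map_mul, map_mul, map_inv]; group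
    _ = x := by rw [hρ, ← e]; group

/-- An involution inverting a conjugate of `z` is conjugate to `c`. -/
theorem isConj_c_of_inverts {x y : G} (hy : IsConj h.z y) (hx : x * x = 1)
    (hxy : x * y * x⁻¹ = y⁻¹) : IsConj h.c x := by
  obtain ⟨k, hk⟩ := isConj_iff.1 hy
  have hinv : (k⁻¹ * x * k) * h.z * (k⁻¹ * x * k)⁻¹ = h.z⁻¹ := by
    calc (k⁻¹ * x * k) * h.z * (k⁻¹ * x * k)⁻¹ = k⁻¹ * (x * (k * h.z * k⁻¹) * x⁻¹) * k := by group
      _ = k⁻¹ * (k * h.z * k⁻¹)⁻¹ * k := by rw [hk, hxy]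
      _ = _ := by group
  obtain ⟨i, σ, hσ, e⟩ := h.L.of_inverts hinv
  have hal : h.z ^ i * h.L.al σ * (h.z ^ i * h.L.al σ) = h.L.al σ * h.L.al σ := by
    have : h.L.al σ * h.z ^ i = (h.z ^ i)⁻¹ * h.L.al σ := by
      rw [← inv_pow, ← h.L.inv σ hσ, conj_pow, inv_mul_cancel_right]
    calc h.z ^ i * h.L.al σ * (h.z ^ i * h.L.al σ)
        = h.z ^ i * (h.L.al σ * h.z ^ i) * h.L.al σ := by group
      _ = _ := by rw [this]; group
  have hσ2 : σ * σ = 1 := h.L.inj (by rw [map_mul, ← hal, ← e, conj_sq hx, map_one])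
  obtain ⟨ρ, -, hρ⟩ := odd_involution σ hσ hσ2
  refine isConj_iff.2 ⟨k * h.z ^ (2 * i) * h.L.al ρ, ?_⟩
  have hswap : h.L.al σ * h.z ^ (2 * i) = (h.z ^ (2 * i))⁻¹ * h.L.al σ := by
    rw [← inv_pow, ← h.L.inv σ hσ, conj_pow, inv_mul_cancel_right]
  have hz4 : h.z ^ (2 * i) * h.z ^ (2 * i) = h.z ^ i := by
    rw [← pow_add, show 2 * i + 2 * i = i + 3 * i by ring, pow_add, pow_mul, h.z_cube, one_pow,
      mul_one]
  calc k * h.z ^ (2 * i) * h.L.al ρ * h.c * (k * h.z ^ (2 * i) * h.L.al ρ)⁻¹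
      = k * (h.z ^ (2 * i) * h.L.al (ρ * flip * ρ⁻¹) * (h.z ^ (2 * i))⁻¹) * k⁻¹ := by
        rw [map_mul, map_mul, map_inv]; group
    _ = k * (h.z ^ (2 * i) * h.z ^ (2 * i) * h.L.al σ) * k⁻¹ := by
        rw [hρ]
        congr 2
        rw [mul_assoc, mul_assoc]
        congr 1
        have := hswap
        calc h.L.al σ * (h.z ^ (2 * i))⁻¹
            = h.z ^ (2 * i) * ((h.z ^ (2 * i))⁻¹ * h.L.al σ) * (h.z ^ (2 * i))⁻¹ := by group
          _ = _ := by rw [← hswap]; group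
    _ = x := by rw [hz4, ← e]; group

/-- The involution `u t u` inverts `z` and centralises `w`, as does `al tail`. -/
theorem utu : ∃ d ∈ h.D, d * h.L.al tail * d⁻¹ = h.u * h.t * h.u := by
  obtain ⟨a, ha⟩ : ∃ a, a = h.L.al tail := ⟨_, rfl⟩
  obtain ⟨b, hb⟩ : ∃ b, b = h.u * h.t * h.u := ⟨_, rfl⟩
  have tI : h.t⁻¹ = h.t := inv_eq_of_mul_eq_one_right h.t_sq
  have a2 : a * a = 1 := by rw [ha]; exact h.L.al_sq mul_facts.2.2.2.2.1
  have aI : a⁻¹ = a := inv_eq_of_mul_eq_one_right a2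
  have b2 : b * b = 1 := by
    rw [hb]; simp only [mul_assoc]; simp [← mul_assoc, h.u_sq, mul_assoc _ h.t h.t, h.t_sq]
  have bI : b⁻¹ = b := inv_eq_of_mul_eq_one_right b2
  have az : a * h.z * a⁻¹ = h.z⁻¹ := by rw [ha]; exact h.L.inv _ sign_facts.2.2.1
  have aw : a * h.w * a⁻¹ = h.w := by rw [ha, h.tail_w, mul_inv_cancel_right]
  have bz : b * h.z * b⁻¹ = h.z⁻¹ := by
    calc b * h.z * b⁻¹ = h.u * (h.t * (h.u * h.z * h.u⁻¹) * h.t⁻¹) * h.u⁻¹ := by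
          rw [hb]; group
      _ = _ := by
        rw [h.u_inv, h.u_z, tI, h.t_w, show h.u * h.w⁻¹ * h.u = (h.u * h.w * h.u)⁻¹ by
          rw [mul_inv_rev, mul_inv_rev, h.u_inv, ← mul_assoc], h.u_w]
  have bw : b * h.w * b⁻¹ = h.w := by
    calc b * h.w * b⁻¹ = h.u * (h.t * (h.u * h.w * h.u⁻¹) * h.t⁻¹) * h.u⁻¹ := by
          rw [hb]; group
      _ = _ := by rw [h.u_inv, h.u_w, h.t_z, mul_inv_cancel_right, h.u_z]
  obtain ⟨d, hd⟩ : ∃ d, d = a * b := ⟨_, rfl⟩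
  have hdD : d ∈ h.D := by
    refine h.mem_D.2 ⟨mul_inv_eq_iff_eq_mul.1 ?_, mul_inv_eq_iff_eq_mul.1 ?_⟩
    · calc d * h.z * d⁻¹ = a * (b * h.z * b⁻¹) * a⁻¹ := by rw [hd]; group
        _ = (a * h.z * a⁻¹)⁻¹ := by rw [bz]; group
        _ = h.z := by rw [az, inv_inv]
    · calc d * h.w * d⁻¹ = a * (b * h.w * b⁻¹) * a⁻¹ := by rw [hd]; group
        _ = h.w := by rw [bw, aw]
  refine ⟨d, hdD, ?_⟩
  rw [← ha, ← hb, hd]
  exact conj_of_mul_cube a2 b2 (hd ▸ h.D_cube hdD)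

theorem tt_c : h.Tt h.c := by
  obtain ⟨ρ, -, hρ⟩ := conj_c_tail
  obtain ⟨d, -, hd⟩ := h.utu
  have e1 : IsConj h.t (h.u * h.t * h.u) := isConj_iff.2 ⟨h.u, by rw [h.u_inv]⟩
  have e2 : IsConj (h.L.al tail) (h.u * h.t * h.u) := isConj_iff.2 ⟨d, hd⟩
  have e3 : IsConj h.c (h.L.al tail) := isConj_iff.2 ⟨h.L.al ρ, by
    rw [← map_inv, ← map_mul, ← map_mul, hρ]⟩
  exact e1.trans (e2.symm.trans e3.symm)

theorem tt_of_inverts {x y : G} (hy : IsConj h.z y) (hx : x * x = 1)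
    (hxy : x * y * x⁻¹ = y⁻¹) : h.Tt x :=
  h.tt_c.trans (h.isConj_c_of_inverts hy hx hxy)

theorem c_u : h.u * h.c = h.c * h.u := h.u_flip

/-- An involution commuting with a conjugate of `z * w` is conjugate to `u`. -/
theorem ut_of_commute {x y : G} (hy : IsConj (h.z * h.w) y) (hx : x * x = 1) (hx1 : x ≠ 1)
    (hxy : x * y = y * x) : IsConj h.u x := by
  obtain ⟨k, -, hk⟩ := exists_commute_involution hy hxy
  obtain ⟨i, hi⟩ : ∃ i, i = k⁻¹ * x * k := ⟨_, rfl⟩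
  have hi2 : i * i = 1 := hi ▸ conj_sq hx
  have hi1 : i ≠ 1 := hi ▸ conj_ne hx1
  have hD : i * h.u ∈ h.D :=
    (h.of_commute_zw (hi ▸ hk)).resolve_left fun e => hi1 (h.eq_one_of_D_sq e hi2)
  have hiI : i⁻¹ = i := inv_eq_of_mul_eq_one_right hi2
  have hud : h.u * i ∈ h.D := by
    have e := inv_mem hD
    rwa [mul_inv_rev, hiI, h.u_inv] at e
  have e2 := conj_of_mul_cube h.u_sq hi2 (h.D_cube hud)
  refine isConj_iff.2 ⟨k * (h.u * i), ?_⟩
  calc k * (h.u * i) * h.u * (k * (h.u * i))⁻¹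
      = k * (h.u * i * h.u * (h.u * i)⁻¹) * k⁻¹ := by group
    _ = x := by rw [e2, hi]; group

/-- The centraliser of an involution has no subgroup of order nine. -/
theorem not_nine_dvd {M : Subgroup G} {i : G} (hi : i * i = 1) (hi1 : i ≠ 1)
    (hM : ∀ m ∈ M, m * i = i * m) : ¬ 9 ∣ Nat.card M := by
  intro h9
  haveI : Fact (Nat.Prime 3) := ⟨Nat.prime_three⟩
  obtain ⟨E, hE⟩ := Sylow.exists_subgroup_card_pow_prime (G := M) 3 (n := 2) (by simpa using h9)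
  have hE' : Nat.card (E.map M.subtype) = 3 ^ 2 := by
    rw [Subgroup.card_map_of_injective M.subtype_injective, hE]
  obtain ⟨P, hP⟩ := (IsPGroup.of_card hE').exists_le_sylow
  obtain ⟨Q, hQ⟩ := h.exists_sylow
  obtain ⟨g, hg⟩ := MulAction.exists_smul_eq G Q P
  have hPD : ((MulAut.conj g) • h.D : Subgroup G) = P := by
    rw [← hQ, ← hg, Sylow.coe_subgroup_smul]
  have hPc : Nat.card (P : Subgroup G) = 9 := by
    rw [← hPD, ← h.card_D]
    exact Nat.card_congr (Subgroup.equivSMul (MulAut.conj g) h.D).toEquiv.symm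
  have heq : E.map M.subtype = P :=
    Subgroup.eq_of_le_of_card_ge hP (by rw [hE', hPc]; norm_num)
  have hmem : ∀ d ∈ h.D, g * d * g⁻¹ ∈ M := fun d hd => by
    have h1 : g * d * g⁻¹ ∈ E.map M.subtype := by
      rw [heq, ← hPD]
      exact Subgroup.smul_mem_pointwise_smul d (MulAut.conj g) _ hd
    obtain ⟨m, -, hm⟩ := h1
    exact hm ▸ m.2
  have hcm : ∀ d ∈ h.D, (g⁻¹ * i * g) * d = d * (g⁻¹ * i * g) := by
    intro d hd
    calc (g⁻¹ * i * g) * d = g⁻¹ * (i * (g * d * g⁻¹)) * g := by group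
      _ = g⁻¹ * ((g * d * g⁻¹) * i) * g := by rw [hM _ (hmem d hd)]
      _ = _ := by group
  exact conj_ne hi1 (h.eq_one_of_D_sq
    (h.mem_D.2 ⟨hcm _ h.z_mem, hcm _ h.w_mem⟩) (conj_sq hi))

/-- Two elements of order three in a group centralising an involution. -/
theorem conj_three {M : Subgroup G} {i : G} (hi : i * i = 1) (hi1 : i ≠ 1)
    (hM : ∀ m ∈ M, m * i = i * m) {x y : G} (hx : x ∈ M) (hx3 : x ^ 3 = 1) (hx1 : x ≠ 1)
    (hy : y ∈ M) (hy3 : y ^ 3 = 1) (hy1 : y ≠ 1) :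
    ∃ m ∈ M, m * x * m⁻¹ = y ∨ m * x * m⁻¹ = y⁻¹ := by
  haveI : Fact (Nat.Prime 3) := ⟨Nat.prime_three⟩
  have hord : ∀ a : G, a ^ 3 = 1 → a ≠ 1 → ∀ ha : a ∈ M, orderOf (⟨a, ha⟩ : M) = 3 :=
    fun a h3 h1 ha => by rw [Subgroup.orderOf_mk]; exact orderOf_eq_prime h3 h1
  have hf : (Nat.card M).factorization 3 = 1 := by
    have h1 : 1 ≤ (Nat.card M).factorization 3 :=
      (Nat.prime_three.pow_dvd_iff_le_factorization Nat.card_pos.ne').1
        (by rw [pow_one]; exact hord x hx3 hx1 hx ▸ orderOf_dvd_natCard _)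
    have h2 : ¬ 2 ≤ (Nat.card M).factorization 3 := fun hle => h.not_nine_dvd hi hi1 hM
      ((Nat.prime_three.pow_dvd_iff_le_factorization Nat.card_pos.ne').2 hle)
    omega
  let X : Sylow 3 M := Sylow.ofCard (Subgroup.zpowers ⟨x, hx⟩)
    (by rw [Nat.card_zpowers, hord x hx3 hx1 hx, hf]; rfl)
  let Y : Sylow 3 M := Sylow.ofCard (Subgroup.zpowers ⟨y, hy⟩)
    (by rw [Nat.card_zpowers, hord y hy3 hy1 hy, hf]; rfl)
  obtain ⟨m, hm⟩ := MulAction.exists_smul_eq M X Y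
  have h1 : m * ⟨x, hx⟩ * m⁻¹ ∈ (Y : Subgroup M) := by
    rw [← hm, Sylow.coe_subgroup_smul]
    exact Subgroup.smul_mem_pointwise_smul _ (MulAut.conj m) _ (Subgroup.mem_zpowers _)
  obtain ⟨k, hk⟩ := Subgroup.mem_zpowers_iff.1 h1
  refine ⟨m, m.2, ?_⟩
  have hk' : (m : G) * x * (m : G)⁻¹ = y ^ k := by
    have := congrArg Subtype.val hk
    simpa using this.symm
  have hy3' : y ^ (3 : ℤ) = 1 := by exact_mod_cast hy3
  rw [hk', ← Int.emod_add_mul_ediv k 3, zpow_add, zpow_mul, hy3', one_zpow, mul_one]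
  have : k % 3 = 0 ∨ k % 3 = 1 ∨ k % 3 = 2 := by omega
  rcases this with e | e | e
  · exfalso
    suffices e0 : (m : G) * x * (m : G)⁻¹ = 1 from hx1 (conj_eq_one_iff.1 e0)
    rw [hk', ← Int.emod_add_mul_ediv k 3, zpow_add, zpow_mul, hy3', one_zpow, mul_one, e,
      zpow_zero]
  · rw [e, zpow_one]; exact Or.inl rfl
  · rw [e, zpow_two]
    exact Or.inr (inv_eq_of_mul_eq_one_right (by rw [← mul_assoc, ← pow_three', hy3])).symm

theorem t_ne : h.t ≠ 1 := h.L.al_ne mul_facts.2.2.2.2.2.2.2.1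

theorem u_ne : h.u ≠ 1 := fun e => h.u_not_mem (e ▸ one_mem _)

/-- `u` is not conjugate to `t`. -/
theorem t_not_u : ¬ h.Tt h.u := by
  intro hc
  obtain ⟨k, hk⟩ := isConj_iff.1 hc
  obtain ⟨M, hMdef⟩ : ∃ M : Subgroup G, M = Subgroup.centralizer ({h.u} : Set G) := ⟨_, rfl⟩
  have hM : ∀ m ∈ M, m * h.u = h.u * m := fun m hm =>
    Subgroup.mem_centralizer_singleton_iff.1 (hMdef ▸ hm)
  have hzk : k * h.z * k⁻¹ ∈ M := by
    rw [hMdef, Subgroup.mem_centralizer_singleton_iff, ← hk]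
    calc k * h.z * k⁻¹ * (k * h.t * k⁻¹) = k * (h.z * h.t) * k⁻¹ := by group
      _ = k * (h.t * h.z) * k⁻¹ := by rw [h.t_z]
      _ = _ := by group
  have hzw : h.z * h.w ∈ M := by
    rw [hMdef, Subgroup.mem_centralizer_singleton_iff]; exact h.u_zw.symm
  have hzw1 : h.z * h.w ≠ 1 := fun e => by
    have h1 := h.cy
    rw [e] at h1
    have h2 : Subgroup.centralizer ({(1 : G)} : Set G) = ⊤ :=
      eq_top_iff.2 fun q _ => Subgroup.mem_centralizer_singleton_iff.2 (by simp)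
    rw [h2, Subgroup.card_top] at h1
    have h3 := h.card_centralizer_z
    have := Subgroup.card_le_card_group (Subgroup.centralizer ({h.z} : Set G))
    omega
  obtain ⟨m, -, hm⟩ := h.conj_three h.u_sq h.u_ne hM hzk
    (by rw [conj_pow, h.z_cube, mul_one, mul_inv_cancel])
    (fun e => h.z_ne (conj_eq_one_iff.1 e)) hzw
    (h.D_cube (mul_mem h.z_mem h.w_mem)) hzw1
  have hz : IsConj h.z (m * (k * h.z * k⁻¹) * m⁻¹) := isConj_iff.2 ⟨m * k, by group⟩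
  rcases hm with e | e <;> rw [e] at hz
  · exact h.z_not_zw hz
  · have h1 := isConj_inv hz
    rw [inv_inv] at h1
    exact h.z_not_zw ((isConj_iff.2 ⟨h.c, by rw [h.c_inv]; exact h.c_z⟩ :
      IsConj h.z h.z⁻¹).trans h1)

/-- Two elements normalising `D` and agreeing on `z`. -/
theorem normalizer_cases {g : G} (hg : ∀ d ∈ h.D, g * d * g⁻¹ ∈ h.D) :
    g * h.z * g⁻¹ = h.z ∨ g * h.z * g⁻¹ = h.z⁻¹ ∨ g * h.z * g⁻¹ = h.w ∨
      g * h.z * g⁻¹ = h.w⁻¹ := by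
  have hz : IsConj h.z (g * h.z * g⁻¹) := isConj_iff.2 ⟨g, rfl⟩
  obtain ⟨i, j, hij⟩ := h.grid (hg _ h.z_mem)
  have hne : g * h.z * g⁻¹ ≠ 1 := fun e => h.z_ne (conj_eq_one_iff.1 e)
  rw [hij] at hz hne ⊢
  have tI : h.t⁻¹ = h.t := inv_eq_of_mul_eq_one_right h.t_sq
  have d2 : IsConj (h.z * h.w) (h.z * h.w⁻¹) := isConj_iff.2 ⟨h.t, by
    calc h.t * (h.z * h.w) * h.t⁻¹ = h.t * h.z * h.t⁻¹ * (h.t * h.w * h.t⁻¹) := by group
      _ = _ := by rw [h.t_z, mul_inv_cancel_right, tI, h.t_w]⟩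
  have d3 : ∀ a b : G, a * b = b * a → h.c * a * h.c⁻¹ = a⁻¹ → h.c * b * h.c⁻¹ = b⁻¹ →
      IsConj (a * b) (a⁻¹ * b⁻¹) := fun a b _ ha hb => isConj_iff.2 ⟨h.c, by
    calc h.c * (a * b) * h.c⁻¹ = h.c * a * h.c⁻¹ * (h.c * b * h.c⁻¹) := by group
      _ = _ := by rw [ha, hb]⟩
  have hcz : h.c * h.z * h.c⁻¹ = h.z⁻¹ := by rw [h.c_inv]; exact h.c_z
  have hcw : h.c * h.w * h.c⁻¹ = h.w⁻¹ := by rw [h.c_inv]; exact h.c_w
  have hcwi : h.c * h.w⁻¹ * h.c⁻¹ = (h.w⁻¹)⁻¹ := by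
    calc h.c * h.w⁻¹ * h.c⁻¹ = (h.c * h.w * h.c⁻¹)⁻¹ := by group
      _ = _ := by rw [hcw]
  have z2 : h.z ^ 2 = h.z⁻¹ :=
    (inv_eq_of_mul_eq_one_right (by rw [← pow_succ', h.z_cube])).symm
  have w2 : h.w ^ 2 = h.w⁻¹ :=
    (inv_eq_of_mul_eq_one_right (by rw [← pow_succ', h.w_cube])).symm
  have hi : (i : ℕ) = 0 ∨ (i : ℕ) = 1 ∨ (i : ℕ) = 2 := by omega
  have hj : (j : ℕ) = 0 ∨ (j : ℕ) = 1 ∨ (j : ℕ) = 2 := by omega
  rcases hi with e | e | e <;> rcases hj with e' | e' | e' <;> rw [e, e'] at hz hne ⊢ <;>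
    simp only [pow_zero, pow_one, one_mul, mul_one, z2, w2] at hz hne ⊢ <;>
    first
      | exact absurd rfl hne
      | exact Or.inl trivial
      | exact Or.inr (Or.inl trivial)
      | exact Or.inr (Or.inr (Or.inl trivial))
      | exact Or.inr (Or.inr (Or.inr trivial))
      | exact absurd hz h.z_not_zw
      | exact absurd (hz.trans d2.symm) h.z_not_zw
      | exact absurd (hz.trans (d3 _ _ h.zw_comm hcz hcw).symm) h.z_not_zw
      | (refine absurd ((hz.trans ?_).trans d2.symm) h.z_not_zw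
         have e1 := d3 _ _ (h.D_comm h.z_mem (inv_mem h.w_mem)) hcz hcwi
         rw [inv_inv] at e1
         exact e1.symm)

/-- A conjugation fixing the set `{z, z⁻¹}`. -/
theorem hom_kills_fix (φ : G →* ℤˣ) (hal : ∀ σ, φ (h.L.al σ) = 1) (hz : φ h.z = 1) {g : G}
    (hg : g * h.z * g⁻¹ = h.z ∨ g * h.z * g⁻¹ = h.z⁻¹) : φ g = 1 := by
  obtain ⟨i, σ, rfl⟩ := h.L.surj g hg
  rw [map_mul, map_pow, hz, hal, one_pow, mul_one]

/-- `G` has no subgroup of index two. -/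
theorem no_index_two (K : Subgroup G) : K.index ≠ 2 := by
  intro hK
  haveI hKn : K.Normal := Subgroup.normal_of_index_eq_two hK
  have three_mem : ∀ {x : G}, x ^ 3 = 1 → x ∈ K := fun {x} hx => by
    have h2 := Subgroup.sq_mem_of_index_two hK x
    have e : x = (x ^ 2) ^ 2 := by
      rw [← pow_mul, pow_succ, hx, one_mul]
    rw [e]
    exact pow_mem h2 2
  have hmix : ∀ a b : G, a * b ∈ K ↔ (a ∈ K ↔ b ∈ K) := fun a b =>
    Subgroup.mul_mem_iff_of_index_two hK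
  let φ : G →* ℤˣ :=
    { toFun := fun g => by classical exact if g ∈ K then 1 else -1
      map_one' := by simp [one_mem]
      map_mul' := fun a b => by
        by_cases ha : a ∈ K <;> by_cases hb : b ∈ K <;> simp [ha, hb, hmix] }
  have hφ : ∀ g, φ g = 1 ↔ g ∈ K := fun g => by
    by_cases hg : g ∈ K <;> simp [φ, hg]
  have hzK : h.z ∈ K := three_mem h.z_cube
  -- the even permutations
  have hev : ∀ σ, Perm.sign σ = 1 → h.L.al σ ∈ K := by
    intro σ hσ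
    have hmem : σ ∈ alternatingGroup (Fin 5) := Equiv.Perm.mem_alternatingGroup.2 hσ
    rw [← Equiv.Perm.closure_three_cycles_eq_alternating] at hmem
    have hle : Subgroup.closure {π : Perm (Fin 5) | Equiv.Perm.IsThreeCycle π} ≤
        K.comap h.L.al := by
      rw [Subgroup.closure_le]
      intro π hπ
      exact three_mem (by rw [← map_pow, ← hπ.orderOf, pow_orderOf_eq_one, map_one])
    exact hle hmem
  have htail : h.t ∈ K := hev _ sign_facts.2.2.2.1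
  have hCz : ∀ g, g * h.z = h.z * g → g ∈ K := by
    intro g hg
    obtain ⟨i, σ, hs, rfl⟩ := h.L.of_commute hg
    exact mul_mem (pow_mem hzK i) (hev σ hs)
  have hCw : ∀ g, g * h.w = h.w * g → g ∈ K := by
    intro g hg
    have h1 : (h.u * g * h.u) * h.z = h.z * (h.u * g * h.u) := by
      calc (h.u * g * h.u) * h.z = h.u * g * (h.u * h.z * h.u) * h.u := by
            simp only [mul_assoc, h.u_sq, mul_one]
        _ = h.u * (g * h.w) * h.u := by rw [h.u_z]; group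
        _ = h.u * (h.w * g) * h.u := by rw [hg]
        _ = _ := by rw [← h.u_z]; simp only [← mul_assoc, h.u_sq, one_mul]
    have h2 := hKn.conj_mem _ (hCz _ h1) h.u
    rwa [h.u_inv, show h.u * (h.u * g * h.u) * h.u = (h.u * h.u) * g * (h.u * h.u) by group,
      h.u_sq, one_mul, mul_one] at h2
  obtain ⟨d, hdD, hd⟩ := h.utu
  have hc : h.c ∈ K := by
    obtain ⟨ρ, hρs, hρ⟩ := conj_c_tail
    have h1 : h.L.al tail ∈ K := by
      have h2 : h.u * h.t * h.u ∈ K := by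
        have := hKn.conj_mem _ htail h.u
        rwa [h.u_inv] at this
      rw [← hd] at h2
      have h3 := hKn.conj_mem _ h2 d⁻¹
      rwa [inv_inv, show d⁻¹ * (d * h.L.al tail * d⁻¹) * d = h.L.al tail by group] at h3
    have h4 := hKn.conj_mem _ h1 (h.L.al ρ)⁻¹
    rwa [inv_inv, ← hρ, map_mul, map_mul, map_inv, show (h.L.al ρ)⁻¹ *
      (h.L.al ρ * h.c * (h.L.al ρ)⁻¹) * h.L.al ρ = h.c by group] at h4
  have hal : ∀ σ, φ (h.L.al σ) = 1 := by
    intro σ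
    rw [hφ]
    rcases sign_cases σ with hs | hs
    · exact hev σ hs
    · have h1 : h.L.al (σ * flip) ∈ K := hev _ (by rw [map_mul, hs, sign_facts.2.1]; rfl)
      rw [map_mul] at h1
      exact ((hmix _ _).1 h1).2 hc
  have hfix : ∀ g, g * h.z * g⁻¹ = h.z ∨ g * h.z * g⁻¹ = h.z⁻¹ → g ∈ K := fun g hg =>
    (hφ g).1 (h.hom_kills_fix φ hal ((hφ _).2 hzK) hg)
  -- `t` is conjugate to `u t u` inside `K`
  obtain ⟨ρ, hρs, hρ⟩ := conj_c_tail
  obtain ⟨b, hb⟩ : ∃ b, b = d * h.L.al ρ := ⟨_, rfl⟩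
  have hbK : b ∈ K := hb ▸ mul_mem (three_mem (h.D_cube hdD)) (hev ρ hρs)
  have hbc : b * h.c * b⁻¹ = h.u * h.t * h.u := by
    rw [← hd, ← hρ, map_mul, map_mul, map_inv, hb]; group
  obtain ⟨k, hk⟩ : ∃ k, k = b * (h.u * b⁻¹ * h.u⁻¹) := ⟨_, rfl⟩
  have hkK : k ∈ K := hk ▸ mul_mem hbK (hKn.conj_mem _ (inv_mem hbK) h.u)
  have hkt : k * h.t * k⁻¹ = h.u * h.t * h.u := by
    rw [hk, ← hbc]
    calc b * (h.u * b⁻¹ * h.u⁻¹) * h.t * (b * (h.u * b⁻¹ * h.u⁻¹))⁻¹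
        = b * (h.u * (b⁻¹ * (h.u⁻¹ * h.t * h.u) * b) * h.u⁻¹) * b⁻¹ := by group
      _ = b * (h.u * h.c * h.u⁻¹) * b⁻¹ := by
          congr 2
          congr 2
          rw [h.u_inv, ← hbc]; group
      _ = _ := by rw [h.c_u, mul_inv_cancel_right]
  obtain ⟨i, hi⟩ : ∃ i, i = h.u * h.t * h.u := ⟨_, rfl⟩
  have hi2 : i * i = 1 := by
    rw [hi, show h.u * h.t * h.u * (h.u * h.t * h.u) = h.u * (h.t * (h.u * h.u) * h.t) * h.u by
      group, h.u_sq, mul_one, h.t_sq, mul_one, h.u_sq]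
  have hi1 : i ≠ 1 := fun e => h.t_ne <| by
    calc h.t = h.u⁻¹ * i * h.u⁻¹ := by rw [hi]; group
      _ = 1 := by rw [e, mul_one, h.u_inv, h.u_sq]
  have hiw : i * h.w = h.w * i := by
    rw [hi]
    calc h.u * h.t * h.u * h.w = h.u * (h.t * (h.u * h.w * h.u)) * h.u := by
          simp only [mul_assoc, h.u_sq, mul_one]
      _ = h.u * (h.z * h.t) * h.u := by rw [h.u_w, h.t_z]
      _ = (h.u * h.z * h.u) * (h.u * h.t * h.u) := by
          simp only [mul_assoc]; simp only [← mul_assoc h.u h.u, h.u_sq, one_mul]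
      _ = _ := by rw [h.u_z]
  obtain ⟨M, hMdef⟩ : ∃ M : Subgroup G, M = Subgroup.centralizer ({i} : Set G) ⊓ K := ⟨_, rfl⟩
  have hMmem : ∀ {m : G}, m * i = i * m → m ∈ K → m ∈ M := fun a b =>
    hMdef ▸ ⟨Subgroup.mem_centralizer_singleton_iff.2 a, b⟩
  have hMc : ∀ m ∈ M, m * i = i * m := fun m hm =>
    Subgroup.mem_centralizer_singleton_iff.1 (hMdef ▸ hm).1
  have hkz : k * h.z * k⁻¹ ∈ M := by
    refine hMmem ?_ (hKn.conj_mem _ hzK k)
    rw [hi, ← hkt]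
    calc k * h.z * k⁻¹ * (k * h.t * k⁻¹) = k * (h.z * h.t) * k⁻¹ := by group
      _ = k * (h.t * h.z) * k⁻¹ := by rw [h.t_z]
      _ = _ := by group
  obtain ⟨m, hm, hme⟩ := h.conj_three hi2 hi1 hMc hkz
    (by rw [conj_pow, h.z_cube, mul_one, mul_inv_cancel])
    (fun e => h.z_ne (conj_eq_one_iff.1 e)) (hMmem hiw.symm (three_mem h.w_cube)) h.w_cube h.w_ne
  -- move into the normaliser of `D`
  obtain ⟨n, hn⟩ : ∃ n, n = m * k := ⟨_, rfl⟩
  have hnK : n ∈ K := hn ▸ mul_mem (hMdef ▸ hm).2 hkK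
  have hnz : n * h.z * n⁻¹ = h.w ∨ n * h.z * n⁻¹ = h.w⁻¹ := by
    rw [hn]
    refine hme.imp (fun e => ?_) (fun e => ?_) <;>
    · rw [← e]; group
  obtain ⟨C, hCdef⟩ : ∃ C : Subgroup G, C = Subgroup.centralizer ({h.w} : Set G) := ⟨_, rfl⟩
  haveI : Fact (Nat.Prime 3) := ⟨Nat.prime_three⟩
  have hDC : h.D ≤ C := fun x hx =>
    hCdef ▸ Subgroup.mem_centralizer_singleton_iff.2 (h.mem_D.1 hx).2
  have hD'C : h.D.map (MulAut.conj n).toMonoidHom ≤ C := by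
    rintro _ ⟨x, hx, rfl⟩
    rw [hCdef, Subgroup.mem_centralizer_singleton_iff]
    show n * x * n⁻¹ * h.w = h.w * (n * x * n⁻¹)
    have hxz : x * h.z = h.z * x := (h.mem_D.1 hx).1
    have hc1 : Commute (n * x * n⁻¹) (n * h.z * n⁻¹) := by
      show _ * _ = _ * _
      calc n * x * n⁻¹ * (n * h.z * n⁻¹) = n * (x * h.z) * n⁻¹ := by group
        _ = _ := by rw [hxz]; group
    rcases hnz with e | e <;> rw [e] at hc1
    · exact hc1
    · exact Commute.inv_right_iff.1 hc1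
  have hf : (Nat.card C).factorization 3 = 2 := by
    obtain ⟨Q, hQ⟩ := h.exists_sylow
    have h2 : (Nat.card G).factorization 3 = 2 := by
      have := Q.card_eq_multiplicity
      rw [hQ, h.card_D] at this
      exact (Nat.pow_right_injective (by norm_num : 2 ≤ 3)
        (show 3 ^ 2 = 3 ^ (Nat.card G).factorization 3 from this)).symm
    refine le_antisymm (h2 ▸ (Nat.factorization_le_iff_dvd Nat.card_pos.ne'
      Nat.card_pos.ne').2 (Subgroup.card_subgroup_dvd_card C) 3) ?_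
    refine (Nat.prime_three.pow_dvd_iff_le_factorization Nat.card_pos.ne').1 ?_
    rw [show 3 ^ 2 = Nat.card h.D by rw [h.card_D]; rfl]
    exact Subgroup.card_dvd_of_le hDC
  let X : Sylow 3 C := Sylow.ofCard (h.D.subgroupOf C) (by
    rw [Nat.card_congr (Subgroup.subgroupOfEquivOfLe hDC).toEquiv, h.card_D, hf]; rfl)
  let Y : Sylow 3 C := Sylow.ofCard ((h.D.map (MulAut.conj n).toMonoidHom).subgroupOf C) (by
    rw [Nat.card_congr (Subgroup.subgroupOfEquivOfLe hD'C).toEquiv,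
      Subgroup.card_map_of_injective (show Function.Injective (MulAut.conj n).toMonoidHom from
        (MulAut.conj n).injective), h.card_D, hf]; rfl)
  obtain ⟨q, hq⟩ := MulAction.exists_smul_eq C Y X
  have hqK : (q : G) ∈ K :=
    hCw _ (Subgroup.mem_centralizer_singleton_iff.1 (hCdef ▸ q.2))
  have hqw : (q : G) * h.w = h.w * (q : G) :=
    Subgroup.mem_centralizer_singleton_iff.1 (hCdef ▸ q.2)
  obtain ⟨g, hg⟩ : ∃ g, g = (q : G) * n := ⟨_, rfl⟩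
  have hgD : ∀ x ∈ h.D, g * x * g⁻¹ ∈ h.D := by
    intro x hx
    have h1 : n * x * n⁻¹ ∈ h.D.map (MulAut.conj n).toMonoidHom := ⟨x, hx, rfl⟩
    have h2 : (⟨n * x * n⁻¹, hD'C h1⟩ : C) ∈ (Y : Subgroup C) := h1
    have h3 := Subgroup.smul_mem_pointwise_smul _ (MulAut.conj q) _ h2
    rw [← Sylow.coe_subgroup_smul, hq] at h3
    have h4 : (q : G) * (n * x * n⁻¹) * (q : G)⁻¹ ∈ h.D := h3
    rw [hg]
    convert h4 using 1
    group
  have hgz : g * h.z * g⁻¹ = h.w ∨ g * h.z * g⁻¹ = h.w⁻¹ := by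
    rw [hg]
    refine hnz.imp (fun e => ?_) (fun e => ?_) <;>
    · calc (q : G) * n * h.z * ((q : G) * n)⁻¹ = (q : G) * (n * h.z * n⁻¹) * (q : G)⁻¹ := by group
        _ = _ := by
          rw [e]
          first
            | rw [hqw, mul_inv_cancel_right]
            | rw [(Commute.inv_right (show Commute (q : G) h.w from hqw)).eq, mul_inv_cancel_right]
  have hug : h.u * g ∈ K := by
    refine hfix _ ?_
    refine hgz.imp (fun e => ?_) (fun e => ?_)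
    · calc h.u * g * h.z * (h.u * g)⁻¹ = h.u * (g * h.z * g⁻¹) * h.u⁻¹ := by group
        _ = h.z := by rw [e, h.u_inv, h.u_w]
    · calc h.u * g * h.z * (h.u * g)⁻¹ = h.u * (g * h.z * g⁻¹) * h.u⁻¹ := by group
        _ = h.z⁻¹ := by
          rw [e, ← h.u_w, mul_inv_rev, mul_inv_rev, h.u_inv, ← mul_assoc]
  have hgK : g ∈ K := hg ▸ mul_mem hqK hnK
  have huK : h.u ∈ K := ((hmix _ _).1 hug).2 hgK
  -- Frattini
  obtain ⟨Q, hQ⟩ := h.exists_sylow
  refine absurd (Subgroup.index_eq_one.2 (eq_top_iff.2 fun x _ => ?_)) (by rw [hK]; norm_num)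
  have hDK : h.D ≤ K := fun d hd => three_mem (h.D_cube hd)
  let Q₁ : Sylow 3 K := Sylow.subtype Q (hQ ▸ hDK)
  haveI : (K : Subgroup G).Normal := hKn
  let Q₂ : Sylow 3 K := Sylow.subtype (x • Q) (by
    intro a ha
    rw [Sylow.coe_subgroup_smul, Subgroup.mem_pointwise_smul_iff_inv_smul_mem] at ha
    have h1 := hKn.conj_mem _ ((hQ ▸ hDK) ha) x
    simp [MulAut.inv_def, MulAut.conj_symm_apply] at h1
    simpa [mul_assoc] using h1)
  obtain ⟨r, hr⟩ := MulAction.exists_smul_eq K Q₂ Q₁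
  obtain ⟨y, hy⟩ : ∃ y, y = (r : G) * x := ⟨_, rfl⟩
  have hyD : ∀ a ∈ h.D, y * a * y⁻¹ ∈ h.D := by
    intro a ha
    have h1 : x * a * x⁻¹ ∈ ((x • Q : Sylow 3 G) : Subgroup G) := by
      rw [Sylow.coe_subgroup_smul, hQ]
      exact Subgroup.smul_mem_pointwise_smul a (MulAut.conj x) _ ha
    have hxa : x * a * x⁻¹ ∈ K := hKn.conj_mem _ (hDK ha) x
    have h2 : (⟨x * a * x⁻¹, hxa⟩ : K) ∈ (Q₂ : Subgroup K) := h1
    have h3 := Subgroup.smul_mem_pointwise_smul _ (MulAut.conj r) _ h2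
    rw [← Sylow.coe_subgroup_smul, hr] at h3
    have h4 : (r : G) * (x * a * x⁻¹) * (r : G)⁻¹ ∈ (Q : Subgroup G) := h3
    rw [hQ] at h4
    rw [hy]
    convert h4 using 1
    group
  have hyK : y ∈ K := by
    have hu2 : ∀ {e : G}, y * h.z * y⁻¹ = e → h.u * e * h.u = h.z ∨ h.u * e * h.u = h.z⁻¹ →
        y ∈ K := by
      intro e he hue
      refine ((hmix _ _).1 (hfix (h.u * y) ?_)).1 huK
      have e1 : h.u * y * h.z * (h.u * y)⁻¹ = h.u * e * h.u := by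
        rw [← he, mul_inv_rev, h.u_inv]; group
      rw [e1]; exact hue
    rcases h.normalizer_cases hyD with e | e | e | e
    · exact hfix y (Or.inl e)
    · exact hfix y (Or.inr e)
    · exact hu2 e (Or.inl h.u_w)
    · exact hu2 e (Or.inr (by
        rw [← h.u_w, mul_inv_rev, mul_inv_rev, h.u_inv, ← mul_assoc]))
  rw [hy] at hyK
  exact (Subgroup.mul_mem_cancel_left K r.2).1 hyK

end Hyp

end CfsgLib.AltEightLocal
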