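import Cfsg.Agent.AltEightLocal.SylowTwo
import Cfsg.Agent.ZStar.Theorem

/-!
The image of `v'` in `C(v)/⟨v⟩` is an isolated involution; elements of odd order modulo `⟨v⟩`
centralising it.
-/

set_option autoImplicit false
set_option linter.style.haveILetI false

namespace CfsgLib.AltEightLocal

open Equiv

variable {G : Type*} [Group G]

namespace Frame

variable {h : Hyp G} [Finite G] (f : Frame h)
include f

theorem not_three_conj {g y : G} (hy : ¬ 3 ∣ orderOf y) : ¬ 3 ∣ orderOf (g * y * g⁻¹) := by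
  rwa [show orderOf (g * y * g⁻¹) = orderOf y from
    orderOf_injective (MulAut.conj g).toMonoidHom (MulAut.conj g).injective y]

/-- A conjugate of `v'` under `C(v)` commuting with it modulo `v` agrees with it modulo `v`. -/
theorem isolated_v' {g : G} (hg : g * h.v = h.v * g)
    (hx : g * h.v' * g⁻¹ * h.v' * (g * h.v' * g⁻¹)⁻¹ = h.v' ∨
      g * h.v' * g⁻¹ * h.v' * (g * h.v' * g⁻¹)⁻¹ = h.v' * h.v) :
    g * h.v' * g⁻¹ = h.v' ∨ g * h.v' * g⁻¹ = h.v' * h.v := by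
  obtain ⟨x, hxd⟩ : ∃ x, x = g * h.v' * g⁻¹ := ⟨_, rfl⟩
  rw [← hxd] at hx ⊢
  have hgv : g * h.v * g⁻¹ = h.v := commute_iff_conj.2 hg
  have hxv : x * h.v = h.v * x := by
    rw [hxd, ← hgv, ← conj_mul3, ← conj_mul3, h.Vs_comm h.v'_mem h.v_mem]
  have hx2 : x * x = 1 := by rw [hxd, ← conj_mul3, h.Vs_sq h.v'_mem]; group
  have hxV : x * h.v' * x⁻¹ ∈ h.Vs := by
    rcases hx with e | e <;> rw [e]
    exacts [h.v'_mem, mul_mem h.v'_mem h.v_mem]
  -- `x` lies in `W⟨z, c⟩`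
  have hxN : x ∈ h.N ∧ ∃ y ∈ h.W, ∃ (i : Fin 3) (j : Fin 2),
      x = y * h.z ^ (i : ℕ) * h.c ^ (j : ℕ) := by
    have hN : x ∈ h.N := by
      refine conj_mem_normalizer fun a ha => h.W_conj (fun b hb => ?_) ha
      rw [inv_eq_of_mul_eq_one_right hx2]
      have h1 : x * h.v * x ∈ h.Vs := by rw [hxv, mul_assoc, hx2, mul_one]; exact h.v_mem
      have h2 : x * h.v' * x ∈ h.Vs := by rwa [inv_eq_of_mul_eq_one_right hx2] at hxV
      rcases h.Vs_cases hb with e | e | e | e <;> subst e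
      · rw [mul_one, hx2]; exact one_mem _
      · exact h1
      · exact h2
      · have := mul_mem h1 h2
        rwa [show x * h.v * x * (x * h.v' * x) = x * h.v * (x * x) * h.v' * x by group, hx2,
          mul_one, mul_assoc x h.v h.v'] at this
    exact ⟨hN, f.flag (h.mem_St.2 ⟨hN, hxv⟩) hxV⟩
  obtain ⟨hxN, y, hy, i, j, hxe⟩ := hxN
  -- reduce the power of `z`
  have hj : (j : ℕ) = 0 ∨ (j : ℕ) = 1 := by omega
  rcases hj with ej | ej
  · rw [ej, pow_zero, mul_one] at hxe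
    have hi : i = 0 := by
      have h1 : h.z ^ (i : ℕ) * (y * h.z ^ (i : ℕ)) ∈ h.W := by
        have h0 : y * (h.z ^ (i : ℕ) * (y * h.z ^ (i : ℕ))) = 1 := by
          rw [← mul_assoc, ← hxe, hx2]
        rw [eq_inv_of_mul_eq_one_right h0]
        exact inv_mem hy
      have h2 : h.z ^ (i : ℕ) * h.z ^ (i : ℕ) ∈ h.W := by
        have hzy := (h.N_conj (pow_mem (h.D_le_N h.z_mem) (i : ℕ)) hy).1
        have := mul_mem (inv_mem hzy) h1
        convert this using 1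
        group
      obtain ⟨k, hk⟩ := pow_three_fin h.z_cube ((i : ℕ) + (i : ℕ))
      have hk0 := (f.zc_not_W k 0 (by rw [Fin.val_zero, pow_zero, mul_one, ← hk, pow_add]; exact h2)).1
      rw [hk0, Fin.val_zero, pow_zero] at hk
      haveI : Fact (Nat.Prime 3) := ⟨Nat.prime_three⟩
      have hd := orderOf_dvd_of_pow_eq_one hk
      rw [orderOf_eq_prime h.z_cube h.z_ne] at hd
      exact Fin.ext (by rw [Fin.val_zero]; omega)
    rw [hi, Fin.val_zero, pow_zero, mul_one] at hxe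
    have hxW : x ∈ h.W := hxe ▸ hy
    -- `g` normalises `W`
    have hgN : g ∈ h.N := by
      have hback : ∀ a ∈ h.W, g⁻¹ * a * g ∈ h.W := by
        intro a ha
        refine h.mem_W.2 ⟨?_, ?_, ?_⟩
        · calc g⁻¹ * a * g * h.v = g⁻¹ * (a * (g * h.v * g⁻¹)) * g := by group
            _ = g⁻¹ * ((g * h.v * g⁻¹) * a) * g := by rw [hgv, h.W_Vs ha h.v_mem]
            _ = _ := by group
        · calc g⁻¹ * a * g * h.v' = g⁻¹ * (a * x) * g := by rw [hxd]; group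
            _ = g⁻¹ * (x * a) * g := by rw [f.W_comm ha hxW]
            _ = _ := by rw [hxd]; group
        · have := not_three_conj f (g := g⁻¹) ((h.mem_W.1 ha).2.2)
          rwa [inv_inv] at this
      have := conj_mem_normalizer (g := g⁻¹) (H := h.W) fun a ha => by
        rw [inv_inv]; exact hback a ha
      exact inv_mem_iff.1 this
    rcases f.N_cases hgN with e | e
    · rcases h.Vs_cases (e _ h.v'_mem) with e' | e' | e' | e'
      · exact absurd (conj_eq_one_iff.1 e') h.v'_ne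
      · exact absurd (conj_inj (e'.trans hgv.symm)) h.v'_ne_v
      · exact Or.inl (hxd.trans e')
      · exact Or.inr (hxd.trans (e'.trans (h.Vs_comm h.v_mem h.v'_mem)))
    · exact absurd (f.Vs_Us h.v_mem (hgv ▸ e _ h.v_mem)) h.v_ne
  · exfalso
    rw [ej, pow_one] at hxe
    -- conjugate by a power of `z` into `W c`
    obtain ⟨k, hk⟩ : ∃ k, k = h.z ^ (i : ℕ) := ⟨_, rfl⟩
    rw [← hk] at hxe
    have hkN : k ∈ h.N := hk ▸ pow_mem (h.D_le_N h.z_mem) _
    have hkv : k * h.v * k⁻¹ = h.v := commute_iff_conj.2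
      (hk ▸ ((show Commute h.v h.z from h.Vs_z h.v_mem).symm.pow_left _).eq)
    have hck : h.c * k⁻¹ = k * h.c := by
      have e1 : h.c * k⁻¹ * h.c⁻¹ = k := by
        rw [hk, ← inv_pow, ← conj_pow, h.c_inv]
        have : h.c * h.z⁻¹ * h.c = h.z := by
          calc h.c * h.z⁻¹ * h.c = h.c * (h.c * h.z * h.c) * h.c := by rw [h.c_z]
            _ = (h.c * h.c) * h.z * (h.c * h.c) := by group
            _ = _ := by rw [h.c_sq, one_mul, mul_one]
        rw [this]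
      calc h.c * k⁻¹ = h.c * k⁻¹ * h.c⁻¹ * h.c := by group
        _ = _ := by rw [e1]
    have hk3 : k * k * k = 1 := by
      rw [hk, ← pow_add, ← pow_add, show (i : ℕ) + i + i = 3 * i by ring, pow_mul, h.z_cube,
        one_pow]
    obtain ⟨g', hg'⟩ : ∃ g', g' = k * g := ⟨_, rfl⟩
    obtain ⟨y', hy'⟩ : ∃ y', y' = k * y * k⁻¹ := ⟨_, rfl⟩
    have hy'W : y' ∈ h.W := hy' ▸ (h.N_conj hkN hy).1
    obtain ⟨x', hx'⟩ : ∃ x', x' = g' * h.v' * g'⁻¹ := ⟨_, rfl⟩
    have hx'e : x' = y' * h.c := by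
      rw [hx', hg', show k * g * h.v' * (k * g)⁻¹ = k * (g * h.v' * g⁻¹) * k⁻¹ by group, ← hxd,
        hxe, hy', show k * (y * k * h.c) * k⁻¹ = k * y * k⁻¹ * (k * k * (h.c * k⁻¹)) by group, hck,
        show k * k * (k * h.c) = (k * k * k) * h.c by group, hk3, one_mul]
    have hg'v : g' * h.v * g'⁻¹ = h.v := by
      calc g' * h.v * g'⁻¹ = k * (g * h.v * g⁻¹) * k⁻¹ := by rw [hg']; group
        _ = _ := by rw [hgv, hkv]
    have hx'2 : x' * x' = 1 := by rw [hx', ← conj_mul3, h.Vs_sq h.v'_mem]; group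
    have hy'c : h.c * y' = y' * h.c := by
      have e0 := hx'2
      rw [hx'e] at e0
      calc h.c * y' = y'⁻¹ * (y' * h.c * (y' * h.c)) * h.c⁻¹ := by group
        _ = _ := by rw [e0, f.W_inv hy'W, mul_one, h.c_inv]
    -- `W' = g' W g'⁻¹`
    have hin : ∀ a : G, a * h.v = h.v * a → a * x' = x' * a → ¬ 3 ∣ orderOf a →
        g'⁻¹ * a * g' ∈ h.W := by
      intro a h1 h2 h3
      refine h.mem_W.2 ⟨?_, ?_, ?_⟩
      · calc g'⁻¹ * a * g' * h.v = g'⁻¹ * (a * (g' * h.v * g'⁻¹)) * g' := by group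
          _ = g'⁻¹ * ((g' * h.v * g'⁻¹) * a) * g' := by rw [hg'v, h1]
          _ = _ := by group
      · calc g'⁻¹ * a * g' * h.v' = g'⁻¹ * (a * x') * g' := by rw [hx']; group
          _ = g'⁻¹ * (x' * a) * g' := by rw [h2]
          _ = _ := by rw [hx']; group
      · have := not_three_conj f (g := g'⁻¹) h3
        rwa [inv_inv] at this
    have hw₁x : f.w₁ * x' = x' * f.w₁ := by
      rw [hx'e, ← mul_assoc, f.W_comm f.w₁_mem hy'W, mul_assoc, ← f.c_w₁, ← mul_assoc]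
    have hw₁W : g'⁻¹ * f.w₁ * g' ∈ h.W :=
      hin _ (h.W_Vs f.w₁_mem h.v_mem) hw₁x (Hyp.not_three_of_sq (f.W_sq f.w₁_mem))
    obtain ⟨q, hq⟩ : ∃ q, q = f.s * h.v' * f.s⁻¹ := ⟨_, rfl⟩
    have hqW : q ∈ h.W := hq ▸ f.s_mem _ h.v'_mem
    have hcs : h.c * f.s = f.s * h.c := f.s_c.symm
    have hcq : q * h.c * q⁻¹ = f.w₁ * h.c := by
      have hsc : f.s * h.c * f.s⁻¹ = h.c := commute_iff_conj.2 f.s_c
      have e1 : h.v' * h.c * h.v' = h.v * h.c := by
        calc h.v' * h.c * h.v' = h.v' * (h.c * h.v' * h.c) * h.c⁻¹ := by group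
          _ = h.v' * (h.v' * h.v) * h.c := by rw [h.c_v', h.c_inv]
          _ = _ := by rw [← mul_assoc h.v', h.Vs_sq h.v'_mem, one_mul]
      calc q * h.c * q⁻¹ = (f.s * h.v' * f.s⁻¹) * (f.s * h.c * f.s⁻¹) * (f.s * h.v' * f.s⁻¹) := by
            rw [hsc, f.W_inv hqW, hq]
        _ = f.s * (h.v' * h.c * h.v') * f.s⁻¹ := by group
        _ = f.s * h.v * f.s⁻¹ * (f.s * h.c * f.s⁻¹) := by rw [e1]; group
        _ = _ := by rw [hsc]
    have hqx : q * x' * q⁻¹ = f.w₁ * x' := by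
      rw [hx'e, conj_mul3, hcq, commute_iff_conj.2 (f.W_comm hqW hy'W), ← mul_assoc,
        f.W_comm hy'W f.w₁_mem, mul_assoc]
    obtain ⟨n, hn⟩ : ∃ n, n = g'⁻¹ * q * g' := ⟨_, rfl⟩
    have hnN : n ∈ h.N := by
      refine conj_mem_normalizer fun a ha => ?_
      obtain ⟨b, hb⟩ : ∃ b, b = g' * a * g'⁻¹ := ⟨_, rfl⟩
      have hbv : b * h.v = h.v * b := by
        rw [hb, ← hg'v, ← conj_mul3, ← conj_mul3, h.W_Vs ha h.v_mem]
      have hbx : b * x' = x' * b := by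
        rw [hb, hx', ← conj_mul3, ← conj_mul3, h.W_Vs ha h.v'_mem]
      have hbw : b * f.w₁ = f.w₁ * b := by
        rw [hb]
        calc g' * a * g'⁻¹ * f.w₁ = g' * (a * (g'⁻¹ * f.w₁ * g')) * g'⁻¹ := by group
          _ = g' * (g'⁻¹ * f.w₁ * g' * a) * g'⁻¹ := by rw [f.W_comm ha hw₁W]
          _ = _ := by simp only [mul_assoc, mul_inv_cancel_left]
      have hqv : q * h.v * q⁻¹ = h.v := commute_iff_conj.2 (h.W_Vs hqW h.v_mem)
      have hqw : q * f.w₁ * q⁻¹ = f.w₁ := commute_iff_conj.2 (f.W_comm hqW f.w₁_mem)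
      have c1 : q * b * q⁻¹ * h.v = h.v * (q * b * q⁻¹) := by
        conv_lhs => rw [← hqv]
        rw [← conj_mul3, hbv, conj_mul3, hqv]
      have c2 : q * b * q⁻¹ * (f.w₁ * x') = f.w₁ * x' * (q * b * q⁻¹) := by
        rw [← hqx, ← conj_mul3, hbx, conj_mul3]
      have c3 : q * b * q⁻¹ * f.w₁ = f.w₁ * (q * b * q⁻¹) := by
        conv_lhs => rw [← hqw]
        rw [← conj_mul3, hbw, conj_mul3, hqw]
      have c4 : q * b * q⁻¹ * x' = x' * (q * b * q⁻¹) := by
        have := (show Commute (q * b * q⁻¹) f.w₁ from c3).inv_right.mul_right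
          (show Commute (q * b * q⁻¹) (f.w₁ * x') from c2)
        rwa [inv_mul_cancel_left] at this
      have h3 : ¬ 3 ∣ orderOf (q * b * q⁻¹) :=
        not_three_conj f (hb ▸ not_three_conj f (h.mem_W.1 ha).2.2)
      rw [hn, show g'⁻¹ * q * g' * a * (g'⁻¹ * q * g')⁻¹ = g'⁻¹ * (q * (g' * a * g'⁻¹) * q⁻¹) * g' by
        group, ← hb]
      exact hin _ c1 c4 h3
    have hnv : n * h.v * n⁻¹ = h.v := by
      calc n * h.v * n⁻¹ = g'⁻¹ * (q * (g' * h.v * g'⁻¹) * q⁻¹) * g' := by rw [hn]; group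
        _ = g'⁻¹ * (g' * h.v * g'⁻¹) * g' := by
            rw [hg'v, commute_iff_conj.2 (h.W_Vs hqW h.v_mem)]
        _ = _ := by group
    rcases f.N_cases hnN with e | e
    · obtain ⟨a, ha⟩ : ∃ a, a = n * h.v' * n⁻¹ := ⟨_, rfl⟩
      have hga : g' * a * g'⁻¹ = f.w₁ * x' := by
        rw [ha, hn, ← hqx, hx']; group
      have hx'W : x' ∉ h.W := fun e' => f.c_not_W (by
        have := mul_mem (inv_mem hy'W) e'
        rwa [hx'e, inv_mul_cancel_left] at this)
      rcases h.Vs_cases (ha ▸ e _ h.v'_mem : a ∈ h.Vs) with e' | e' | e' | e' <;> rw [e'] at hga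
      · rw [mul_one, mul_inv_cancel] at hga
        exact hx'W (by rw [eq_inv_of_mul_eq_one_right hga.symm]; exact inv_mem f.w₁_mem)
      · rw [hg'v] at hga
        refine hx'W ?_
        have : x' = f.w₁⁻¹ * h.v := by rw [hga, inv_mul_cancel_left]
        rw [this]; exact mul_mem (inv_mem f.w₁_mem) (h.Vs_le_W h.v_mem)
      · rw [← hx'] at hga
        exact f.w₁_ne (mul_eq_right.1 hga.symm)
      · rw [conj_mul3, hg'v, ← hx'] at hga
        exact f.v_ne_w₁ (mul_right_cancel hga)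
    · exact h.v_ne (f.Vs_Us h.v_mem (hnv ▸ e _ h.v_mem))

end Frame

end CfsgLib.AltEightLocal
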