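import Cfsg.Agent.AltEightLocal.Fusion
import Cfsg.Agent.Coprime.Generation

/-!
The centraliser of the four-group `V ≤ C(z)` is `W ⟨z⟩`, and `W` is `V` or `V × s V s⁻¹`.
-/

set_option autoImplicit false

namespace CfsgLib.AltEightLocal

open Equiv
open scoped Pointwise

theorem InV_mul : ∀ σ ρ : Perm (Fin 5), InV σ → InV ρ →
    InV (σ * ρ) ∧ σ * ρ = ρ * σ ∧ σ⁻¹ = σ ∧ σ * σ = 1 := by decide +kernel

theorem InV_one : InV 1 := Or.inl rfl

theorem InV_vee : InV vee := Or.inr (Or.inl rfl)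

theorem InV_vee' : InV vee' := Or.inr (Or.inr (Or.inl rfl))

/-- The four-group on the points other than `4`, as a subgroup. -/
def fours : Subgroup (Perm (Fin 5)) where
  carrier := {σ | InV σ}
  one_mem' := InV_one
  mul_mem' := fun a b => (InV_mul _ _ a b).1
  inv_mem' := fun {σ} a => by
    show InV σ⁻¹
    rw [(InV_mul σ σ a a).2.2.1]
    exact a

theorem mem_fours {σ : Perm (Fin 5)} : σ ∈ fours ↔ InV σ := Iff.rfl

theorem InV_two {σ : Perm (Fin 5)} (hσ : InV₂ σ) : InV (turn * σ * turn) := hσ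

theorem InV_two_conj : ∀ σ : Perm (Fin 5), InV₂ σ → InV₂ (cyc * σ * cyc⁻¹) ∧
    InV₂ (cyc⁻¹ * σ * cyc) := by decide +kernel

theorem InV_conj' : ∀ σ : Perm (Fin 5), InV σ →
    InV (cyc⁻¹ * σ * cyc) ∧ InV (flip * σ * flip) ∧ InV (cyc * σ * cyc⁻¹) := by decide +kernel

variable {G : Type*} [Group G]

namespace Hyp

variable (h : Hyp G)

/-- The element `(0 3)(1 2)`. -/
abbrev v : G := h.L.al vee

/-- The element `(0 1)(2 3)`. -/
abbrev v' : G := h.L.al vee'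

/-- The four-group `V`. -/
def Vs : Subgroup G := fours.map h.L.al

include h

theorem mem_Vs {g : G} : g ∈ h.Vs ↔ ∃ σ, InV σ ∧ h.L.al σ = g := Iff.rfl

theorem al_mem_Vs {σ : Perm (Fin 5)} (hσ : InV σ) : h.L.al σ ∈ h.Vs := ⟨σ, hσ, rfl⟩

theorem v_mem : h.v ∈ h.Vs := h.al_mem_Vs InV_vee

theorem v'_mem : h.v' ∈ h.Vs := h.al_mem_Vs InV_vee'

theorem Vs_comm {a b : G} (ha : a ∈ h.Vs) (hb : b ∈ h.Vs) : a * b = b * a := by
  obtain ⟨σ, hσ, rfl⟩ := h.mem_Vs.1 ha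
  obtain ⟨ρ, hρ, rfl⟩ := h.mem_Vs.1 hb
  rw [← map_mul, ← map_mul, (InV_mul σ ρ hσ hρ).2.1]

theorem Vs_sq {a : G} (ha : a ∈ h.Vs) : a * a = 1 := by
  obtain ⟨σ, hσ, rfl⟩ := h.mem_Vs.1 ha
  rw [← map_mul, (InV_mul σ σ hσ hσ).2.2.2, map_one]

theorem Vs_z {a : G} (ha : a ∈ h.Vs) : a * h.z = h.z * a := by
  obtain ⟨σ, hσ, rfl⟩ := h.mem_Vs.1 ha
  exact h.L.comm σ (cyc_normalizes σ hσ).2.2.2

theorem c_v : h.c * h.v = h.v * h.c := by
  rw [← map_mul, ← map_mul]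
  exact congrArg h.L.al (by decide +kernel)

theorem c_v' : h.c * h.v' * h.c = h.v' * h.v := by
  rw [← map_mul, ← map_mul, ← map_mul]
  exact congrArg h.L.al v_facts.2.2.2.2.2.2.2

theorem v_ne : h.v ≠ 1 := h.L.al_ne v_facts.2.2.2.1

theorem v_sq : h.v * h.v = 1 := h.Vs_sq h.v_mem

theorem v'_ne : h.v' ≠ 1 := h.L.al_ne v_facts.2.2.2.2.1

theorem v'_ne_v : h.v' ≠ h.v := fun e => v_facts.2.2.2.2.2.1 (h.L.inj e).symm

theorem Vs_cases {a : G} (ha : a ∈ h.Vs) :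
    a = 1 ∨ a = h.v ∨ a = h.v' ∨ a = h.v * h.v' := by
  obtain ⟨σ, hσ, rfl⟩ := h.mem_Vs.1 ha
  rcases hσ with e | e | e | e <;> subst e <;> simp [map_mul]

theorem commute_Vs {g : G} (hv : g * h.v = h.v * g) (hv' : g * h.v' = h.v' * g) {a : G}
    (ha : a ∈ h.Vs) : g * a = a * g := by
  rcases h.Vs_cases ha with e | e | e | e <;> subst e
  · simp
  · exact hv
  · exact hv'
  · exact ((show Commute g h.v from hv).mul_right (show Commute g h.v' from hv')).eq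

/-- Commutation with `V` and order prime to three. -/
def InW (g : G) : Prop := g * h.v = h.v * g ∧ g * h.v' = h.v' * g ∧ ¬ 3 ∣ orderOf g

variable [Finite G]

theorem u_t_u : h.u * h.t * h.u = h.L.al tail := by
  obtain ⟨a, ha⟩ : ∃ a, a = h.L.al tail := ⟨_, rfl⟩
  have hac : h.c * a = a * h.c := by
    rw [ha, ← map_mul, ← map_mul]; exact congrArg h.L.al (by decide +kernel)
  have htc : h.c * h.t = h.t * h.c := by
    rw [← map_mul, ← map_mul]; exact congrArg h.L.al (by decide +kernel)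
  have huc : Commute h.c h.u := h.u_flip.symm
  have hbc : Commute h.c (h.u * h.t * h.u) :=
    (huc.mul_right (show Commute h.c h.t from htc)).mul_right huc
  obtain ⟨d, hdD, hd⟩ := h.utu
  rw [← ha] at hd ⊢
  have hcd : h.c * d * h.c⁻¹ = d⁻¹ := by
    obtain ⟨i, j, hij⟩ := h.grid hdD
    have e1 : h.c * h.z * h.c⁻¹ = h.z⁻¹ := by rw [h.c_inv]; exact h.c_z
    have e2 : h.c * h.w * h.c⁻¹ = h.w⁻¹ := by rw [h.c_inv]; exact h.c_w
    rw [hij, show h.c * (h.z ^ (i : ℕ) * h.w ^ (j : ℕ)) * h.c⁻¹ =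
      (h.c * h.z * h.c⁻¹) ^ (i : ℕ) * (h.c * h.w * h.c⁻¹) ^ (j : ℕ) by
        rw [conj_pow, conj_pow]; group, e1, e2, inv_pow, inv_pow, mul_inv_rev]
    exact h.D_comm (inv_mem (pow_mem h.z_mem _)) (inv_mem (pow_mem h.w_mem _))
  have h2 : d⁻¹ * a * d = d * a * d⁻¹ := by
    calc d⁻¹ * a * d = (h.c * d * h.c⁻¹) * (h.c * a * h.c⁻¹) * (h.c * d * h.c⁻¹)⁻¹ := by
          rw [hcd, hac, mul_inv_cancel_right, inv_inv]
      _ = h.c * (d * a * d⁻¹) * h.c⁻¹ := by group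
      _ = d * a * d⁻¹ := by rw [hd, hbc.eq, mul_inv_cancel_right]
  have h3 : Commute a (d * d) := by
    show a * (d * d) = d * d * a
    calc a * (d * d) = d * (d⁻¹ * a * d) * d := by group
      _ = d * (d * a * d⁻¹) * d := by rw [h2]
      _ = _ := by group
  have h4 : d * d * (d * d) = d := by
    have := h.D_cube hdD
    rw [pow_three'] at this
    rw [← mul_assoc, this, one_mul]
  have h5 : Commute a d := h4 ▸ h3.mul_right h3
  rw [← hd, ← h5.eq, mul_inv_cancel_right]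

/-- The centraliser of `V` has a normal 3-complement `W`, with quotient generated by `z`. -/
theorem exists_W : ∃ W : Subgroup G, (∀ g, g ∈ W ↔ h.InW g) ∧
    ∀ g : G, g * h.v = h.v * g → g * h.v' = h.v' * g → ∃ k : ℕ, g * h.z ^ k ∈ W := by
  haveI : Fact (Nat.Prime 3) := ⟨Nat.prime_three⟩
  obtain ⟨C, hC⟩ : ∃ C : Subgroup G, C = Subgroup.centralizer {h.v, h.v'} := ⟨_, rfl⟩
  have hmem : ∀ g, g ∈ C ↔ g * h.v = h.v * g ∧ g * h.v' = h.v' * g := fun g => by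
    rw [hC, Subgroup.mem_centralizer_iff]
    simp [eq_comm]
  have hzC : h.z ∈ C := (hmem _).2 ⟨(h.Vs_z h.v_mem).symm, (h.Vs_z h.v'_mem).symm⟩
  have hord : orderOf (⟨h.z, hzC⟩ : C) = 3 := by
    rw [Subgroup.orderOf_mk]; exact orderOf_eq_prime h.z_cube h.z_ne
  have hf : (Nat.card C).factorization 3 = 1 := by
    have h1 : 1 ≤ (Nat.card C).factorization 3 :=
      (Nat.prime_three.pow_dvd_iff_le_factorization Nat.card_pos.ne').1
        (by rw [pow_one]; exact hord ▸ orderOf_dvd_natCard _)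
    have h2 : ¬ 2 ≤ (Nat.card C).factorization 3 := fun hle =>
      h.not_nine_dvd h.v_sq h.v_ne (fun m hm => ((hmem m).1 hm).1)
        ((Nat.prime_three.pow_dvd_iff_le_factorization Nat.card_pos.ne').2 hle)
    omega
  let P : Sylow 3 C := Sylow.ofCard (Subgroup.zpowers ⟨h.z, hzC⟩)
    (by rw [Nat.card_zpowers, hord, hf]; rfl)
  have hP : Subgroup.normalizer ((P : Subgroup C) : Set C) ≤
      Subgroup.centralizer (((P : Subgroup C)) : Set C) := by
    intro g hg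
    have h1 : g * ⟨h.z, hzC⟩ * g⁻¹ ∈ (P : Subgroup C) :=
      (Subgroup.mem_normalizer_iff.1 hg _).1 (Subgroup.mem_zpowers _)
    obtain ⟨k, hk⟩ := Subgroup.mem_zpowers_iff.1 h1
    have hk' : (g : G) * h.z * (g : G)⁻¹ = h.z ^ k := by
      simpa using (congrArg Subtype.val hk).symm
    have hgz : (g : G) * h.z = h.z * (g : G) := by
      have h3 : h.z ^ (3 : ℤ) = 1 := by exact_mod_cast h.z_cube
      rw [← Int.emod_add_mul_ediv k 3, zpow_add, zpow_mul, h3, one_zpow, mul_one] at hk'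
      have : k % 3 = 0 ∨ k % 3 = 1 ∨ k % 3 = 2 := by omega
      rcases this with e | e | e <;> rw [e] at hk'
      · exact absurd (conj_eq_one_iff.1 (hk'.trans (zpow_zero _))) h.z_ne
      · exact mul_inv_eq_iff_eq_mul.1 (hk'.trans (zpow_one _))
      · exfalso
        have hi : (g : G) * h.z * (g : G)⁻¹ = h.z⁻¹ := by
          rw [hk', zpow_two]
          exact (inv_eq_of_mul_eq_one_right
            (by rw [← mul_assoc, ← pow_three', h.z_cube])).symm
        obtain ⟨i, σ, hσ, e'⟩ := h.L.of_inverts hi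
        obtain ⟨hv, hv'⟩ := (hmem _).1 g.2
        have key : ∀ x ∈ h.Vs, (g : G) * x = x * (g : G) →
            h.L.al σ * x = x * h.L.al σ := by
          intro x hx hgx
          have hc : Commute (h.z ^ i) x := (Commute.symm (h.Vs_z hx)).pow_left i
          rw [e'] at hgx
          have : Commute (h.z ^ i * h.L.al σ) x := hgx
          simpa using (hc.inv_left.mul_left this).eq
        have e1 := key _ h.v_mem hv
        have e2 := key _ h.v'_mem hv'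
        rw [← map_mul, ← map_mul] at e1 e2
        have := (cyc_normalizes σ (centralizer_V σ (h.L.inj e1) (h.L.inj e2))).2.2.2
        rw [hσ] at this
        exact absurd this (by decide)
    rw [Subgroup.mem_centralizer_iff]
    intro x hx
    obtain ⟨m, rfl⟩ := Subgroup.mem_zpowers_iff.1 hx
    exact (Commute.zpow_left (show Commute (⟨h.z, hzC⟩ : C) g from Subtype.ext hgz.symm) m).eq
  obtain ⟨φ, hφ⟩ : ∃ φ, φ = MonoidHom.transferSylow P hP := ⟨_, rfl⟩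
  have hcomp : Subgroup.IsComplement' φ.ker (P : Subgroup C) :=
    hφ ▸ MonoidHom.ker_transferSylow_isComplement' P hP
  have hPc : Nat.card (P : Subgroup C) = 3 := by
    rw [P.card_eq_multiplicity, hf]; rfl
  have h3K : ¬ 3 ∣ Nat.card φ.ker := by
    intro h3
    have h1 := hcomp.card_mul
    rw [hPc] at h1
    have h9 : 9 ∣ Nat.card C := by
      rw [← h1]; exact Nat.mul_dvd_mul h3 (dvd_refl 3)
    exact h.not_nine_dvd h.v_sq h.v_ne (fun m hm => ((hmem m).1 hm).1) h9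
  refine ⟨φ.ker.map C.subtype, fun g => ⟨?_, ?_⟩, fun g hv hv' => ?_⟩
  · rintro ⟨x, hx, rfl⟩
    refine ⟨((hmem _).1 x.2).1, ((hmem _).1 x.2).2, fun h3 => h3K (h3.trans ?_)⟩
    show orderOf (x : G) ∣ _
    rw [Subgroup.orderOf_coe, ← Subgroup.orderOf_mk x hx]
    exact orderOf_dvd_natCard _
  · rintro ⟨hv, hv', h3⟩
    refine ⟨⟨g, (hmem g).2 ⟨hv, hv'⟩⟩, ?_, rfl⟩
    rw [SetLike.mem_coe, MonoidHom.mem_ker]
    have d1 := (orderOf_map_dvd φ ⟨g, (hmem g).2 ⟨hv, hv'⟩⟩)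
    rw [show orderOf (⟨g, (hmem g).2 ⟨hv, hv'⟩⟩ : C) = orderOf g from Subgroup.orderOf_mk _ _] at d1
    have d2 := orderOf_dvd_natCard (φ ⟨g, (hmem g).2 ⟨hv, hv'⟩⟩)
    rw [hPc] at d2
    rcases (Nat.dvd_prime Nat.prime_three).1 d2 with e | e
    · exact orderOf_eq_one_iff.1 e
    · exact absurd (e ▸ d1) h3
  · obtain ⟨⟨a, b⟩, hab⟩ := hcomp.2 (⟨g, (hmem g).2 ⟨hv, hv'⟩⟩ : C)
    obtain ⟨m, hm⟩ := Subgroup.mem_zpowers_iff.1 b.2
    refine ⟨((-m) % 3).toNat, a.1, a.2, ?_⟩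
    have e0 : (a.1 : G) * h.z ^ m = g := by
      have := congrArg Subtype.val hab
      simpa [← hm] using this
    show ((a.1 : C) : G) = g * h.z ^ ((-m) % 3).toNat
    rw [← zpow_natCast, Int.toNat_of_nonneg (Int.emod_nonneg _ (by norm_num)), ← e0, mul_assoc,
      ← zpow_add]
    have h3 : h.z ^ (3 : ℤ) = 1 := by exact_mod_cast h.z_cube
    have : m + (-m) % 3 = 3 * (-((-m) / 3)) := by omega
    rw [this, zpow_mul, h3, one_zpow, mul_one]

/-- The subgroup `W`. -/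
noncomputable def W : Subgroup G := h.exists_W.choose

theorem mem_W {g : G} : g ∈ h.W ↔ h.InW g := h.exists_W.choose_spec.1 g

theorem CV_decomp {g : G} (hv : g * h.v = h.v * g) (hv' : g * h.v' = h.v' * g) :
    ∃ k : ℕ, g * h.z ^ k ∈ h.W := h.exists_W.choose_spec.2 g hv hv'

theorem W_Vs {g a : G} (hg : g ∈ h.W) (ha : a ∈ h.Vs) : g * a = a * g :=
  h.commute_Vs (h.mem_W.1 hg).1 (h.mem_W.1 hg).2.1 ha

omit h in
theorem not_three_of_sq {g : G} (hg : g * g = 1) : ¬ 3 ∣ orderOf g := fun h3 => by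
  have := Nat.le_of_dvd (by norm_num)
    (h3.trans (orderOf_dvd_of_pow_eq_one (n := 2) (by rw [pow_two, hg])))
  omega

theorem Vs_le_W : h.Vs ≤ h.W := fun a ha => h.mem_W.2
  ⟨h.Vs_comm ha h.v_mem, h.Vs_comm ha h.v'_mem, not_three_of_sq (h.Vs_sq ha)⟩

theorem W_conj {g x : G} (hg : ∀ a ∈ h.Vs, g⁻¹ * a * g ∈ h.Vs) (hx : x ∈ h.W) :
    g * x * g⁻¹ ∈ h.W := by
  have key : ∀ a ∈ h.Vs, g * x * g⁻¹ * a = a * (g * x * g⁻¹) := fun a ha => by
    calc g * x * g⁻¹ * a = g * (x * (g⁻¹ * a * g)) * g⁻¹ := by group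
      _ = g * ((g⁻¹ * a * g) * x) * g⁻¹ := by rw [h.W_Vs hx (hg a ha)]
      _ = _ := by group
  refine h.mem_W.2 ⟨key _ h.v_mem, key _ h.v'_mem, ?_⟩
  rw [show orderOf (g * x * g⁻¹) = orderOf x from
    orderOf_injective (MulAut.conj g).toMonoidHom (MulAut.conj g).injective x]
  exact (h.mem_W.1 hx).2.2

theorem eq_one_of_cube {g : G} (hg : g ∈ h.W) (h3 : g ^ 3 = 1) : g = 1 := by
  by_contra hne
  haveI : Fact (Nat.Prime 3) := ⟨Nat.prime_three⟩
  exact (h.mem_W.1 hg).2.2 (by rw [orderOf_eq_prime h3 hne])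

theorem Vs_conj_z {a : G} (ha : a ∈ h.Vs) :
    h.z⁻¹ * a * h.z = a ∧ h.z * a * h.z⁻¹ = a :=
  ⟨by rw [mul_assoc, h.Vs_z ha, inv_mul_cancel_left],
   by rw [← h.Vs_z ha, mul_inv_cancel_right]⟩

theorem Vs_conj_w {a : G} (ha : a ∈ h.Vs) :
    h.w⁻¹ * a * h.w ∈ h.Vs ∧ h.w * a * h.w⁻¹ ∈ h.Vs := by
  obtain ⟨σ, hσ, rfl⟩ := h.mem_Vs.1 ha
  rw [← h.w_eq, ← map_inv, ← map_mul, ← map_mul, ← map_mul, ← map_mul]
  exact ⟨h.al_mem_Vs (InV_conj' σ hσ).1, h.al_mem_Vs (InV_conj' σ hσ).2.2⟩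

theorem Vs_conj_c {a : G} (ha : a ∈ h.Vs) : h.c * a * h.c ∈ h.Vs := by
  obtain ⟨σ, hσ, rfl⟩ := h.mem_Vs.1 ha
  rw [← map_mul, ← map_mul]
  exact h.al_mem_Vs (InV_conj' σ hσ).2.1

theorem z_W {x : G} (hx : x ∈ h.W) : h.z * x * h.z⁻¹ ∈ h.W ∧ h.z⁻¹ * x * h.z ∈ h.W := by
  refine ⟨h.W_conj (fun a ha => ((h.Vs_conj_z ha).1).symm ▸ ha) hx, ?_⟩
  have := h.W_conj (g := h.z⁻¹) (fun a ha => by rw [inv_inv, (h.Vs_conj_z ha).2]; exact ha) hx
  rwa [inv_inv] at this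

theorem w_W {x : G} (hx : x ∈ h.W) : h.w * x * h.w⁻¹ ∈ h.W ∧ h.w⁻¹ * x * h.w ∈ h.W := by
  refine ⟨h.W_conj (fun a ha => (h.Vs_conj_w ha).1) hx, ?_⟩
  have := h.W_conj (g := h.w⁻¹) (fun a ha => by rw [inv_inv]; exact (h.Vs_conj_w ha).2) hx
  rwa [inv_inv] at this

theorem c_W {x : G} (hx : x ∈ h.W) : h.c * x * h.c ∈ h.W := by
  have := h.W_conj (g := h.c) (fun a ha => by rw [h.c_inv]; exact h.Vs_conj_c ha) hx
  rwa [h.c_inv] at this

theorem D_norm : h.D ≤ Subgroup.normalizer (h.W : Set G) := by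
  have hz : h.z ∈ Subgroup.normalizer (h.W : Set G) := by
    rw [Subgroup.mem_normalizer_iff]
    exact fun x => ⟨fun hx => (h.z_W hx).1, fun hx => by
      have := (h.z_W hx).2; simpa [mul_assoc] using this⟩
  have hw : h.w ∈ Subgroup.normalizer (h.W : Set G) := by
    rw [Subgroup.mem_normalizer_iff]
    exact fun x => ⟨fun hx => (h.w_W hx).1, fun hx => by
      have := (h.w_W hx).2; simpa [mul_assoc] using this⟩
  intro d hd
  obtain ⟨i, j, rfl⟩ := h.grid hd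
  exact mul_mem (pow_mem hz _) (pow_mem hw _)

/-- The fixed points of `z` on `W`. -/
theorem fix_z {g : G} (hg : g ∈ h.W) (hz : g * h.z = h.z * g) : g ∈ h.Vs := by
  obtain ⟨hv, hv', h3⟩ := h.mem_W.1 hg
  obtain ⟨σ, -, rfl⟩ := h.L.of_commute_coprime hz h3
  rw [← map_mul, ← map_mul] at hv hv'
  exact h.al_mem_Vs (centralizer_V σ (h.L.inj hv) (h.L.inj hv'))

/-- The elements `z w` and `z w⁻¹` act without fixed points on `W`. -/
theorem fix_zw {g k : G} (hk : k = 1 ∨ k = h.t) (hg : g ∈ h.W)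
    (hc : g * (k * (h.z * h.w) * k⁻¹) = (k * (h.z * h.w) * k⁻¹) * g) : g = 1 := by
  obtain ⟨g', hg'⟩ : ∃ g', g' = k⁻¹ * g * k := ⟨_, rfl⟩
  have hkz : k * h.z = h.z * k := by
    rcases hk with e | e <;> subst e
    · simp
    · exact h.t_z
  have h1 : g' * (h.z * h.w) = h.z * h.w * g' := by
    calc g' * (h.z * h.w) = k⁻¹ * (g * (k * (h.z * h.w) * k⁻¹)) * k := by rw [hg']; group
      _ = k⁻¹ * ((k * (h.z * h.w) * k⁻¹) * g) * k := by rw [hc]
      _ = _ := by rw [hg']; group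
  have hgk : g = k * g' * k⁻¹ := by rw [hg']; group
  have hdel : ∀ {x : G}, x ∈ h.D → k * x * k⁻¹ ∈ h.W → x = 1 := fun {x} hx hxW => by
    have := h.eq_one_of_cube hxW (by rw [conj_pow, h.D_cube hx, mul_one, mul_inv_cancel])
    exact conj_eq_one_iff.1 this
  rcases h.of_commute_zw h1 with hD | hD
  · rw [hgk, hdel hD (hgk ▸ hg)]; group
  · exfalso
    obtain ⟨d, hd⟩ : ∃ d, d = g' * h.u := ⟨_, rfl⟩
    have hg'u : g' = d * h.u := by rw [hd, mul_assoc, h.u_sq, mul_one]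
    have hdD : d ∈ h.D := hd ▸ hD
    have hx : g' * h.z * g'⁻¹ * h.z⁻¹ ∈ h.D := by
      refine mul_mem ?_ (inv_mem h.z_mem)
      rw [hg'u, mul_inv_rev, show d * h.u * h.z * (h.u⁻¹ * d⁻¹) = d * (h.u * h.z * h.u⁻¹) * d⁻¹ by
        group, h.u_inv, h.u_z]
      exact mul_mem (mul_mem hdD h.w_mem) (inv_mem hdD)
    have hxW : k * (g' * h.z * g'⁻¹ * h.z⁻¹) * k⁻¹ ∈ h.W := by
      have e : k * (g' * h.z * g'⁻¹ * h.z⁻¹) * k⁻¹ = g * (h.z * g⁻¹ * h.z⁻¹) := by
        have a1 : k⁻¹ * h.z * k = h.z := by rw [mul_assoc, ← hkz, inv_mul_cancel_left]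
        have a2 : k⁻¹ * h.z⁻¹ * k = h.z⁻¹ :=
          Eq.trans (by group) (congrArg (·⁻¹) a1)
        rw [hgk]
        calc k * (g' * h.z * g'⁻¹ * h.z⁻¹) * k⁻¹
            = k * (g' * (k⁻¹ * h.z * k) * g'⁻¹ * (k⁻¹ * h.z⁻¹ * k)) * k⁻¹ := by rw [a1, a2]
          _ = _ := by group
      rw [e]
      exact mul_mem hg (h.z_W (inv_mem hg)).1
    have := hdel hx hxW
    have e2 : g' * h.z * g'⁻¹ = h.z := mul_inv_eq_one.1 this
    rw [hg'u, mul_inv_rev, show d * h.u * h.z * (h.u⁻¹ * d⁻¹) = d * (h.u * h.z * h.u⁻¹) * d⁻¹ by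
      group, h.u_inv, h.u_z, h.D_comm hdD h.w_mem, mul_inv_cancel_right] at e2
    have e3 : h.z ^ ((1 : Fin 3) : ℕ) * h.L.al cyc ^ ((0 : Fin 3) : ℕ) =
        h.z ^ ((0 : Fin 3) : ℕ) * h.L.al cyc ^ ((1 : Fin 3) : ℕ) := by simp [h.w_eq, e2]
    exact absurd (h.L.grid_inj e3).1 (by decide)

end Hyp

/-- `W = V × s V s⁻¹` for `s = u` or `s = u t`. -/
structure Frame (h : Hyp G) [Finite G] where
  s : G
  s_z : s * h.z * s⁻¹ = h.w
  s_w : s * h.w * s⁻¹ = h.z ∨ s * h.w * s⁻¹ = h.z⁻¹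
  s_c : s * h.c = h.c * s
  s_cases : s = h.u ∨ s = h.u * h.t
  s_sq : s = h.u ∨ s * s = h.c
  s_mem : ∀ a ∈ h.Vs, s * a * s⁻¹ ∈ h.W
  decomp : ∀ g ∈ h.W, ∃ a ∈ h.Vs, ∃ b ∈ h.Vs, g = a * (s * b * s⁻¹)

namespace Hyp

variable (h : Hyp G) [Finite G]
include h

theorem D_cases {a : G} (ha : a ∈ h.D) (ha1 : a ≠ 1) :
    a = h.z ∨ a = h.z⁻¹ ∨ a = h.w ∨ a = h.w⁻¹ ∨
    ∃ k, (k = 1 ∨ k = h.t) ∧
      (a = k * (h.z * h.w) * k⁻¹ ∨ a = (k * (h.z * h.w) * k⁻¹)⁻¹) := by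
  have tI : h.t⁻¹ = h.t := inv_eq_of_mul_eq_one_right h.t_sq
  have et : h.t * (h.z * h.w) * h.t⁻¹ = h.z * h.w⁻¹ := by
    calc h.t * (h.z * h.w) * h.t⁻¹ = h.t * h.z * h.t⁻¹ * (h.t * h.w * h.t⁻¹) := by group
      _ = _ := by rw [h.t_z, mul_inv_cancel_right, tI, h.t_w]
  obtain ⟨i, j, rfl⟩ := h.grid ha
  have z2 : h.z ^ 2 = h.z⁻¹ :=
    (inv_eq_of_mul_eq_one_right (by rw [← pow_succ', h.z_cube])).symm
  have w2 : h.w ^ 2 = h.w⁻¹ :=
    (inv_eq_of_mul_eq_one_right (by rw [← pow_succ', h.w_cube])).symm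
  have hi : (i : ℕ) = 0 ∨ (i : ℕ) = 1 ∨ (i : ℕ) = 2 := by omega
  have hj : (j : ℕ) = 0 ∨ (j : ℕ) = 1 ∨ (j : ℕ) = 2 := by omega
  have e11 : ∀ k : G, k = 1 → k * (h.z * h.w) * k⁻¹ = h.z * h.w := by intro k e; subst e; group
  rcases hi with e | e | e <;> rcases hj with e' | e' | e' <;> rw [e, e'] at ha1 ⊢ <;>
    simp only [pow_zero, pow_one, one_mul, mul_one, z2, w2] at ha1 ⊢
  · exact absurd rfl ha1
  · exact Or.inr (Or.inr (Or.inl trivial))
  · exact Or.inr (Or.inr (Or.inr (Or.inl trivial)))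
  · exact Or.inl trivial
  · exact Or.inr (Or.inr (Or.inr (Or.inr ⟨1, Or.inl rfl, Or.inl (e11 1 rfl).symm⟩)))
  · exact Or.inr (Or.inr (Or.inr (Or.inr ⟨h.t, Or.inr rfl, Or.inl et.symm⟩)))
  · exact Or.inr (Or.inl trivial)
  · refine Or.inr (Or.inr (Or.inr (Or.inr ⟨h.t, Or.inr rfl, Or.inr ?_⟩)))
    rw [et, mul_inv_rev, inv_inv]
    exact h.D_comm (inv_mem h.z_mem) h.w_mem
  · refine Or.inr (Or.inr (Or.inr (Or.inr ⟨1, Or.inl rfl, Or.inr ?_⟩)))
    rw [e11 1 rfl, mul_inv_rev]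
    exact h.D_comm (inv_mem h.z_mem) (inv_mem h.w_mem)

/-- `W` is generated by its fixed points under `z` and `w`. -/
theorem W_le {T : Subgroup G} (hV : h.Vs ≤ T)
    (hU : ∀ g ∈ h.W, g * h.w = h.w * g → g ∈ T) : h.W ≤ T := by
  haveI : Fact (Nat.Prime 3) := ⟨Nat.prime_three⟩
  haveI : IsMulCommutative h.D := ⟨⟨fun a b => Subtype.ext (h.D_comm a.2 b.2)⟩⟩
  have hcyc : ¬ IsCyclic h.D := by
    intro hc
    obtain ⟨g, hg⟩ := hc.exists_generator
    have h1 : orderOf g = 9 := by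
      rw [orderOf_eq_card_of_forall_mem_zpowers hg, h.card_D]
    have h2 := orderOf_dvd_of_pow_eq_one (show g ^ 3 = 1 from Subtype.ext (h.D_cube g.2))
    rw [h1] at h2
    norm_num at h2
  have hcop : (Nat.card h.D).Coprime (Nat.card h.W) := by
    rw [h.card_D, show (9 : ℕ) = 3 ^ 2 from rfl]
    refine Nat.Coprime.pow_left 2 ((Nat.prime_three.coprime_iff_not_dvd).2 fun h3 => ?_)
    obtain ⟨x, hx⟩ := exists_prime_orderOf_dvd_card' 3 h3
    exact (h.mem_W.1 x.2).2.2 (by rw [Subgroup.orderOf_coe, hx])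
  refine CfsgLib.Coprime.le_of_forall_inf_centralizer_le hcyc h.D_norm hcop fun a ha ha1 => ?_
  intro g hg
  obtain ⟨hgW, hga⟩ := hg
  have hga' : Commute g a := Subgroup.mem_centralizer_singleton_iff.1 hga
  rcases h.D_cases ha ha1 with e | e | e | e | ⟨k, hk, e | e⟩ <;> subst e
  · exact hV (h.fix_z hgW hga')
  · exact hV (h.fix_z hgW (Commute.inv_right_iff.1 hga'))
  · exact hU g hgW hga'
  · exact hU g hgW (Commute.inv_right_iff.1 hga')
  · rw [h.fix_zw hk hgW hga']; exact one_mem _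
  · rw [h.fix_zw hk hgW (Commute.inv_right_iff.1 hga')]; exact one_mem _

/-- `W = V`, or there is a frame. -/
theorem W_cases : h.W = h.Vs ∨ Nonempty (Frame h) := by
  obtain ⟨T, hT⟩ : ∃ T : Subgroup (Perm (Fin 5)),
      T = alternatingGroup (Fin 5) ⊓ h.W.comap ((MulAut.conj h.u).toMonoidHom.comp h.L.al) :=
    ⟨_, rfl⟩
  have hTmem : ∀ σ, σ ∈ T ↔ Perm.sign σ = 1 ∧ h.u * h.L.al σ * h.u ∈ h.W := fun σ => by
    rw [hT, Subgroup.mem_inf, Equiv.Perm.mem_alternatingGroup, Subgroup.mem_comap]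
    show _ ∧ h.u * h.L.al σ * h.u⁻¹ ∈ h.W ↔ _
    rw [h.u_inv]
  have hU : ∀ g ∈ h.W, g * h.w = h.w * g → ∃ σ ∈ T, g = h.u * h.L.al σ * h.u := by
    intro g hg hgw
    have h1 : (h.u * g * h.u) * h.z = h.z * (h.u * g * h.u) := by
      calc (h.u * g * h.u) * h.z = h.u * g * (h.u * h.z * h.u) * h.u := by
            simp only [mul_assoc, h.u_sq, mul_one]
        _ = h.u * (g * h.w) * h.u := by rw [h.u_z]; group
        _ = h.u * (h.w * g) * h.u := by rw [hgw]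
        _ = _ := by rw [← h.u_z]; simp only [← mul_assoc, h.u_sq, one_mul]
    have h3 : ¬ 3 ∣ orderOf (h.u * g * h.u) := by
      rw [show h.u * g * h.u = h.u * g * h.u⁻¹ by rw [h.u_inv],
        show orderOf (h.u * g * h.u⁻¹) = orderOf g from
          orderOf_injective (MulAut.conj h.u).toMonoidHom (MulAut.conj h.u).injective g]
      exact (h.mem_W.1 hg).2.2
    obtain ⟨σ, hs, e⟩ := h.L.of_commute_coprime h1 h3
    have e2 : g = h.u * h.L.al σ * h.u := by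
      rw [← e]; simp only [← mul_assoc, h.u_sq, one_mul]; rw [mul_assoc, h.u_sq, mul_one]
    exact ⟨σ, (hTmem σ).2 ⟨hs, e2 ▸ hg⟩, e2⟩
  have hw' : h.u * h.L.al cyc * h.u = h.z := by rw [h.w_eq, h.u_w]
  have hcycT : ∀ σ ∈ T, cyc * σ * cyc⁻¹ ∈ T ∧ cyc⁻¹ * σ * cyc ∈ T := by
    intro σ hσ
    obtain ⟨hs, hm⟩ := (hTmem σ).1 hσ
    have key : ∀ a b : G, a = h.u * b * h.u → h.u * (b * h.L.al σ * b⁻¹) * h.u =
        a * (h.u * h.L.al σ * h.u) * a⁻¹ := by
      intro a b e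
      rw [e, mul_inv_rev, mul_inv_rev, h.u_inv]
      simp only [mul_assoc]
      simp only [← mul_assoc h.u h.u, h.u_sq, one_mul]
    refine ⟨(hTmem _).2 ⟨by rw [conj_mem_alt]; exact hs, ?_⟩,
      (hTmem _).2 ⟨by
        have := conj_mem_alt cyc⁻¹ σ
        rw [inv_inv] at this
        rw [this]; exact hs, ?_⟩⟩
    · rw [map_mul, map_mul, map_inv, key h.z _ hw'.symm]
      exact (h.z_W hm).1
    · have hwi : h.z⁻¹ = h.u * (h.L.al cyc)⁻¹ * h.u := by
        refine (congrArg (·⁻¹) hw'.symm).trans ?_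
        show (h.u * h.L.al cyc * h.u)⁻¹ = _
        rw [mul_inv_rev, mul_inv_rev, h.u_inv, ← mul_assoc]
      rw [map_mul, map_mul, map_inv,
        show (h.L.al cyc)⁻¹ * h.L.al σ * h.L.al cyc =
          (h.L.al cyc)⁻¹ * h.L.al σ * ((h.L.al cyc)⁻¹)⁻¹ by rw [inv_inv], key h.z⁻¹ _ hwi,
        inv_inv]
      exact (h.z_W hm).2
  have hno3 : ∀ σ ∈ T, σ * σ * σ = 1 → σ = 1 := by
    intro σ hσ h3
    have h1 := h.eq_one_of_cube ((hTmem σ).1 hσ).2 (by
      rw [show h.u * h.L.al σ * h.u = h.u * h.L.al σ * h.u⁻¹ by rw [h.u_inv], conj_pow,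
        ← map_pow, pow_three', h3, map_one, mul_one, mul_inv_cancel])
    refine h.L.inj ?_
    rw [map_one]
    calc h.L.al σ = h.u⁻¹ * (h.u * h.L.al σ * h.u) * h.u⁻¹ := by group
      _ = 1 := by rw [h1, mul_one, h.u_inv, h.u_sq]
  have hcls : ∀ σ ∈ T, InV σ ∨ InV₂ σ := fun σ hσ => by
    obtain ⟨hc1, hc2⟩ := hcycT σ hσ
    refine invariant_element σ ((hTmem σ).1 hσ).1 (hno3 σ hσ) (hno3 _ ?_) (hno3 _ ?_)
    · exact mul_mem (mul_mem (mul_mem (mul_mem hσ hc1) hσ) hc1) hc2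
    · exact mul_mem (mul_mem hσ hc2) (pow_mem hc1 4)
  by_cases htriv : ∀ σ ∈ T, σ = 1
  · refine Or.inl (le_antisymm (h.W_le le_rfl fun g hg hgw => ?_) h.Vs_le_W)
    obtain ⟨σ, hσ, e⟩ := hU g hg hgw
    rw [htriv σ hσ, map_one, mul_one, h.u_sq] at e
    rw [e]; exact one_mem _
  · push Not at htriv
    obtain ⟨σ₀, hσ₀, hne₀⟩ := htriv
    refine Or.inr ?_
    -- the twist `τ` puts `σ₀` into `V`
    obtain ⟨τ, hτ, hτ₀⟩ : ∃ τ : Perm (Fin 5), (τ = 1 ∨ τ = turn) ∧ InV (τ * σ₀ * τ) :=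
      (hcls σ₀ hσ₀).elim (fun e => ⟨1, Or.inl rfl, by simpa using e⟩)
        (fun e => ⟨turn, Or.inr rfl, e⟩)
    have hall : ∀ σ ∈ T, InV (τ * σ * τ) := by
      intro σ hσ
      rcases eq_or_ne σ 1 with e | hne
      · subst e
        rcases hτ with e | e <;> subst e <;> decide +kernel
      have mixed : ∀ α β, α ∈ T → β ∈ T → α ≠ 1 → β ≠ 1 → InV α → InV₂ β → False := by
        intro α β hα hβ hα1 hβ1 hαV hβV
        obtain ⟨α', β', ha, hb, h3, hne'⟩ := mixed_fours α β hαV hβV hα1 hβ1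
        have hα' : α' ∈ T := by
          rcases ha with e | e | e <;> subst e
          exacts [hα, (hcycT α hα).1, (hcycT α hα).2]
        have hβ' : β' ∈ T := by
          rcases hb with e | e | e <;> subst e
          exacts [hβ, (hcycT β hβ).1, (hcycT β hβ).2]
        exact hne' (hno3 _ (mul_mem hα' hβ') h3)
      rcases hτ with e | e <;> subst e
      · simp only [one_mul, mul_one] at hτ₀ ⊢
        exact (hcls σ hσ).resolve_right fun e2 => mixed σ₀ σ hσ₀ hσ hne₀ hne hτ₀ e2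
      · exact (hcls σ hσ).elim
          (fun e2 => (mixed σ σ₀ hσ hσ₀ hne hne₀ e2 hτ₀).elim) fun e2 => e2
    have hτ2 : τ * τ = 1 := by
      rcases hτ with e | e <;> subst e <;> decide +kernel
    have hτs : Perm.sign τ = 1 := by
      rcases hτ with e | e <;> subst e <;> decide +kernel
    -- every element of `V` occurs
    have hfull : ∀ σ, InV σ → τ * σ * τ ∈ T := by
      have hcommτ : τ * cyc * τ = cyc ∨ τ * cyc * τ = cyc⁻¹ := by
        rcases hτ with e | e <;> subst e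
        · exact Or.inl (by simp)
        · exact Or.inr mul_facts.2.2.2.2.2.2.2.2.2.2.2.2
      have hτi : τ⁻¹ = τ := inv_eq_of_mul_eq_one_right hτ2
      have hinv : τ * cyc⁻¹ * τ = (τ * cyc * τ)⁻¹ := by
        rw [mul_inv_rev, mul_inv_rev, hτi, ← mul_assoc]
      have hcl : ∀ σ, InV σ → τ * σ * τ ∈ T →
          τ * (cyc * σ * cyc⁻¹) * τ ∈ T ∧ τ * (cyc⁻¹ * σ * cyc) * τ ∈ T := by
        intro σ _ hσ
        have e1 : τ * (cyc * σ * cyc⁻¹) * τ = (τ * cyc * τ) * (τ * σ * τ) * (τ * cyc⁻¹ * τ) := by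
          simp only [mul_assoc]; simp only [← mul_assoc τ τ, hτ2, one_mul]
        have e2 : τ * (cyc⁻¹ * σ * cyc) * τ = (τ * cyc⁻¹ * τ) * (τ * σ * τ) * (τ * cyc * τ) := by
          simp only [mul_assoc]; simp only [← mul_assoc τ τ, hτ2, one_mul]
        rw [e1, e2, hinv]
        rcases hcommτ with e | e <;> rw [e]
        · exact ⟨(hcycT _ hσ).1, (hcycT _ hσ).2⟩
        · rw [inv_inv]; exact ⟨(hcycT _ hσ).2, (hcycT _ hσ).1⟩
      obtain ⟨ρ, hρdef⟩ : ∃ ρ, ρ = τ * σ₀ * τ := ⟨_, rfl⟩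
      have hρT : τ * ρ * τ ∈ T := by
        rw [hρdef]; simp only [← mul_assoc, hτ2, one_mul]; rw [mul_assoc, hτ2, mul_one]; exact hσ₀
      have hρV : InV ρ := hρdef ▸ hτ₀
      have hρ1 : ρ ≠ 1 := fun e => hne₀ (by
        rw [e] at hρdef
        calc σ₀ = τ⁻¹ * (τ * σ₀ * τ) * τ⁻¹ := by group
          _ = 1 := by rw [← hρdef, mul_one, hτi, hτ2])
      have hv : τ * vee * τ ∈ T := by
        rcases cyc_orbit ρ hρV hρ1 with e | e | e
        · exact e ▸ hρT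
        · exact e ▸ (hcl ρ hρV hρT).1
        · exact e ▸ (hcl ρ hρV hρT).2
      have h2 := hcl vee InV_vee hv
      intro σ hσ
      rcases hσ with e | e | e | e <;> subst e
      · rw [mul_one, hτ2]; exact one_mem _
      · exact hv
      · rcases (show cyc * vee * cyc⁻¹ = vee' ∨ cyc⁻¹ * vee * cyc = vee' by decide +kernel)
          with e | e <;> rw [← e]
        exacts [h2.1, h2.2]
      · rcases (show cyc * vee * cyc⁻¹ = vee * vee' ∨ cyc⁻¹ * vee * cyc = vee * vee' by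
          decide +kernel) with e | e <;> rw [← e]
        exacts [h2.1, h2.2]
    obtain ⟨s, hs⟩ : ∃ s, s = h.u * h.L.al τ := ⟨_, rfl⟩
    have hτG : h.L.al τ * h.L.al τ = 1 := by rw [← map_mul, hτ2, map_one]
    have hτI : (h.L.al τ)⁻¹ = h.L.al τ := inv_eq_of_mul_eq_one_right hτG
    have hsI : s⁻¹ = h.L.al τ * h.u := by rw [hs, mul_inv_rev, hτI, h.u_inv]
    have hscases : s = h.u ∨ s = h.u * h.t := by
      rw [hs]; rcases hτ with e | e <;> subst e
      · exact Or.inl (by rw [map_one, mul_one])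
      · exact Or.inr rfl
    refine ⟨⟨s, ?_, ?_, ?_, hscases, ?_, ?_, ?_⟩⟩
    · calc s * h.z * s⁻¹ = h.u * (h.L.al τ * h.z * (h.L.al τ)⁻¹) * h.u⁻¹ := by rw [hs]; group
        _ = h.w := by rw [h.L.comm τ hτs, mul_inv_cancel_right, h.u_inv, h.u_z]
    · have e0 : s * h.w * s⁻¹ = h.u * (h.L.al τ * h.w * h.L.al τ) * h.u := by
        rw [hsI, hs]; group
      rcases hτ with e | e <;> subst e
      · refine Or.inl (e0.trans ?_)
        rw [map_one, one_mul, mul_one, h.u_w]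
      · refine Or.inr (e0.trans ?_)
        rw [h.t_w, ← h.u_w, mul_inv_rev, mul_inv_rev, h.u_inv, ← mul_assoc]
    · have hcτ : h.L.al τ * h.c = h.c * h.L.al τ := by
        rw [← map_mul, ← map_mul]
        rcases hτ with e | e <;> subst e <;> exact congrArg h.L.al (by decide +kernel)
      rw [hs, mul_assoc, hcτ, ← mul_assoc, h.u_flip, mul_assoc]
    · rcases hτ with e | e <;> subst e
      · exact Or.inl (by rw [hs, map_one, mul_one])
      · refine Or.inr ?_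
        calc s * s = (h.u * h.t * h.u) * h.t := by rw [hs]; group
          _ = h.c := by
            rw [h.u_t_u, ← map_mul]
            exact congrArg h.L.al (by decide +kernel)
    · intro a ha
      obtain ⟨σ, hσ, rfl⟩ := h.mem_Vs.1 ha
      have := ((hTmem _).1 (hfull σ hσ)).2
      rw [map_mul, map_mul] at this
      rw [hsI, hs]
      convert this using 1
      group
    · have hmemV : ∀ g ∈ h.W, g * h.w = h.w * g → s⁻¹ * g * s ∈ h.Vs := by
        intro g hg hgw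
        obtain ⟨σ, hσ, e⟩ := hU g hg hgw
        refine ⟨τ * σ * τ, hall σ hσ, ?_⟩
        rw [map_mul, map_mul, e, hsI, hs]
        simp only [mul_assoc]
        simp only [← mul_assoc h.u h.u, h.u_sq, one_mul]
      obtain ⟨Us, hUs⟩ : ∃ Us : Subgroup G, Us = h.Vs.map (MulAut.conj s).toMonoidHom := ⟨_, rfl⟩
      have hUsW : Us ≤ h.W := by
        rw [hUs]
        rintro _ ⟨a, ha, rfl⟩
        obtain ⟨σ, hσ, rfl⟩ := h.mem_Vs.1 ha
        have := ((hTmem _).1 (hfull σ hσ)).2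
        rw [map_mul, map_mul] at this
        show s * h.L.al σ * s⁻¹ ∈ h.W
        rw [hsI, hs]
        convert this using 1
        group
      have hnorm : h.Vs ≤ Subgroup.normalizer (Us : Set G) := by
        intro a ha
        rw [Subgroup.mem_normalizer_iff]
        intro x
        constructor
        · intro hx; rwa [← h.W_Vs (hUsW hx) ha, mul_inv_cancel_right]
        · intro hx
          have e2 := h.W_Vs (hUsW hx) ha
          have e3 : x = a * x * a⁻¹ := by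
            calc x = a⁻¹ * (a * x * a⁻¹ * a) := by group
              _ = _ := by rw [e2]; group
          rwa [e3]
      intro g hg
      have hle : h.W ≤ h.Vs ⊔ Us := h.W_le le_sup_left fun g hg hgw => by
        refine Subgroup.mem_sup_right ?_
        rw [hUs]
        exact ⟨_, hmemV g hg hgw, by
          show s * (s⁻¹ * g * s) * s⁻¹ = g
          group⟩
      have hg' : g ∈ (h.Vs : Set G) * (Us : Set G) := by
        rw [← Subgroup.coe_mul_of_left_le_normalizer_right h.Vs Us hnorm]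
        exact hle hg
      obtain ⟨a, ha, b, hb, e⟩ := Set.mem_mul.1 hg'
      replace hb : b ∈ Us := hb
      rw [hUs] at hb
      obtain ⟨b', hb', rfl⟩ := hb
      exact ⟨a, ha, b', hb', e.symm⟩

end Hyp

end CfsgLib.AltEightLocal
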