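import Cfsg.Agent.AltEightLocal.Perms

/-!
`Local z`: the normaliser of `⟨z⟩` is `⟨z⟩ ⋊ S₅`, the odd permutations inverting `z`.
-/

set_option autoImplicit false

namespace CfsgLib.AltEightLocal

open Equiv

theorem centralizer_alt : ∀ σ : Perm (Fin 5),
    (∀ ρ : Perm (Fin 5), Perm.sign ρ = 1 → σ * ρ = ρ * σ) → σ = 1 := by decide +kernel

theorem conj_mem_alt : ∀ ρ σ : Perm (Fin 5), Perm.sign (ρ * σ * ρ⁻¹) = Perm.sign σ := by
  intro ρ σ
  rw [map_mul, map_mul, mul_comm (Perm.sign ρ), mul_assoc, ← map_mul, mul_inv_cancel, map_one,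
    mul_one]

theorem sign_cases (σ : Perm (Fin 5)) : Perm.sign σ = 1 ∨ Perm.sign σ = -1 :=
  Int.units_eq_one_or _

variable {G : Type*} [Group G]

/-- The normaliser of `⟨z⟩` is `⟨z⟩ ⋊ S₅`. -/
structure Local (z : G) where
  al : Perm (Fin 5) →* G
  inj : Function.Injective al
  comm : ∀ σ, Perm.sign σ = 1 → al σ * z = z * al σ
  inv : ∀ σ, Perm.sign σ = -1 → al σ * z * (al σ)⁻¹ = z⁻¹
  surj : ∀ g : G, g * z * g⁻¹ = z ∨ g * z * g⁻¹ = z⁻¹ → ∃ (i : ℕ) (σ : Perm (Fin 5)),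
    g = z ^ i * al σ
  cube : z ^ 3 = 1
  ne : z ≠ 1

namespace Local

variable {z : G} (L : Local z)
include L

theorem ne_inv : z ≠ z⁻¹ := fun h => L.ne <| by
  have h2 : z * z = 1 := by
    calc z * z = z * z⁻¹ := congrArg (z * ·) h
      _ = 1 := mul_inv_cancel z
  calc z = z ^ 3 * (z * z)⁻¹ := by group
    _ = 1 := by rw [L.cube, h2, inv_one, one_mul]

theorem al_ne {σ : Perm (Fin 5)} (h : σ ≠ 1) : L.al σ ≠ 1 := fun e =>
  h (L.inj (e.trans L.al.map_one.symm))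

theorem al_sq {σ : Perm (Fin 5)} (h : σ * σ = 1) : L.al σ * L.al σ = 1 := by
  rw [← map_mul, h, map_one]

theorem commute_pow (σ : Perm (Fin 5)) (hσ : Perm.sign σ = 1) (i : ℕ) :
    Commute (z ^ i) (L.al σ) := (Commute.symm (L.comm σ hσ)).pow_left i

theorem of_commute {g : G} (h : g * z = z * g) :
    ∃ (i : ℕ) (σ : Perm (Fin 5)), Perm.sign σ = 1 ∧ g = z ^ i * L.al σ := by
  have hc : g * z * g⁻¹ = z := by rw [h, mul_inv_cancel_right]
  obtain ⟨i, σ, rfl⟩ := L.surj g (Or.inl hc)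
  refine ⟨i, σ, (sign_cases σ).resolve_right fun hs => L.ne_inv ?_, rfl⟩
  calc z = z ^ i * L.al σ * z * (z ^ i * L.al σ)⁻¹ := hc.symm
    _ = z ^ i * (L.al σ * z * (L.al σ)⁻¹) * (z ^ i)⁻¹ := by group
    _ = z⁻¹ := by rw [L.inv σ hs]; group

theorem of_inverts {g : G} (h : g * z * g⁻¹ = z⁻¹) :
    ∃ (i : ℕ) (σ : Perm (Fin 5)), Perm.sign σ = -1 ∧ g = z ^ i * L.al σ := by
  obtain ⟨i, σ, rfl⟩ := L.surj g (Or.inr h)
  refine ⟨i, σ, (sign_cases σ).resolve_left fun hs => L.ne_inv ?_, rfl⟩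
  have hc : L.al σ * z * (L.al σ)⁻¹ = z := by rw [L.comm σ hs, mul_inv_cancel_right]
  calc z = z ^ i * (L.al σ * z * (L.al σ)⁻¹) * (z ^ i)⁻¹ := by rw [hc]; group
    _ = z ^ i * L.al σ * z * (z ^ i * L.al σ)⁻¹ := by group
    _ = z⁻¹ := h

theorem coord_unique {i j : ℕ} {σ ρ : Perm (Fin 5)} (h : z ^ i * L.al σ = z ^ j * L.al ρ) :
    σ = ρ := by
  have e : L.al (σ * ρ⁻¹) = (z ^ i)⁻¹ * z ^ j := by
    rw [map_mul, map_inv]
    calc L.al σ * (L.al ρ)⁻¹ = (z ^ i)⁻¹ * (z ^ i * L.al σ) * (L.al ρ)⁻¹ := by group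
      _ = _ := by rw [h]; group
  refine mul_inv_eq_one.1 (centralizer_alt _ fun π hπ => L.inj ?_)
  rw [map_mul L.al (σ * ρ⁻¹) π, map_mul L.al π (σ * ρ⁻¹), e]
  exact ((L.commute_pow π hπ i).inv_left.mul_left (L.commute_pow π hπ j)).eq

/-- An element of order prime to three commuting with `z` lies in the `A₅`. -/
theorem of_commute_coprime [Finite G] {g : G} (h : g * z = z * g) (h3 : ¬ 3 ∣ orderOf g) :
    ∃ σ : Perm (Fin 5), Perm.sign σ = 1 ∧ g = L.al σ := by
  obtain ⟨i, σ, hs, rfl⟩ := L.of_commute h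
  refine ⟨σ, hs, ?_⟩
  set n := orderOf (z ^ i * L.al σ) with hn
  have h1 : z ^ (i * n) * L.al (σ ^ n) = z ^ 0 * L.al 1 := by
    rw [pow_zero, map_one, mul_one, map_pow, pow_mul, ← (L.commute_pow σ hs i).mul_pow, hn,
      pow_orderOf_eq_one]
  have h2 : σ ^ n = 1 := L.coord_unique h1
  rw [h2, map_one, pow_zero, mul_one, mul_one] at h1
  have h4 : orderOf z = 3 := by
    haveI : Fact (Nat.Prime 3) := ⟨Nat.prime_three⟩
    exact orderOf_eq_prime L.cube L.ne
  have h5 : 3 ∣ i := (Nat.prime_three.dvd_mul.1 (h4 ▸ orderOf_dvd_of_pow_eq_one h1)).resolve_right h3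
  obtain ⟨k, rfl⟩ := h5
  rw [pow_mul, L.cube, one_pow, one_mul]

/-- The conjugate of a `Local`. -/
def map (k : G) : Local (k * z * k⁻¹) where
  al := (MulAut.conj k).toMonoidHom.comp L.al
  inj := (MulAut.conj k).injective.comp L.inj
  comm σ hσ := by
    show k * L.al σ * k⁻¹ * (k * z * k⁻¹) = k * z * k⁻¹ * (k * L.al σ * k⁻¹)
    calc _ = k * (L.al σ * z) * k⁻¹ := by group
      _ = _ := by rw [L.comm σ hσ]; group
  inv σ hσ := by
    show k * L.al σ * k⁻¹ * (k * z * k⁻¹) * (k * L.al σ * k⁻¹)⁻¹ = (k * z * k⁻¹)⁻¹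
    calc _ = k * (L.al σ * z * (L.al σ)⁻¹) * k⁻¹ := by group
      _ = _ := by rw [L.inv σ hσ]; group
  surj g hg := by
    obtain ⟨i, σ, e⟩ := L.surj (k⁻¹ * g * k) (by
      refine hg.imp (fun h => ?_) (fun h => ?_) <;>
      · calc k⁻¹ * g * k * z * (k⁻¹ * g * k)⁻¹ = k⁻¹ * (g * (k * z * k⁻¹) * g⁻¹) * k := by group
          _ = _ := by rw [h]; group)
    refine ⟨i, σ, ?_⟩
    show g = (k * z * k⁻¹) ^ i * (k * L.al σ * k⁻¹)
    calc g = k * (k⁻¹ * g * k) * k⁻¹ := by group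
      _ = _ := by rw [e, conj_pow]; group
  cube := by rw [conj_pow, L.cube, mul_one, mul_inv_cancel]
  ne h := L.ne (conj_eq_one_iff.1 h)

/-- The same labelled through an inner automorphism of `S₅`. -/
def relabel (ρ : Perm (Fin 5)) : Local z where
  al := L.al.comp (MulAut.conj ρ).toMonoidHom
  inj := L.inj.comp (MulAut.conj ρ).injective
  comm σ hσ := L.comm (ρ * σ * ρ⁻¹) (by rw [conj_mem_alt]; exact hσ)
  inv σ hσ := L.inv (ρ * σ * ρ⁻¹) (by rw [conj_mem_alt]; exact hσ)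
  surj g hg := by
    obtain ⟨i, σ, e⟩ := L.surj g hg
    exact ⟨i, ρ⁻¹ * σ * ρ, e.trans (congrArg (z ^ i * L.al ·) (by simp [mul_assoc]))⟩
  cube := L.cube
  ne := L.ne

end Local

/-- `sgn`-matched element of `S₃`. -/
def match3 : ℤˣ →* Perm (Fin 3) where
  toFun e := if e = 1 then 1 else swap 0 1
  map_one' := by simp
  map_mul' := by decide

theorem match3_sign : ∀ e : ℤˣ, Perm.sign (match3 e) = e := by decide

theorem even_three : ∀ r s : Perm (Fin 3), r * r * r = 1 → r ≠ 1 → Perm.sign s = 1 →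
    s = 1 ∨ s = r ∨ s = r * r := by decide

theorem sign_three : ∀ r : Perm (Fin 3), r * r * r = 1 → Perm.sign r = 1 := by decide

theorem inverts_three : ∀ r s : Perm (Fin 3), r * r * r = 1 →
    (Perm.sign s = -1 → s * r * s⁻¹ = r⁻¹) ∧ (Perm.sign s = 1 → s * r * s⁻¹ = r) := by decide

/-- The index two subgroup of `S₃ × S₅` of pairs with equal signs. -/
abbrev Matched : Subgroup (Perm (Fin 3) × Perm (Fin 5)) :=
  (((Perm.sign).comp (MonoidHom.fst (Perm (Fin 3)) (Perm (Fin 5)))) *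
    ((Perm.sign).comp (MonoidHom.snd (Perm (Fin 3)) (Perm (Fin 5))))).ker

theorem mem_matched {p : Perm (Fin 3) × Perm (Fin 5)} :
    p ∈ Matched ↔ Perm.sign p.1 = Perm.sign p.2 := by
  rw [MonoidHom.mem_ker]
  show Perm.sign p.1 * Perm.sign p.2 = 1 ↔ _
  rcases Int.units_eq_one_or (Perm.sign p.1) with h | h <;>
    rcases Int.units_eq_one_or (Perm.sign p.2) with h' | h' <;> simp [h, h']

/-- The diagonal copy of `S₅`. -/
def diag : Perm (Fin 5) →* Matched :=
  MonoidHom.codRestrict ((match3.comp Perm.sign).prod (MonoidHom.id _)) Matched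
    fun σ => mem_matched.2 (match3_sign _)

theorem local_of_equiv {z : G} (hcube : z ^ 3 = 1) (hne : z ≠ 1)
    (e : Subgroup.normalizer (Subgroup.zpowers z : Set G) ≃* Matched) : Nonempty (Local z) := by
  have hzN : z ∈ Subgroup.normalizer (Subgroup.zpowers z : Set G) :=
    Subgroup.le_normalizer (Subgroup.mem_zpowers z)
  have hinv : z⁻¹ = z * z := by
    refine inv_eq_of_mul_eq_one_right ?_
    rw [← mul_assoc, ← pow_three']
    exact hcube
  have hpow : ∀ {x : G}, x ∈ Subgroup.zpowers z → x = 1 ∨ x = z ∨ x = z⁻¹ := by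
    intro x hx
    obtain ⟨k, rfl⟩ := Subgroup.mem_zpowers_iff.1 hx
    have h3 : z ^ (3 : ℤ) = 1 := by exact_mod_cast hcube
    rw [← Int.emod_add_mul_ediv k 3, zpow_add, zpow_mul, h3, one_zpow, mul_one]
    have : k % 3 = 0 ∨ k % 3 = 1 ∨ k % 3 = 2 := by omega
    rcases this with h | h | h <;> rw [h]
    · exact Or.inl (zpow_zero z)
    · exact Or.inr (Or.inl (zpow_one z))
    · exact Or.inr (Or.inr ((zpow_two z).trans hinv.symm))
  have hconj : ∀ g ∈ Subgroup.normalizer (Subgroup.zpowers z : Set G),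
      g * z * g⁻¹ = z ∨ g * z * g⁻¹ = z⁻¹ := by
    intro g hg
    refine (hpow ((Subgroup.mem_normalizer_iff.1 hg z).1 (Subgroup.mem_zpowers z))).resolve_left
      fun h => hne (conj_eq_one_iff.1 h)
  set Z : Matched := e ⟨z, hzN⟩ with hZ
  obtain ⟨r, hr⟩ : ∃ r, r = (Z : Perm (Fin 3) × Perm (Fin 5)).1 := ⟨_, rfl⟩
  obtain ⟨π, hπ⟩ : ∃ π, π = (Z : Perm (Fin 3) × Perm (Fin 5)).2 := ⟨_, rfl⟩
  have hcu : Z * Z * Z = 1 := by
    rw [hZ, ← map_mul, ← map_mul, show ((⟨z, hzN⟩ : Subgroup.normalizer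
      (Subgroup.zpowers z : Set G)) * ⟨z, hzN⟩ * ⟨z, hzN⟩) = 1 from Subtype.ext (by
        show z * z * z = 1
        rw [← pow_three', hcube]), map_one]
  have hr3 : r * r * r = 1 := by rw [hr]; exact congrArg (fun p : Matched => p.1.1) hcu
  have hπ3 : π * π * π = 1 := by rw [hπ]; exact congrArg (fun p : Matched => p.1.2) hcu
  have hπ1 : π = 1 := by
    refine three_normal π hπ3 fun ρ => ?_
    obtain ⟨g, hg⟩ := e.surjective (diag ρ)
    rcases hconj g g.2 with h | h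
    · left
      have h2 : diag ρ * Z * (diag ρ)⁻¹ = Z := by
        rw [hZ, ← hg, ← map_inv, ← map_mul, ← map_mul]
        exact congrArg e (Subtype.ext h)
      rw [hπ]
      exact congrArg (fun p : Matched => p.1.2) h2
    · right
      have h2 : diag ρ * Z * (diag ρ)⁻¹ = Z⁻¹ := by
        rw [hZ, ← hg, ← map_inv, ← map_mul, ← map_mul, ← map_inv]
        exact congrArg e (Subtype.ext h)
      rw [hπ]
      exact congrArg (fun p : Matched => p.1.2) h2
  have hZpair : (Z : Perm (Fin 3) × Perm (Fin 5)) = (r, 1) := Prod.ext hr.symm (hπ.symm.trans hπ1)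
  have hr1 : r ≠ 1 := fun h => hne <| by
    have : Z = 1 := Subtype.ext (by rw [hZpair, h]; rfl)
    exact congrArg Subtype.val ((MulEquiv.map_eq_one_iff e).1 this)
  obtain ⟨al, hal⟩ : ∃ al : Perm (Fin 5) →* G, ∀ σ, al σ = ((e.symm (diag σ) :
      Subgroup.normalizer (Subgroup.zpowers z : Set G)) : G) :=
    ⟨(Subgroup.subtype _).comp (e.symm.toMonoidHom.comp diag), fun _ => rfl⟩
  have hzsymm : ((e.symm Z : Subgroup.normalizer (Subgroup.zpowers z : Set G)) : G) = z := by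
    rw [hZ, e.symm_apply_apply]
  have htw : ∀ σ, ∀ w : Matched, diag σ * Z * (diag σ)⁻¹ = w →
      al σ * z * (al σ)⁻¹ = ((e.symm w : Subgroup.normalizer (Subgroup.zpowers z : Set G)) : G) := by
    intro σ w hw
    rw [← hw, map_mul, map_mul, map_inv, hal, Subgroup.coe_mul, Subgroup.coe_mul, Subgroup.coe_inv,
      hzsymm]
  refine ⟨⟨al, fun σ ρ h => ?_, fun σ hσ => ?_, fun σ hσ => ?_, fun g hg => ?_, hcube, hne⟩⟩
  · rw [hal, hal] at h
    exact congrArg (fun p : Matched => p.1.2) (e.symm.injective (Subtype.ext h))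
  · have h1 : diag σ * Z * (diag σ)⁻¹ = Z := by
      refine Subtype.ext ?_
      show (match3 (Perm.sign σ), σ) * (Z : Perm (Fin 3) × Perm (Fin 5)) *
        (match3 (Perm.sign σ), σ)⁻¹ = Z
      rw [hZpair]
      exact Prod.ext ((inverts_three r _ hr3).2 ((match3_sign _).trans hσ)) (by simp)
    have h2 := htw σ Z h1
    rw [hzsymm] at h2
    exact mul_inv_eq_iff_eq_mul.1 h2
  · have h1 : diag σ * Z * (diag σ)⁻¹ = Z⁻¹ := by
      refine Subtype.ext ?_
      show (match3 (Perm.sign σ), σ) * (Z : Perm (Fin 3) × Perm (Fin 5)) *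
        (match3 (Perm.sign σ), σ)⁻¹ = (Z : Perm (Fin 3) × Perm (Fin 5))⁻¹
      rw [hZpair]
      exact Prod.ext ((inverts_three r _ hr3).1 ((match3_sign _).trans hσ)) (by simp)
    have h2 := htw σ Z⁻¹ h1
    rw [map_inv, Subgroup.coe_inv, hzsymm] at h2
    exact h2
  · have hgN : g ∈ Subgroup.normalizer (Subgroup.zpowers z : Set G) := by
      have hmap : (Subgroup.zpowers z).map (MulAut.conj g).toMonoidHom = Subgroup.zpowers z := by
        rw [MonoidHom.map_zpowers]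
        rcases hg with h | h
        · exact congrArg Subgroup.zpowers h
        · exact (congrArg Subgroup.zpowers h).trans (Subgroup.zpowers_inv)
      rw [Subgroup.mem_normalizer_iff]
      intro x
      constructor
      · intro hx
        rw [← hmap]
        exact Subgroup.mem_map_of_mem (MulAut.conj g).toMonoidHom hx
      · intro hx
        rw [← hmap] at hx
        obtain ⟨x', hx', he⟩ := hx
        rwa [(MulAut.conj g).injective he] at hx'
    obtain ⟨s, σ, hsσ⟩ : ∃ s σ, (e ⟨g, hgN⟩ : Perm (Fin 3) × Perm (Fin 5)) = (s, σ) :=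
      ⟨_, _, rfl⟩
    have hsign : Perm.sign (s * (match3 (Perm.sign σ))⁻¹) = 1 := by
      have h := mem_matched.1 (e ⟨g, hgN⟩).2
      rw [hsσ] at h
      rw [map_mul, map_inv, match3_sign, h, mul_inv_cancel]
    obtain ⟨i, hi⟩ : ∃ i : ℕ, r ^ i = s * (match3 (Perm.sign σ))⁻¹ := by
      rcases even_three r _ hr3 hr1 hsign with h | h | h
      · exact ⟨0, by rw [h, pow_zero]⟩
      · exact ⟨1, by rw [h, pow_one]⟩
      · exact ⟨2, by rw [h, pow_two]⟩
    refine ⟨i, σ, ?_⟩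
    have h1 : e ⟨g, hgN⟩ = Z ^ i * diag σ := by
      refine Subtype.ext ?_
      rw [hsσ]
      show (s, σ) = (Z : Perm (Fin 3) × Perm (Fin 5)) ^ i * (match3 (Perm.sign σ), σ)
      rw [hZpair]
      exact Prod.ext (by simp [hi]) (by simp)
    have h2 := congrArg (fun p => ((e.symm p : Subgroup.normalizer
      (Subgroup.zpowers z : Set G)) : G)) h1
    simp only [e.symm_apply_apply, map_mul, map_pow, Subgroup.coe_mul,
      SubmonoidClass.coe_pow, hzsymm, ← hal] at h2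
    exact h2

end CfsgLib.AltEightLocal
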