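import Cfsg.Agent.AltEightLocal.CentShape
import Cfsg.Agent.Mathieu.SmallOrders
import Cfsg.Prelude.Def_CaseTheorems
import Cfsg.Prelude.Def_Transfer

/-!
`A₈` from its 3-local data, given the recognition of groups with an involution centraliser of
shape `2^{1+4}.S₃`.
-/

set_option autoImplicit false
set_option linter.style.haveILetI false

universe u

namespace CfsgLib.AltEightLocal

open Equiv

/-- The type of the recognition theorem used. -/
def ExtraSymThreeRecognition : Prop :=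
  ∀ {G : Type u} [Group G] [Finite G]
    (s : G) (_hs : orderOf s = 2) (L : Subgroup G) (_hL : L = Subgroup.centralizer ({s} : Set G))
    (Q : Subgroup G) (_hQ : Q = (Cfsg.pCore 2 L).map L.subtype)
    (_hQex : Cfsg.IsExtraspecial 2 Q) (_hQcard : Nat.card Q = 32)
    (_e : L ⧸ Cfsg.pCore 2 L ≃* Equiv.Perm (Fin 3))
    (X : Sylow 3 L) (_hCQX : Q ⊓ Subgroup.centralizer
      (((X : Subgroup L).map L.subtype : Subgroup G) : Set G) = Subgroup.zpowers s)
    (_hnwc : ∃ g : G, g * s * g⁻¹ ∈ Q ∧ g * s * g⁻¹ ≠ s),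
    (∃ (N : Subgroup G) (hN : N.Normal), IsMulCommutative N ∧ (∀ n ∈ N, n ^ 2 = 1) ∧ Nat.card N = 8 ∧
        Nonempty (G ⧸ N ≃* Matrix.ProjectiveSpecialLinearGroup (Fin 3) (ZMod 2))) ∨
    Nonempty (G ≃* alternatingGroup (Fin 8)) ∨ Nonempty (G ≃* alternatingGroup (Fin 9)) ∨
      Cfsg.Spor.IsoM12 G

theorem card_PSL_dvd : Nat.card (Matrix.ProjectiveSpecialLinearGroup (Fin 3) (ZMod 2)) ∣ 168 := by
  haveI : Fact (Nat.Prime 2) := ⟨Nat.prime_two⟩
  have h1 : Nat.card (GL (Fin 3) (ZMod 2)) = 168 := by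
    rw [Matrix.card_GL_field, ZMod.card]; decide
  have h2 : Nat.card (Matrix.SpecialLinearGroup (Fin 3) (ZMod 2)) ∣ 168 := h1 ▸
    Subgroup.card_dvd_of_injective Matrix.SpecialLinearGroup.toGL
      Matrix.SpecialLinearGroup.toGL_injective
  refine Dvd.dvd.trans ?_ h2
  exact Subgroup.card_dvd_of_surjective (QuotientGroup.mk' _) (QuotientGroup.mk'_surjective _)

theorem Hyp.nonempty_alt {G : Type u} [Group G] [Finite G] (h : Hyp G)
    (hrec : ExtraSymThreeRecognition.{u}) : Nonempty (G ≃* alternatingGroup (Fin 8)) := by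
  obtain ⟨f⟩ := h.exists_frame
  obtain ⟨d⟩ := f.exists_centData
  have hTle : d.T ≤ f.He := d.le.trans f.S₂_le_He
  obtain ⟨e⟩ := d.exists_quotient d.index_T.2
  haveI := d.index_T.2
  have hQ : d.T = (Cfsg.pCore 2 f.He).map f.He.subtype := by
    rw [d.pCore_eq, Subgroup.map_subgroupOf_eq_of_le hTle]
  haveI hpn : (Cfsg.pCore 2 f.He).Normal := d.pCore_eq ▸ d.index_T.2
  have e' : f.He ⧸ Cfsg.pCore 2 f.He ≃* Equiv.Perm (Fin 3) :=
    (QuotientGroup.quotientMulEquivOfEq d.pCore_eq).trans e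
  have hnine : ∀ m : ℕ, Nat.card G = m → 9 ∣ m := fun m hm =>
    hm ▸ h.card_D ▸ Subgroup.card_subgroup_dvd_card h.D
  rcases hrec f.e (orderOf_eq_prime (by rw [pow_two, f.W_sq f.e_mem]) f.e_ne) f.He rfl d.T hQ
      d.extraspecial.1 d.card e' default (d.centralizer_sylow default) d.not_weakly_closed with
    ⟨N, hN, -, -, hN8, ⟨eq⟩⟩ | hA8 | hA9 | hM12
  · exfalso
    have h1 := N.card_mul_index
    rw [hN8, Subgroup.index_eq_card, Nat.card_congr eq.toEquiv] at h1
    have h2 : 9 ∣ Nat.card (Matrix.ProjectiveSpecialLinearGroup (Fin 3) (ZMod 2)) :=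
      (by norm_num : Nat.Coprime 9 8).dvd_of_dvd_mul_left (hnine _ h1.symm)
    have := h2.trans card_PSL_dvd
    norm_num at this
  · exact hA8
  · exfalso
    obtain ⟨eq⟩ := hA9
    refine h.sylow ?_
    rw [Nat.card_congr eq.toEquiv]
    rw [Nat.card_eq_fintype_card, card_alternatingGroup, Fintype.card_fin]
    decide
  · exfalso
    obtain ⟨eq⟩ := (hM12 : Nonempty (G ≃* Cfsg.Spor.M12))
    refine h.sylow ?_
    rw [Nat.card_congr eq.toEquiv, CfsgLib.Mathieu.card_SporM12]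
    decide

end CfsgLib.AltEightLocal
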