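import Cfsg.Agent.AltEightLocal.IsolatedMod
import Cfsg.Agent.AltEightLocal.Extraspecial

/-!
An element of odd order of `C(v) ∩ C(e)` that is inverted by `v'` and centralised by `T` is trivial.
-/

set_option autoImplicit false
set_option linter.style.haveILetI false

namespace CfsgLib.AltEightLocal

open Equiv

variable {G : Type*} [Group G]

theorem InV_of_commute_vee : ∀ σ : Perm (Fin 5), Perm.sign σ = 1 → σ * vee = vee * σ → InV σ := by
  decide +kernel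

theorem invol_inverts {K : Type*} [Group K] [Finite K] {A : Subgroup K} {t : K} (ht : t * t = 1)
    (hA : ∀ a ∈ A, t * a * t⁻¹ ∈ A) (hfix : ∀ a ∈ A, t * a = a * t → a = 1) :
    (∀ a ∈ A, t * a * t⁻¹ = a⁻¹) ∧ ∀ a ∈ A, ∀ b ∈ A, a * b = b * a := by
  let φ : A →* A :=
    { toFun := fun a => ⟨t * (a : K) * t⁻¹, hA a a.2⟩
      map_one' := Subtype.ext (by show t * (1 : K) * t⁻¹ = 1; group)
      map_mul' := fun a b => Subtype.ext (by
        show t * ((a : K) * (b : K)) * t⁻¹ = t * (a : K) * t⁻¹ * (t * (b : K) * t⁻¹)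
        group) }
  have hf : MonoidHom.FixedPointFree φ := fun a e =>
    Subtype.ext (hfix a a.2 (mul_inv_eq_iff_eq_mul.1 (congrArg Subtype.val e)))
  have h2 : Function.Involutive φ := fun a => Subtype.ext (by
    show t * (t * (a : K) * t⁻¹) * t⁻¹ = a
    rw [show t * (t * (a : K) * t⁻¹) * t⁻¹ = (t * t) * a * (t * t)⁻¹ by group, ht]; group)
  refine ⟨fun a ha => ?_, fun a ha b hb => ?_⟩
  · exact congrArg Subtype.val (congrFun (hf.coe_eq_inv_of_involutive h2) ⟨a, ha⟩)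
  · exact congrArg Subtype.val (hf.commute_all_of_involutive h2 ⟨a, ha⟩ ⟨b, hb⟩).eq

theorem eq_one_of_sq_of_odd {K : Type*} [Group K] {a : K} (h2 : a * a = 1)
    (hodd : Odd (orderOf a)) : a = 1 :=
  orderOf_eq_one_iff.1 (((Nat.dvd_prime Nat.prime_two).1
    (orderOf_dvd_of_pow_eq_one (by rw [pow_two, h2]))).resolve_right fun e => by
      rw [e] at hodd; exact absurd hodd (by decide))

theorem odd_of_mem {K : Type*} [Group K] {N : Subgroup K} (hN : Odd (Nat.card N)) {a : K}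
    (ha : a ∈ N) : Odd (orderOf a) :=
  Odd.of_dvd_nat hN (Subgroup.orderOf_dvd_natCard N ha)

namespace Frame

variable {h : Hyp G} [Finite G] (f : Frame h)
include f

/-- An odd-order element of `C(v) ∩ C(e)` centralised by `w₁` and `p` and inverted by `v'`. -/
theorem odd_kill (hs : f.s = h.u) {q : G} (hodd : Odd (orderOf q)) (hqv : q * h.v = h.v * q)
    (hqw : q * f.w₁ = f.w₁ * q)
    (hqp : q * (h.v' * (f.s * h.v' * f.s⁻¹)) = h.v' * (f.s * h.v' * f.s⁻¹) * q)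
    (hinv : h.v' * q * h.v'⁻¹ = q⁻¹) : q = 1 := by
  classical
  haveI : Fact (Nat.Prime 2) := ⟨Nat.prime_two⟩
  have hs2 : f.s * f.s = 1 := by rw [hs, h.u_sq]
  obtain ⟨X, hX⟩ : ∃ X : Subgroup G, X = Subgroup.centralizer ({h.v} : Set G) := ⟨_, rfl⟩
  have hXmem : ∀ {g : G}, g ∈ X ↔ g * h.v = h.v * g := fun {g} => by
    rw [hX, Subgroup.mem_centralizer_singleton_iff]
  have hvX : h.v ∈ X := hXmem.2 rfl
  obtain ⟨Z, hZ⟩ : ∃ Z : Subgroup X, Z = Subgroup.zpowers ⟨h.v, hvX⟩ := ⟨_, rfl⟩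
  have hv2 : (⟨h.v, hvX⟩ : X) * ⟨h.v, hvX⟩ = 1 := Subtype.ext h.v_sq
  have hZmem : ∀ {g : X}, g ∈ Z ↔ (g : G) = 1 ∨ (g : G) = h.v := fun {g} => by
    rw [hZ]
    constructor
    · intro hg
      obtain ⟨k, rfl⟩ := Subgroup.mem_zpowers_iff.1 hg
      have h2 : (⟨h.v, hvX⟩ : X) ^ (2 : ℤ) = 1 := by rw [zpow_two]; exact hv2
      rw [← Int.emod_add_mul_ediv k 2, zpow_add, zpow_mul, h2, one_zpow, mul_one]
      rcases (show k % 2 = 0 ∨ k % 2 = 1 by omega) with e | e <;> rw [e]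
      · exact Or.inl (by rw [zpow_zero]; rfl)
      · exact Or.inr (by rw [zpow_one])
    · rintro (e | e)
      · rw [show g = 1 from Subtype.ext e]; exact one_mem _
      · rw [show g = ⟨h.v, hvX⟩ from Subtype.ext e]; exact Subgroup.mem_zpowers _
  haveI hZn : Z.Normal := ⟨fun z hz g => by
    have : g * z = z * g := Subtype.ext (by
      rcases hZmem.1 hz with e | e <;> simp only [Subgroup.coe_mul, e]
      · simp
      · exact hXmem.1 g.2)
    rw [this, mul_inv_cancel_right]; exact hz⟩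
  obtain ⟨π, hπ⟩ : ∃ π : X →* X ⧸ Z, π = QuotientGroup.mk' Z := ⟨_, rfl⟩
  have hπker : ∀ {g : X}, π g = 1 ↔ g ∈ Z := fun {g} => by
    rw [hπ, QuotientGroup.mk'_apply, QuotientGroup.eq_one_iff]
  have hπsurj : Function.Surjective π := hπ ▸ QuotientGroup.mk'_surjective Z
  have hπeq : ∀ {a b : X}, π a = π b ↔ (a : G) = b ∨ (a : G) = b * h.v := fun {a b} => by
    rw [eq_comm, ← inv_mul_eq_one, ← map_inv, ← map_mul, hπker, hZmem]
    simp only [Subgroup.coe_mul, Subgroup.coe_inv]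
    constructor <;> rintro (e | e)
    · exact Or.inl (inv_mul_eq_one.1 e).symm
    · exact Or.inr (by rw [← e, mul_inv_cancel_left])
    · exact Or.inl (by rw [e, inv_mul_cancel])
    · exact Or.inr (by rw [e, inv_mul_cancel_left])
  have hv'X : h.v' ∈ X := hXmem.2 (h.Vs_comm h.v'_mem h.v_mem)
  obtain ⟨J, hJ⟩ : ∃ J, J = π ⟨h.v', hv'X⟩ := ⟨_, rfl⟩
  have hJ2 : J * J = 1 := by
    rw [hJ, ← map_mul, show (⟨h.v', hv'X⟩ : X) * ⟨h.v', hv'X⟩ = 1 from
      Subtype.ext (h.Vs_sq h.v'_mem), map_one]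
  have hJ1 : J ≠ 1 := fun e => by
    rcases hZmem.1 (hπker.1 (hJ ▸ e)) with e' | e'
    exacts [h.v'_ne e', h.v'_ne_v e']
  have hiso : Cfsg.IsIsolatedInvolution J := by
    refine ⟨orderOf_eq_prime (by rw [pow_two, hJ2]) hJ1, fun a ha => ?_⟩
    obtain ⟨g, rfl⟩ := hπsurj a
    rw [hJ, ← map_inv, ← map_mul, ← map_mul] at ha ⊢
    rw [hπeq]
    simp only [Subgroup.coe_mul, Subgroup.coe_inv]
    refine f.isolated_v' (hXmem.1 g.2) ?_
    have e : π (g * ⟨h.v', hv'X⟩ * g⁻¹) * π ⟨h.v', hv'X⟩ * (π (g * ⟨h.v', hv'X⟩ * g⁻¹))⁻¹ =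
        π ⟨h.v', hv'X⟩ := commute_iff_conj.2 ha.symm.eq
    rw [← map_inv, ← map_mul, ← map_mul, hπeq] at e
    simpa only [Subgroup.coe_mul, Subgroup.coe_inv] using e
  obtain ⟨N, hN, hNodd, hNcomm⟩ := CfsgLib.ZStar.exists_oddNormal hiso
  have hWX : ∀ {y : G}, y ∈ h.W → y ∈ X := fun hy => hXmem.2 (h.W_Vs hy h.v_mem)
  -- fixed points of `J`
  have hB : ∀ n : X, π n ∈ N → π n * J = J * π n → π n = 1 := by
    intro n hnN hnJ
    have hoN := odd_of_mem hNodd hnN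
    have hnv : (n : G) * h.v * (n : G)⁻¹ = h.v := commute_iff_conj.2 (hXmem.1 n.2)
    have e : (n : G) * h.v' * (n : G)⁻¹ = h.v' ∨ (n : G) * h.v' * (n : G)⁻¹ = h.v' * h.v := by
      have e0 := hnJ
      rw [hJ, ← map_mul, ← map_mul, hπeq] at e0
      simp only [Subgroup.coe_mul] at e0
      rcases e0 with e0 | e0
      · exact Or.inl (by rw [e0, mul_inv_cancel_right])
      · refine Or.inr ?_
        rw [e0, mul_assoc h.v' (n : G), hXmem.1 n.2, ← mul_assoc, mul_inv_cancel_right]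
    have hfix : (n : G) * h.v' * (n : G)⁻¹ = h.v' := by
      refine e.resolve_right fun e1 => ?_
      obtain ⟨k, hk⟩ := hoN
      have hpow : ∀ k : ℕ, (n : G) ^ (2 * k + 1) * h.v' * ((n : G) ^ (2 * k + 1))⁻¹ =
          h.v' * h.v := by
        intro k
        induction k with
        | zero => simpa using e1
        | succ k ih =>
          calc (n : G) ^ (2 * (k + 1) + 1) * h.v' * ((n : G) ^ (2 * (k + 1) + 1))⁻¹
              = (n : G) * ((n : G) * ((n : G) ^ (2 * k + 1) * h.v' * ((n : G) ^ (2 * k + 1))⁻¹) *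
                  (n : G)⁻¹) * (n : G)⁻¹ := by
                rw [show 2 * (k + 1) + 1 = 2 * k + 1 + 1 + 1 by ring, pow_succ' _ (2 * k + 1 + 1),
                  pow_succ' _ (2 * k + 1)]
                group
            _ = _ := by
                have e2 : (n : G) * (h.v' * h.v) * (n : G)⁻¹ = h.v' := by
                  rw [conj_mul3, e1, hnv, mul_assoc, h.v_sq, mul_one]
                rw [ih, e2, e1]
      have hZn' : n ^ (2 * k + 1) ∈ Z := hπker.1 (by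
        rw [map_pow, ← hk, pow_orderOf_eq_one])
      have h1 := hpow k
      have h2 : (n : G) ^ (2 * k + 1) * h.v' * ((n : G) ^ (2 * k + 1))⁻¹ = h.v' := by
        rcases hZmem.1 hZn' with e' | e' <;> simp only [SubmonoidClass.coe_pow] at e' <;> rw [e']
        · group
        · exact commute_iff_conj.2 (h.Vs_comm h.v_mem h.v'_mem)
      exact h.v_ne (mul_eq_left.1 (h1.symm.trans h2))
    have hnN' : (n : G) ∈ h.N := conj_mem_normalizer fun a ha => h.W_conj (fun b hb => by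
      have hnv' : Commute (n : G) h.v' := commute_iff_conj.1 hfix
      have := h.commute_Vs (hXmem.1 n.2) hnv'.eq hb
      rw [mul_assoc, ← this, inv_mul_cancel_left]; exact hb) ha
    obtain ⟨y, hy, i, j, hn⟩ := f.flag (h.mem_St.2 ⟨hnN', hXmem.1 n.2⟩)
      (by rw [hfix]; exact h.v'_mem)
    have hj : (j : ℕ) = 0 := by
      by_contra hne
      have hj1 : (j : ℕ) = 1 := by omega
      rw [hj1, pow_one] at hn
      refine c_v'_ne (h := h) ?_
      have e1 : Commute (y * h.z ^ (i : ℕ)) h.v' := Commute.mul_left (h.W_Vs hy h.v'_mem)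
        ((show Commute h.v' h.z from h.Vs_z h.v'_mem).symm.pow_left _)
      have e2 : Commute (n : G) h.v' := commute_iff_conj.1 hfix
      rw [hn] at e2
      have e3 := e1.inv_left.mul_left e2
      rw [inv_mul_cancel_left] at e3
      rw [e3.eq, mul_assoc, h.c_sq, mul_one]
    rw [hj, pow_zero, mul_one] at hn
    -- `n` centralises `W` modulo `v`
    obtain ⟨w, hw⟩ : ∃ w, w = (⟨f.w₁, hWX f.w₁_mem⟩ : X) := ⟨_, rfl⟩
    have hcw : π n * π w * (π n)⁻¹ * (π w)⁻¹ = 1 := by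
      refine eq_one_of_sq_of_odd ?_ (odd_of_mem hNodd ?_)
      · rw [← map_inv, ← map_inv, ← map_mul, ← map_mul, ← map_mul, ← map_mul, ← map_one π]
        refine congrArg π (Subtype.ext (f.W_sq ?_))
        simp only [Subgroup.coe_mul, Subgroup.coe_inv, hw]
        exact mul_mem (h.N_conj hnN' f.w₁_mem).1 (inv_mem f.w₁_mem)
      · have h1 : π n * (π w * (π n)⁻¹ * (π w)⁻¹) ∈ N :=
          mul_mem hnN (hN.conj_mem _ (inv_mem hnN) (π w))
        convert h1 using 1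
        group
    rw [← map_inv, ← map_inv, ← map_mul, ← map_mul, ← map_mul, hπker, hZmem] at hcw
    simp only [Subgroup.coe_mul, Subgroup.coe_inv, hw] at hcw
    have hcw' : (n : G) * f.w₁ * (n : G)⁻¹ = h.z ^ (i : ℕ) * f.w₁ * (h.z ^ (i : ℕ))⁻¹ := by
      rw [hn, show y * h.z ^ (i : ℕ) * f.w₁ * (y * h.z ^ (i : ℕ))⁻¹ =
        y * (h.z ^ (i : ℕ) * f.w₁ * (h.z ^ (i : ℕ))⁻¹) * y⁻¹ by group]
      exact commute_iff_conj.2
        (f.W_comm hy (h.N_conj (pow_mem (h.D_le_N h.z_mem) _) f.w₁_mem).1)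
    rw [hcw'] at hcw
    have hU : h.z ^ (i : ℕ) * f.w₁ * (h.z ^ (i : ℕ))⁻¹ ∈ f.Us := by
      refine f.Us_of_commute (h.N_conj (pow_mem (h.D_le_N h.z_mem) _) f.w₁_mem).1 ?_
      have e1 : Commute (h.z ^ (i : ℕ)) h.w := (show Commute h.z h.w from h.zw_comm).pow_left _
      have e2 : Commute f.w₁ h.w := f.fix_w h.v_mem
      exact ((e1.mul_left e2).mul_left e1.inv_left).eq
    have hiw : h.z ^ (i : ℕ) * f.w₁ * (h.z ^ (i : ℕ))⁻¹ = f.w₁ := by
      rcases hcw with e1 | e1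
      · exact mul_inv_eq_one.1 e1
      · exfalso
        obtain ⟨b, hb, hbe⟩ := f.mem_Us.1 hU
        have e2 : (1 : G) * (f.s * b * f.s⁻¹) = h.v * (f.s * h.v * f.s⁻¹) := by
          rw [one_mul, hbe]
          calc h.z ^ (i : ℕ) * f.w₁ * (h.z ^ (i : ℕ))⁻¹
              = h.z ^ (i : ℕ) * f.w₁ * (h.z ^ (i : ℕ))⁻¹ * f.w₁⁻¹ * f.w₁ := by group
            _ = _ := by rw [e1]
        exact h.v_ne (f.decomp_unique (one_mem _) h.v_mem hb h.v_mem e2).1.symm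
    have hi : (i : ℕ) = 0 := by
      by_contra hne
      have hc : Commute h.z f.w₁ := pow_three_self h.z_cube (by omega) (commute_iff_conj.1 hiw)
      exact f.w₁_ne (f.eq_one_of_both f.w₁_mem hc.symm.eq (f.fix_w h.v_mem))
    rw [hi, pow_zero, mul_one] at hn
    refine eq_one_of_sq_of_odd ?_ hoN
    rw [← map_mul, ← map_one π]
    exact congrArg π (Subtype.ext (by
      show (n : G) * (n : G) = 1
      rw [hn, f.W_sq hy]))
  -- fixed points of `z`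
  have hzX : h.z ∈ X := hXmem.2 (h.Vs_z h.v_mem).symm
  obtain ⟨Zz, hZz⟩ : ∃ Zz, Zz = π ⟨h.z, hzX⟩ := ⟨_, rfl⟩
  have hC : ∀ a ∈ N, a * Zz = Zz * a → a = 1 := by
    intro a ha hc
    obtain ⟨n, rfl⟩ := hπsurj a
    rw [hZz, ← map_mul, ← map_mul, hπeq] at hc
    simp only [Subgroup.coe_mul] at hc
    have hnz : (n : G) * h.z = h.z * (n : G) := by
      refine hc.resolve_right fun e => h.v_ne ?_
      have e2 : (n : G) * h.z * (n : G)⁻¹ = h.z * h.v := by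
        rw [e, mul_assoc h.z (n : G), hXmem.1 n.2, ← mul_assoc, mul_inv_cancel_right]
      have e3 : ((n : G) * h.z * (n : G)⁻¹) ^ 3 = 1 := by
        rw [conj_pow, h.z_cube, mul_one, mul_inv_cancel]
      rw [e2, (show Commute h.z h.v from (h.Vs_z h.v_mem).symm).mul_pow, h.z_cube, one_mul,
        pow_three', h.v_sq, one_mul] at e3
      exact e3
    obtain ⟨k, σ, hσ, hn⟩ := h.L.of_commute hnz
    have hσv : h.L.al σ * h.v = h.v * h.L.al σ := by
      have e1 : Commute (h.z ^ k) h.v := (show Commute h.v h.z from h.Vs_z h.v_mem).symm.pow_left _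
      have e2 : Commute (n : G) h.v := hXmem.1 n.2
      rw [hn] at e2
      have e3 := e1.inv_left.mul_left e2
      rwa [inv_mul_cancel_left] at e3
    rw [← map_mul, ← map_mul] at hσv
    have hV : h.L.al σ ∈ h.Vs := h.al_mem_Vs (InV_of_commute_vee σ hσ (h.L.inj hσv))
    refine hB n ha ?_
    rw [hJ, ← map_mul, ← map_mul]
    refine congrArg π (Subtype.ext ?_)
    show (n : G) * h.v' = h.v' * (n : G)
    rw [hn]
    exact (((show Commute h.v' h.z from h.Vs_z h.v'_mem).symm.pow_left _).mul_left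
      (h.Vs_comm hV h.v'_mem)).eq
  -- `N` is inverted by `J`
  obtain ⟨-, hNab⟩ := invol_inverts hJ2 (fun a ha => hN.conj_mem a ha J) (fun a ha e => by
    obtain ⟨n, rfl⟩ := hπsurj a
    exact hB n ha e.symm)
  -- the image of `q`
  have hqX : q ∈ X := hXmem.2 hqv
  obtain ⟨a, ha⟩ : ∃ a, a = π ⟨q, hqX⟩ := ⟨_, rfl⟩
  have haodd : Odd (orderOf a) := by
    refine Odd.of_dvd_nat hodd ?_
    rw [ha]
    refine (orderOf_map_dvd π _).trans (dvd_of_eq ?_)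
    rw [Subgroup.orderOf_mk]
  have haN : a ∈ N := by
    have h1 := hNcomm a
    have e1 : J * a * J⁻¹ * a⁻¹ = a⁻¹ ^ 2 := by
      rw [hJ, ha, ← map_inv, ← map_mul, ← map_mul, ← map_inv, ← map_mul, ← map_pow]
      refine congrArg π (Subtype.ext ?_)
      simp only [Subgroup.coe_mul, Subgroup.coe_inv, SubmonoidClass.coe_pow]
      rw [hinv, pow_two]
    rw [e1] at h1
    obtain ⟨k, hk⟩ := haodd
    have h2 : a⁻¹ = (a⁻¹ ^ 2) ^ (k + 1) := by
      rw [← pow_mul, show 2 * (k + 1) = (2 * k + 1) + 1 by ring, pow_succ, ← hk,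
        ← orderOf_inv, pow_orderOf_eq_one, one_mul]
    have h3 : a⁻¹ ∈ N := by rw [h2]; exact pow_mem h1 _
    exact inv_mem_iff.1 h3
  -- the three involutions of `s V s⁻¹`
  have hr : ∀ r ∈ f.Us, r ≠ 1 → r ≠ f.w₁ → r * q * r⁻¹ = q⁻¹ := by
    intro r hr hr1 hr2
    have hu' : f.s * h.v' * f.s⁻¹ = h.v'⁻¹ * (h.v' * (f.s * h.v' * f.s⁻¹)) := by
      rw [inv_mul_cancel_left]
    have hu'inv : (f.s * h.v' * f.s⁻¹) * q * (f.s * h.v' * f.s⁻¹)⁻¹ = q⁻¹ := by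
      rw [hu', show h.v'⁻¹ * (h.v' * (f.s * h.v' * f.s⁻¹)) * q *
        (h.v'⁻¹ * (h.v' * (f.s * h.v' * f.s⁻¹)))⁻¹ =
        h.v'⁻¹ * ((h.v' * (f.s * h.v' * f.s⁻¹)) * q * (h.v' * (f.s * h.v' * f.s⁻¹))⁻¹) * h.v' by
          group, commute_iff_conj.2 hqp.symm,
        inv_eq_of_mul_eq_one_right (h.Vs_sq h.v'_mem)]
      rwa [inv_eq_of_mul_eq_one_right (h.Vs_sq h.v'_mem)] at hinv
    obtain ⟨b, hb, rfl⟩ := f.mem_Us.1 hr
    rcases h.Vs_cases hb with e | e | e | e <;> subst e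
    · exact absurd (by group) hr1
    · exact absurd rfl hr2
    · exact hu'inv
    · rw [show f.s * (h.v * h.v') * f.s⁻¹ * q * (f.s * (h.v * h.v') * f.s⁻¹)⁻¹ =
        f.w₁ * ((f.s * h.v' * f.s⁻¹) * q * (f.s * h.v' * f.s⁻¹)⁻¹) * f.w₁⁻¹ by
          show _ = (f.s * h.v * f.s⁻¹) * _ * (f.s * h.v * f.s⁻¹)⁻¹; group, hu'inv]
      exact commute_iff_conj.2 (Commute.inv_right (show Commute f.w₁ q from hqw.symm)).eq
  obtain ⟨r₁, hr₁⟩ : ∃ r₁, r₁ = h.z * f.w₁ * h.z⁻¹ := ⟨_, rfl⟩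
  obtain ⟨r₂, hr₂⟩ : ∃ r₂, r₂ = h.z⁻¹ * f.w₁ * h.z := ⟨_, rfl⟩
  have hzw : Commute h.z h.w := h.zw_comm
  have hw₁w : Commute f.w₁ h.w := f.fix_w h.v_mem
  have hr₁q : r₁ * q * r₁⁻¹ = q⁻¹ := by
    refine hr _ (f.Us_of_commute (hr₁ ▸ (h.N_conj (h.D_le_N h.z_mem) f.w₁_mem).1)
      (hr₁ ▸ ((hzw.mul_left hw₁w).mul_left hzw.inv_left).eq)) ?_ ?_ <;> rw [hr₁]
    · exact fun e => f.w₁_ne (conj_eq_one_iff.1 e)
    · exact fun e => f.w₁_ne
        (f.eq_one_of_both f.w₁_mem (commute_iff_conj.1 e).symm hw₁w.eq)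
  have hr₂q : r₂ * q * r₂⁻¹ = q⁻¹ := by
    refine hr _ (f.Us_of_commute (hr₂ ▸ (h.N_conj (h.D_le_N h.z_mem) f.w₁_mem).2)
      (hr₂ ▸ ((hzw.inv_left.mul_left hw₁w).mul_left hzw).eq)) ?_ ?_ <;> rw [hr₂]
    · intro e
      refine f.w₁_ne ?_
      calc f.w₁ = h.z * (h.z⁻¹ * f.w₁ * h.z) * h.z⁻¹ := by simp only [mul_assoc, mul_inv_cancel_left, inv_mul_cancel_left, mul_inv_rev, inv_inv, mul_inv_cancel, inv_mul_cancel, mul_one]
        _ = 1 := by rw [e]; group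
    · intro e
      refine f.w₁_ne (f.eq_one_of_both f.w₁_mem ?_ hw₁w.eq)
      calc f.w₁ * h.z = h.z * (h.z⁻¹ * f.w₁ * h.z) := by simp only [mul_assoc, mul_inv_cancel_left, inv_mul_cancel_left, mul_inv_rev, inv_inv, mul_inv_cancel, inv_mul_cancel, mul_one]
        _ = _ := by rw [e]
  -- the product over the orbit of `z`
  obtain ⟨W₁, hW₁⟩ : ∃ W₁, W₁ = π ⟨f.w₁, hWX f.w₁_mem⟩ := ⟨_, rfl⟩
  obtain ⟨a₁, ha₁⟩ : ∃ a₁, a₁ = Zz * a * Zz⁻¹ := ⟨_, rfl⟩
  obtain ⟨a₂, ha₂⟩ : ∃ a₂, a₂ = Zz * a₁ * Zz⁻¹ := ⟨_, rfl⟩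
  have ha₁N : a₁ ∈ N := ha₁ ▸ hN.conj_mem _ haN Zz
  have ha₂N : a₂ ∈ N := ha₂ ▸ hN.conj_mem _ ha₁N Zz
  have hz3 : Zz ^ 3 = 1 := by
    rw [hZz, ← map_pow, show (⟨h.z, hzX⟩ : X) ^ 3 = 1 from Subtype.ext h.z_cube, map_one]
  have hprod : a * a₁ * a₂ = 1 := by
    refine hC _ (mul_mem (mul_mem haN ha₁N) ha₂N) ?_
    refine (commute_iff_conj.1 ?_).symm
    rw [conj_mul3, conj_mul3, ← ha₁, ← ha₂,
      show Zz * a₂ * Zz⁻¹ = a by
        calc Zz * a₂ * Zz⁻¹ = Zz ^ 3 * a * (Zz ^ 3)⁻¹ := by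
              rw [ha₂, ha₁]; simp only [pow_succ, pow_zero, one_mul]; group
          _ = a := by rw [hz3]; group]
    rw [hNab a haN a₁ ha₁N, mul_assoc a₁ a₂ a, hNab a₂ ha₂N a haN, ← mul_assoc]
  have hwa : W₁ * a * W₁⁻¹ = a := by
    rw [hW₁, ha, ← map_inv, ← map_mul, ← map_mul]
    refine congrArg π (Subtype.ext ?_)
    show f.w₁ * q * f.w₁⁻¹ = q
    exact commute_iff_conj.2 hqw.symm
  have hwa₁ : W₁ * a₁ * W₁⁻¹ = a₁⁻¹ := by
    rw [hW₁, ha₁, hZz, ha]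
    simp only [← map_mul, ← map_inv]
    refine congrArg π (Subtype.ext ?_)
    simp only [Subgroup.coe_mul, Subgroup.coe_inv]
    calc f.w₁ * (h.z * q * h.z⁻¹) * f.w₁⁻¹ = h.z * (r₂ * q * r₂⁻¹) * h.z⁻¹ := by rw [hr₂]; simp only [mul_assoc, mul_inv_cancel_left, inv_mul_cancel_left, mul_inv_rev, inv_inv, mul_inv_cancel, inv_mul_cancel, mul_one]
      _ = _ := by rw [hr₂q]; simp only [mul_assoc, mul_inv_cancel_left, inv_mul_cancel_left, mul_inv_rev, inv_inv, mul_inv_cancel, inv_mul_cancel, mul_one]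
  have hwa₂ : W₁ * a₂ * W₁⁻¹ = a₂⁻¹ := by
    rw [hW₁, ha₂, ha₁, hZz, ha]
    simp only [← map_mul, ← map_inv]
    refine congrArg π (Subtype.ext ?_)
    simp only [Subgroup.coe_mul, Subgroup.coe_inv]
    have e : h.z⁻¹ * (h.z⁻¹ * f.w₁ * h.z) * h.z = r₁ := by
      have h3 : h.z⁻¹ * h.z⁻¹ = h.z := by
        calc h.z⁻¹ * h.z⁻¹ = h.z⁻¹ * h.z⁻¹ * h.z ^ 3 := by rw [h.z_cube, mul_one]
          _ = h.z := by group
      rw [hr₁]
      calc _ = (h.z⁻¹ * h.z⁻¹) * f.w₁ * (h.z⁻¹ * h.z⁻¹)⁻¹ := by simp only [mul_assoc, mul_inv_cancel_left, inv_mul_cancel_left, mul_inv_rev, inv_inv, mul_inv_cancel, inv_mul_cancel, mul_one]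
        _ = _ := by rw [h3]
    calc f.w₁ * (h.z * (h.z * q * h.z⁻¹) * h.z⁻¹) * f.w₁⁻¹
        = h.z * (h.z * ((h.z⁻¹ * (h.z⁻¹ * f.w₁ * h.z) * h.z) * q *
            (h.z⁻¹ * (h.z⁻¹ * f.w₁ * h.z) * h.z)⁻¹) * h.z⁻¹) * h.z⁻¹ := by simp only [mul_assoc, mul_inv_cancel_left, inv_mul_cancel_left, mul_inv_rev, inv_inv, mul_inv_cancel, inv_mul_cancel, mul_one]
      _ = _ := by rw [e, hr₁q]; simp only [mul_assoc, mul_inv_cancel_left, inv_mul_cancel_left, mul_inv_rev, inv_inv, mul_inv_cancel, inv_mul_cancel, mul_one]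
  have h2 : a * a₁⁻¹ * a₂⁻¹ = 1 := by
    rw [← hwa₁, ← hwa₂]
    conv_lhs => arg 1; arg 1; rw [← hwa]
    rw [← conj_mul3, ← conj_mul3, hprod]; group
  have ha1 : a = 1 := by
    refine eq_one_of_sq_of_odd ?_ haodd
    have h4 : a₂ = (a * a₁)⁻¹ := eq_inv_of_mul_eq_one_right hprod
    rw [h4, inv_inv] at h2
    have h5 : a * a₁⁻¹ * (a * a₁) = a * a := by
      rw [hNab a haN a₁ ha₁N]; group
    rw [← h5, h2]
  rw [ha, hπker, hZmem] at ha1
  refine ha1.resolve_right fun e => ?_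
  rw [show q = h.v from e] at hodd
  rw [orderOf_eq_prime (p := 2) (by rw [pow_two, h.v_sq]) h.v_ne] at hodd
  exact absurd hodd (by decide)

end Frame

end CfsgLib.AltEightLocal
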