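import Mathlib

/-!
Facts about permutations of four points, used when `N(W)` is transitive on `W ∖ 1`.
-/

set_option autoImplicit false

namespace CfsgLib.AltEightLocal

open Equiv

set_option synthInstance.maxSize 4000
set_option synthInstance.maxHeartbeats 400000

theorem p4_flat : ∀ p : Perm (Fin 4), p * p = 1 → p ≠ 1 → (∃ x, p x = x) →
    ∀ τ : Perm (Fin 4), τ * τ = 1 → τ ≠ 1 → τ 0 = 0 → ∃ r, r * p * r⁻¹ = τ := by decide +kernel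

theorem p4_double : ∀ p : Perm (Fin 4), p * p = 1 → (∀ x, p x ≠ x) →
    ∀ σ : Perm (Fin 4), σ * σ * (σ * σ) = 1 → σ * σ ≠ 1 → ∃ r, r * p * r⁻¹ = σ * σ := by
  decide +kernel

theorem p4_square : ∀ σ : Perm (Fin 4), σ * σ * (σ * σ) = 1 → σ * σ ≠ 1 →
    ∀ x, (σ * σ) x ≠ x := by decide +kernel

theorem p4_extra : ∀ p : Perm (Fin 4), p * p = 1 → (∀ x, p x ≠ x) → ∀ q, q * p = p * q →
    ∃ r : Perm (Fin 4), r * p = p * r ∧ r ≠ 1 ∧ r ≠ p ∧ r ≠ q ∧ r ≠ q * p := by decide +kernel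

theorem p4_line : ∀ p : Perm (Fin 4), p * p = 1 → (∀ x, p x ≠ x) →
    ∀ q, q * p = p * q → q ≠ 1 → q ≠ p →
    ∀ r, r * p = p * r → r ≠ 1 → r ≠ p → r ≠ q → r ≠ q * p →
    ∀ r', r' * p = p * r' → r' ≠ 1 → r' ≠ p → r' ≠ q → r' ≠ q * p →
    r * r' ≠ q → r * r' ≠ q * p → r' = r ∨ r' = r * p := by decide +kernel

theorem p4_cent : ∀ q : Perm (Fin 4), q * q = 1 → (∀ x, q x ≠ x) →
    (Finset.univ.filter fun r => r * q = q * r).card = 8 := by decide +kernel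

theorem p4_elementary : ∀ p : Perm (Fin 4), p * p = 1 → p ≠ 1 →
    ∀ r : Perm (Fin 4), r * r = 1 → r ≠ 1 → r ≠ p → r * p = p * r →
    ∀ x : Perm (Fin 4), x * x = 1 → x * p = p * x → x * r = r * x →
    x = 1 ∨ x = p ∨ x = r ∨ x = p * r := by decide +kernel

theorem p4_contains : ∀ q : Perm (Fin 4), q * q = 1 → (∀ x, q x ≠ x) →
    ∀ p : Perm (Fin 4), p * p = 1 → p ≠ 1 → p * q = q * p →
    ∀ r : Perm (Fin 4), r * r = 1 → r ≠ 1 → r ≠ p → r * q = q * r → r * p = p * r →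
    q = p ∨ q = r ∨ q = p * r := by decide +kernel

theorem p4_norm : ∀ a : Perm (Fin 4), a * a = 1 → a ≠ 1 →
    ∀ b : Perm (Fin 4), b * b = 1 → b ≠ 1 → b ≠ a → b * a = a * b →
    ∃ r : Perm (Fin 4), (r ≠ 1 ∧ r ≠ a ∧ r ≠ b ∧ r ≠ a * b) ∧
      (r * a * r⁻¹ = a ∨ r * a * r⁻¹ = b ∨ r * a * r⁻¹ = a * b) ∧
      (r * b * r⁻¹ = a ∨ r * b * r⁻¹ = b ∨ r * b * r⁻¹ = a * b) := by decide +kernel

end CfsgLib.AltEightLocal
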