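import Mathlib

/-!
Facts about permutations of five points used in the 3-local recognition of `A₈`: `cyc` plays the
element `w`, `flip` the inverter `c₀`, `vee` and `vee'` generate the four-group `V`.
-/

set_option autoImplicit false

namespace CfsgLib.AltEightLocal

open Equiv

/-- The 3-cycle `(0 1 2)`. -/
def cyc : Perm (Fin 5) := swap 0 1 * swap 1 2

/-- The transposition `(1 2)`. -/
def flip : Perm (Fin 5) := swap 1 2

/-- The transposition `(3 4)`. -/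
def tail : Perm (Fin 5) := swap 3 4

/-- The double transposition `(1 2)(3 4)`. -/
def turn : Perm (Fin 5) := swap 1 2 * swap 3 4

/-- The double transposition `(0 3)(1 2)`. -/
def vee : Perm (Fin 5) := swap 0 3 * swap 1 2

/-- The double transposition `(0 1)(2 3)`. -/
def vee' : Perm (Fin 5) := swap 0 1 * swap 2 3

/-- The four-group on the points other than `4`. -/
def InV (σ : Perm (Fin 5)) : Prop := σ = 1 ∨ σ = vee ∨ σ = vee' ∨ σ = vee * vee'

/-- The four-group on the points other than `3`. -/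
def InV₂ (σ : Perm (Fin 5)) : Prop := InV (turn * σ * turn)

instance : DecidablePred InV := fun σ => by unfold InV; infer_instance

instance : DecidablePred InV₂ := fun σ => by unfold InV₂; infer_instance

theorem sign_facts : Perm.sign cyc = 1 ∧ Perm.sign flip = -1 ∧ Perm.sign tail = -1 ∧
    Perm.sign turn = 1 ∧ Perm.sign vee = 1 ∧ Perm.sign vee' = 1 := by decide +kernel

theorem mul_facts : cyc * cyc * cyc = 1 ∧ cyc ≠ 1 ∧ flip * flip = 1 ∧ flip ≠ 1 ∧
    tail * tail = 1 ∧ tail ≠ 1 ∧ turn * turn = 1 ∧ turn ≠ 1 ∧ turn = flip * tail ∧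
    tail * flip = flip * tail ∧ flip * cyc * flip = cyc⁻¹ ∧ tail * cyc * tail = cyc ∧
    turn * cyc * turn = cyc⁻¹ := by decide +kernel

theorem v_facts : vee * vee = 1 ∧ vee' * vee' = 1 ∧ vee * vee' = vee' * vee ∧ vee ≠ 1 ∧
    vee' ≠ 1 ∧ vee ≠ vee' ∧ flip * vee * flip = vee ∧ flip * vee' * flip = vee' * vee := by decide +kernel

/-- All involutions of `A₅` are conjugate in `A₅`. -/
theorem even_involution : ∀ σ : Perm (Fin 5), Perm.sign σ = 1 → σ * σ = 1 → σ ≠ 1 →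
    ∃ ρ : Perm (Fin 5), Perm.sign ρ = 1 ∧ ρ * turn * ρ⁻¹ = σ := by decide +kernel

/-- The odd involutions are the conjugates of `flip` under `A₅`. -/
theorem odd_involution : ∀ σ : Perm (Fin 5), Perm.sign σ = -1 → σ * σ = 1 →
    ∃ ρ : Perm (Fin 5), Perm.sign ρ = 1 ∧ ρ * flip * ρ⁻¹ = σ := by decide +kernel

/-- An element of order three normalised by all permutations is trivial. -/
theorem three_normal : ∀ σ : Perm (Fin 5), σ * σ * σ = 1 →
    (∀ ρ : Perm (Fin 5), ρ * σ * ρ⁻¹ = σ ∨ ρ * σ * ρ⁻¹ = σ⁻¹) → σ = 1 := by decide +kernel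

/-- The elements of order three of `A₅` are the conjugates of `cyc`. -/
theorem three_cycle : ∀ σ : Perm (Fin 5), σ * σ * σ = 1 → σ ≠ 1 →
    Perm.sign σ = 1 ∧ ∃ ρ : Perm (Fin 5), ρ * cyc * ρ⁻¹ = σ := by decide +kernel

theorem normalizer_cyc : ∀ σ : Perm (Fin 5),
    σ * cyc * σ⁻¹ = cyc ∨ σ * cyc * σ⁻¹ = cyc⁻¹ →
    ∃ i : Fin 3, σ = cyc ^ (i : ℕ) ∨ σ = cyc ^ (i : ℕ) * flip ∨ σ = cyc ^ (i : ℕ) * tail ∨
      σ = cyc ^ (i : ℕ) * turn := by decide +kernel

theorem centralizer_V : ∀ σ : Perm (Fin 5),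
    σ * vee = vee * σ → σ * vee' = vee' * σ → InV σ := by decide +kernel

theorem centralizer_cyc : ∀ σ : Perm (Fin 5), σ * cyc = cyc * σ → Perm.sign σ = 1 →
    σ = 1 ∨ σ = cyc ∨ σ = cyc⁻¹ := by decide +kernel

theorem cyc_normalizes : ∀ σ : Perm (Fin 5), InV σ →
    InV (cyc * σ * cyc⁻¹) ∧ InV (flip * σ * flip) ∧ InV₂ (turn * σ * turn) ∧
    Perm.sign σ = 1 := by decide +kernel

theorem cyc_orbit : ∀ σ : Perm (Fin 5), InV σ → σ ≠ 1 →
    σ = vee ∨ cyc * σ * cyc⁻¹ = vee ∨ cyc⁻¹ * σ * cyc = vee := by decide +kernel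

theorem normalizer_V : ∀ σ : Perm (Fin 5),
    InV (σ * vee * σ⁻¹) → InV (σ * vee' * σ⁻¹) → σ * vee * σ⁻¹ = vee →
    InV σ ∨ InV (σ * flip) := by decide +kernel

theorem stabilizer_V_involution : ∀ σ : Perm (Fin 5), (InV σ ∨ InV (σ * flip)) → σ * σ = 1 →
    σ ≠ 1 → (InV σ ∨ σ * flip = 1 ∨ σ * flip = vee) := by decide +kernel

/-- Two words in the conjugates of `σ` under `⟨cyc⟩`. -/
def wordA (σ : Perm (Fin 5)) : Perm (Fin 5) :=
  σ * (cyc * σ * cyc⁻¹) * σ * (cyc * σ * cyc⁻¹) * (cyc⁻¹ * σ * cyc)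

@[inherit_doc wordA]
def wordB (σ : Perm (Fin 5)) : Perm (Fin 5) :=
  σ * (cyc⁻¹ * σ * cyc) * (cyc * σ * cyc⁻¹) ^ 4

/-- An `A₅`-element generating with its `cyc`-conjugates no element of order three. -/
theorem invariant_element : ∀ σ : Perm (Fin 5), Perm.sign σ = 1 →
    (σ * σ * σ = 1 → σ = 1) →
    (wordA σ * wordA σ * wordA σ = 1 → wordA σ = 1) →
    (wordB σ * wordB σ * wordB σ = 1 → wordB σ = 1) → InV σ ∨ InV₂ σ := by decide +kernel

/-- Two four-groups of `A₅` generate elements of order three. -/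
theorem mixed_fours : ∀ σ ρ : Perm (Fin 5), InV σ → InV₂ ρ → σ ≠ 1 → ρ ≠ 1 →
    ∃ α β : Perm (Fin 5), (α = σ ∨ α = cyc * σ * cyc⁻¹ ∨ α = cyc⁻¹ * σ * cyc) ∧
      (β = ρ ∨ β = cyc * ρ * cyc⁻¹ ∨ β = cyc⁻¹ * ρ * cyc) ∧
      α * β * (α * β) * (α * β) = 1 ∧ α * β ≠ 1 := by decide +kernel

end CfsgLib.AltEightLocal
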