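import Cfsg.Agent.AltEightLocal.LocalModel

/-!
The working form of the hypothesis: `D = ⟨z, w⟩`, an involution `u` interchanging `z` and `w`
and commuting with the inverter `al flip`.
-/

set_option autoImplicit false

namespace CfsgLib.AltEightLocal

open Equiv

variable {G : Type*} [Group G]

/-- The working form of the hypothesis. -/
structure Hyp (G : Type*) [Group G] where
  z : G
  w : G
  u : G
  L : Local z
  w_eq : L.al cyc = w
  u_sq : u * u = 1
  u_z : u * z * u = w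
  u_flip : u * L.al flip = L.al flip * u
  selfC : ∀ g : G, g * z = z * g → g * w = w * g → ∃ i j : Fin 3, g = z ^ (i : ℕ) * w ^ (j : ℕ)
  cy : Nat.card (Subgroup.centralizer ({z * w} : Set G)) = 18
  sylow : ¬ 27 ∣ Nat.card G

theorem pow_three_fin {x : G} (hx : x ^ 3 = 1) (n : ℕ) :
    ∃ i : Fin 3, x ^ n = x ^ (i : ℕ) :=
  ⟨⟨n % 3, Nat.mod_lt _ (by norm_num)⟩, pow_eq_pow_mod n hx⟩

theorem cyc_pow_inj : ∀ i j : Fin 3, cyc ^ (i : ℕ) = cyc ^ (j : ℕ) → i = j := by decide +kernel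

theorem cyc_turn_inj : ∀ (i j : Fin 3) (a b : Fin 2),
    cyc ^ (i : ℕ) * turn ^ (a : ℕ) = cyc ^ (j : ℕ) * turn ^ (b : ℕ) → i = j ∧ a = b := by
  decide +kernel

theorem normalizer_cyc_even : ∀ σ : Perm (Fin 5), Perm.sign σ = 1 →
    (σ * cyc * σ⁻¹ = cyc ∨ σ * cyc * σ⁻¹ = cyc⁻¹) →
    ∃ (i : Fin 3) (a : Fin 2), σ = cyc ^ (i : ℕ) * turn ^ (a : ℕ) := by decide +kernel

theorem conj_alt_pow : ∀ (σ : Perm (Fin 5)) (j : Fin 3), Perm.sign σ = 1 →
    (j : ℕ) ≠ 0 → σ * cyc * σ⁻¹ = cyc ^ (j : ℕ) →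
    σ * cyc * σ⁻¹ = cyc ∨ σ * cyc * σ⁻¹ = cyc⁻¹ := by decide +kernel

namespace Local

variable {z : G} (L : Local z)
include L

theorem w_cube : L.al cyc ^ 3 = 1 := by
  rw [← map_pow, show cyc ^ 3 = 1 by decide +kernel, map_one]

theorem w_ne : L.al cyc ≠ 1 := L.al_ne mul_facts.2.1

theorem comm_w : L.al cyc * z = z * L.al cyc := L.comm _ sign_facts.1

theorem grid_inj {i j i' j' : Fin 3}
    (h : z ^ (i : ℕ) * L.al cyc ^ (j : ℕ) = z ^ (i' : ℕ) * L.al cyc ^ (j' : ℕ)) :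
    i = i' ∧ j = j' := by
  rw [← map_pow, ← map_pow] at h
  have hj := cyc_pow_inj _ _ (L.coord_unique h)
  subst hj
  refine ⟨Fin.ext ?_, rfl⟩
  haveI : Fact (Nat.Prime 3) := ⟨Nat.prime_three⟩
  have hz : orderOf z = 3 := orderOf_eq_prime L.cube L.ne
  exact pow_injOn_Iio_orderOf (Set.mem_Iio.2 (by rw [hz]; exact i.2))
    (Set.mem_Iio.2 (by rw [hz]; exact i'.2)) (mul_right_cancel h)

theorem sixty_le [Finite G] : 60 ≤ Nat.card (Subgroup.centralizer ({z} : Set G)) := by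
  have h : Nat.card (alternatingGroup (Fin 5)) = 60 := by
    rw [nat_card_alternatingGroup, Nat.card_eq_fintype_card, Fintype.card_fin]; rfl
  rw [← h]
  refine Nat.card_le_card_of_injective (fun σ => ⟨L.al σ.1,
    Subgroup.mem_centralizer_singleton_iff.2 (L.comm σ.1 (Equiv.Perm.mem_alternatingGroup.1 σ.2))⟩) ?_
  intro a b hab
  exact Subtype.ext (L.inj (congrArg Subtype.val hab))

end Local

theorem card_centralizer_conj [Finite G] (k x : G) :
    Nat.card (Subgroup.centralizer ({k * x * k⁻¹} : Set G)) =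
      Nat.card (Subgroup.centralizer ({x} : Set G)) := by
  obtain ⟨f, hf⟩ : ∃ f : G →* G, f = (MulAut.conj k).toMonoidHom := ⟨_, rfl⟩
  have hinj : Function.Injective f := hf ▸ (MulAut.conj k).injective
  refine Eq.trans ?_ (Subgroup.card_map_of_injective hinj)
  rw [hf]
  congr 1
  congr 1
  ext g
  rw [Subgroup.mem_map_equiv, Subgroup.mem_centralizer_singleton_iff,
    Subgroup.mem_centralizer_singleton_iff, MulAut.conj_symm_apply]
  constructor
  · intro h
    calc k⁻¹ * g * k * x = k⁻¹ * (g * (k * x * k⁻¹)) * k := by group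
      _ = _ := by rw [h]; group
  · intro h
    calc g * (k * x * k⁻¹) = k * (k⁻¹ * g * k * x) * k⁻¹ := by group
      _ = _ := by rw [h]; group

theorem exists_hyp [Finite G]
    (P : Sylow 3 G) (D : Subgroup G) (hDP : D = P) (y z : G) (hgen : Subgroup.closure {y, z} = D)
    (hcomm : IsMulCommutative D) (hcard : Nat.card D = 9) (hexp : ∀ a ∈ D, a ^ 3 = 1)
    (hC : Subgroup.centralizer (D : Set G) = D)
    (hN : Nat.card (Subgroup.normalizer (D : Set G)) = 72)
    (hycard : Nat.card (Subgroup.centralizer ({y} : Set G)) = 18)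
    (eL : Subgroup.normalizer (Subgroup.zpowers z : Set G) ≃* Matched) : Nonempty (Hyp G) := by
  classical
  haveI h3F : Fact (Nat.Prime 3) := ⟨Nat.prime_three⟩
  have hyD : y ∈ D := hgen ▸ Subgroup.subset_closure (by simp)
  have hzD : z ∈ D := hgen ▸ Subgroup.subset_closure (by simp)
  have hDc : ∀ a ∈ D, ∀ b ∈ D, a * b = b * a := fun a ha b hb =>
    congrArg Subtype.val (hcomm.is_comm.comm ⟨a, ha⟩ ⟨b, hb⟩)
  have hzne : z ≠ 1 := by
    intro h
    have hle : D ≤ Subgroup.zpowers y := by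
      rw [← hgen, Subgroup.closure_le]
      rintro x (rfl | rfl)
      · exact Subgroup.mem_zpowers _
      · rw [h]; exact one_mem _
    have h1 := Subgroup.card_le_of_le hle
    rw [hcard, Nat.card_zpowers] at h1
    have := Nat.le_of_dvd (by norm_num) (orderOf_dvd_of_pow_eq_one (hexp y hyD))
    omega
  obtain ⟨L₀⟩ := local_of_equiv (hexp z hzD) hzne eL
  obtain ⟨g₀, hg₀, hg₀z⟩ : ∃ g ∈ D, g ∉ Subgroup.zpowers z := by
    by_contra h
    push Not at h
    have h1 := Subgroup.card_le_of_le (K := Subgroup.zpowers z) h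
    rw [hcard, Nat.card_zpowers, orderOf_eq_prime (hexp z hzD) hzne] at h1
    omega
  obtain ⟨i₀, σ, hσ, rfl⟩ := L₀.of_commute (hDc _ hg₀ z hzD)
  have hσD : L₀.al σ ∈ D := (D.mul_mem_cancel_left (pow_mem hzD i₀)).1 hg₀
  have hσ1 : σ ≠ 1 := fun h => hg₀z (by
    rw [h, map_one, mul_one]; exact pow_mem (Subgroup.mem_zpowers z) i₀)
  have hσ3 : σ * σ * σ = 1 := L₀.inj (by
    rw [map_one, map_mul, map_mul, ← pow_three', hexp _ hσD])
  obtain ⟨-, ρ, hρ⟩ := three_cycle σ hσ3 hσ1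
  obtain ⟨L, hLw⟩ : ∃ L : Local z, L.al cyc = L₀.al σ :=
    ⟨L₀.relabel ρ, congrArg L₀.al hρ⟩
  obtain ⟨w, hw⟩ : ∃ w, L.al cyc = w := ⟨_, rfl⟩
  have hwD : w ∈ D := by rw [← hw, hLw]; exact hσD
  have hzw : z * w = w * z := hDc _ hzD _ hwD
  have hw3 : w ^ 3 = 1 := hexp w hwD
  -- the grid
  have hgrid : ∀ g ∈ D, ∃ i j : Fin 3, g = z ^ (i : ℕ) * w ^ (j : ℕ) := by
    let f : Fin 3 × Fin 3 → D := fun p =>
      ⟨z ^ (p.1 : ℕ) * w ^ (p.2 : ℕ), mul_mem (pow_mem hzD _) (pow_mem hwD _)⟩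
    have hf : Function.Injective f := by
      rintro ⟨i, j⟩ ⟨i', j'⟩ h
      have h' := congrArg Subtype.val h
      simp only [f, ← hw] at h'
      obtain ⟨rfl, rfl⟩ := L.grid_inj h'
      rfl
    have hb : Function.Bijective f := (Nat.bijective_iff_injective_and_card f).2 ⟨hf, by
      rw [hcard, Nat.card_prod, Nat.card_eq_fintype_card, Fintype.card_fin]⟩
    intro g hg
    obtain ⟨p, hp⟩ := hb.2 ⟨g, hg⟩
    exact ⟨p.1, p.2, (congrArg Subtype.val hp).symm⟩
  have hself : ∀ g : G, g * z = z * g → g * w = w * g → g ∈ D := by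
    intro g hgz hgw
    rw [← hC]
    refine Subgroup.mem_centralizer_iff.2 fun d hd => ?_
    obtain ⟨i, j, rfl⟩ := hgrid d hd
    exact (((Commute.pow_right (show Commute g z from hgz) _).mul_right
      (Commute.pow_right (show Commute g w from hgw) _)).eq).symm
  -- normalising elements
  have hnorm : ∀ g : G, g * z * g⁻¹ ∈ D → g * w * g⁻¹ ∈ D →
      g ∈ Subgroup.normalizer (D : Set G) := by
    intro g hgz hgw
    have hle : D.map (MulAut.conj g).toMonoidHom ≤ D := by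
      rintro _ ⟨d, hd, rfl⟩
      obtain ⟨i, j, rfl⟩ := hgrid d hd
      show g * _ * g⁻¹ ∈ D
      rw [show g * (z ^ (i : ℕ) * w ^ (j : ℕ)) * g⁻¹ = (g * z * g⁻¹) ^ (i : ℕ) *
        (g * w * g⁻¹) ^ (j : ℕ) by rw [conj_pow, conj_pow]; group]
      exact mul_mem (pow_mem hgz _) (pow_mem hgw _)
    have heq : D.map (MulAut.conj g).toMonoidHom = D := Subgroup.eq_of_le_of_card_ge hle
      (by rw [Subgroup.card_map_of_injective (f := (MulAut.conj g).toMonoidHom) (MulAut.conj g).injective])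
    rw [Subgroup.mem_normalizer_iff]
    intro x
    constructor
    · intro hx
      exact hle ⟨x, hx, rfl⟩
    · intro hx
      have h := SetLike.ext_iff.1 heq (g * x * g⁻¹)
      obtain ⟨x', hx', he⟩ := h.2 hx
      rwa [(MulAut.conj g).injective he] at hx'
  obtain ⟨c, hc⟩ : ∃ c, L.al flip = c := ⟨_, rfl⟩
  obtain ⟨t, ht⟩ : ∃ t, L.al turn = t := ⟨_, rfl⟩
  have hcz : c * z * c⁻¹ = z⁻¹ := hc ▸ L.inv _ sign_facts.2.1
  have htz : t * z * t⁻¹ = z := by
    rw [← ht, L.comm _ sign_facts.2.2.2.1, mul_inv_cancel_right]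
  have hcw : c * w * c⁻¹ = w⁻¹ := by
    rw [← hc, ← hw, ← map_inv, ← map_inv, ← map_mul, ← map_mul]
    exact congrArg L.al (by decide +kernel)
  have htw : t * w * t⁻¹ = w⁻¹ := by
    rw [← ht, ← hw, ← map_inv, ← map_inv, ← map_mul, ← map_mul]
    exact congrArg L.al (by decide +kernel)
  have hcN : c ∈ Subgroup.normalizer (D : Set G) :=
    hnorm c (hcz ▸ inv_mem hzD) (hcw ▸ inv_mem hwD)
  have htN : t ∈ Subgroup.normalizer (D : Set G) :=
    hnorm t (htz.symm ▸ hzD) (htw ▸ inv_mem hwD)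
  -- the stabiliser of `z`
  obtain ⟨N, hNdef⟩ : ∃ N : Subgroup G, N = Subgroup.normalizer (D : Set G) := ⟨_, rfl⟩
  obtain ⟨H, hHdef⟩ : ∃ H : Subgroup N, H = (Subgroup.centralizer ({z} : Set G)).subgroupOf N :=
    ⟨_, rfl⟩
  have hDN : D ≤ N := hNdef ▸ Subgroup.le_normalizer
  have hH : Nat.card H = 18 := by
    let f : Fin 3 × Fin 3 × Fin 2 → H := fun p =>
      ⟨⟨z ^ (p.1 : ℕ) * (w ^ (p.2.1 : ℕ) * t ^ (p.2.2 : ℕ)),
        mul_mem (pow_mem (hDN hzD) _) (mul_mem (pow_mem (hDN hwD) _)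
          (pow_mem (hNdef ▸ htN) _))⟩, by
        rw [hHdef, Subgroup.mem_subgroupOf, Subgroup.mem_centralizer_singleton_iff]
        exact ((Commute.refl z).pow_left _).mul_left
          ((show Commute w z from hzw.symm).pow_left _ |>.mul_left
            ((show Commute t z from mul_inv_eq_iff_eq_mul.1 htz).pow_left _))⟩
    have hf : Function.Injective f := by
      rintro ⟨i, j, a⟩ ⟨i', j', a'⟩ h
      have h' : z ^ (i : ℕ) * (w ^ (j : ℕ) * t ^ (a : ℕ)) =
          z ^ (i' : ℕ) * (w ^ (j' : ℕ) * t ^ (a' : ℕ)) :=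
        congrArg (fun p : H => ((p : N) : G)) h
      rw [← ht, ← hw, ← map_pow, ← map_pow, ← map_pow, ← map_pow, ← map_mul, ← map_mul] at h'
      obtain ⟨rfl, rfl⟩ := cyc_turn_inj _ _ _ _ (L.coord_unique h')
      have hz : orderOf z = 3 := orderOf_eq_prime L.cube L.ne
      have : i = i' := Fin.ext (pow_injOn_Iio_orderOf
        (Set.mem_Iio.2 (by rw [hz]; exact i.2)) (Set.mem_Iio.2 (by rw [hz]; exact i'.2))
        (mul_right_cancel h'))
      rw [this]
    have hs : Function.Surjective f := by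
      rintro ⟨⟨g, hgN⟩, hg⟩
      rw [hHdef, Subgroup.mem_subgroupOf, Subgroup.mem_centralizer_singleton_iff] at hg
      obtain ⟨k, π, hπ, hgk⟩ := L.of_commute hg
      have hgw : g * w * g⁻¹ ∈ D :=
        (Subgroup.mem_normalizer_iff.1 (hNdef ▸ hgN) w).1 hwD
      obtain ⟨i, j, hij⟩ := hgrid _ hgw
      have e1 : g * w * g⁻¹ = z ^ 0 * L.al (π * cyc * π⁻¹) := by
        rw [show g = z ^ k * L.al π from hgk, ← hw, pow_zero, one_mul, map_mul, map_mul, map_inv]
        calc z ^ k * L.al π * L.al cyc * (z ^ k * L.al π)⁻¹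
            = z ^ k * (L.al π * L.al cyc * (L.al π)⁻¹) * (z ^ k)⁻¹ := by group
          _ = _ := by
            rw [← map_inv, ← map_mul, ← map_mul, (L.commute_pow _ (by
              rw [conj_mem_alt]; exact sign_facts.1) k).eq, mul_inv_cancel_right]
      rw [hij, ← hw, ← map_pow] at e1
      have e2 := L.coord_unique e1
      have hj : (j : ℕ) ≠ 0 := fun h => by
        rw [h, pow_zero] at e2
        exact mul_facts.2.1 (conj_eq_one_iff.1 e2.symm)
      obtain ⟨i', a, hia⟩ := normalizer_cyc_even π hπ (conj_alt_pow π j hπ hj e2.symm)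
      obtain ⟨k', hk'⟩ := pow_three_fin L.cube k
      refine ⟨(k', i', a), Subtype.ext (Subtype.ext ?_)⟩
      show z ^ (k' : ℕ) * (w ^ (i' : ℕ) * t ^ (a : ℕ)) = g
      rw [show g = z ^ k * L.al π from hgk, hia, map_mul, map_pow, map_pow, hw, ht, hk']
    rw [← Nat.card_congr (Equiv.ofBijective f ⟨hf, hs⟩), Nat.card_prod, Nat.card_prod,
      Nat.card_eq_fintype_card, Nat.card_eq_fintype_card, Fintype.card_fin, Fintype.card_fin]
  have hidx : H.index = 4 := by
    have h := H.card_mul_index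
    rw [hH, show Nat.card N = 72 by rw [hNdef]; exact hN] at h
    omega
  -- the orbit of `z`
  let orb : Set G := {x | ∃ n ∈ N, n * z * n⁻¹ = x}
  have horb : Nat.card orb = 4 := by
    rw [← hidx, Subgroup.index_eq_card]
    symm
    refine Nat.card_congr (Equiv.ofBijective (fun q => (⟨(q.out : G) * z * (q.out : G)⁻¹,
      ⟨q.out, q.out.2, rfl⟩⟩ : orb)) ⟨?_, ?_⟩)
    · intro q q' h
      have h' : (q.out : G) * z * (q.out : G)⁻¹ = (q'.out : G) * z * (q'.out : G)⁻¹ :=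
        congrArg Subtype.val h
      rw [← q.out_eq', ← q'.out_eq', QuotientGroup.eq]
      refine (SetLike.ext_iff.1 hHdef _).2 ?_
      rw [Subgroup.mem_subgroupOf, Subgroup.mem_centralizer_singleton_iff]
      show (q.out : G)⁻¹ * (q'.out : G) * z = z * ((q.out : G)⁻¹ * (q'.out : G))
      calc (q.out : G)⁻¹ * (q'.out : G) * z
          = (q.out : G)⁻¹ * ((q'.out : G) * z * (q'.out : G)⁻¹) * (q'.out : G) := by group
        _ = _ := by rw [← h']; group
    · rintro ⟨x, n, hn, rfl⟩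
      obtain ⟨h₁, hh₁⟩ := QuotientGroup.mk_out_eq_mul H ⟨n, hn⟩
      refine ⟨QuotientGroup.mk ⟨n, hn⟩, Subtype.ext ?_⟩
      have hc1 : (h₁.1 : G) * z = z * (h₁.1 : G) := by
        have h2 := h₁.2
        simp only [hHdef] at h2
        exact Subgroup.mem_centralizer_singleton_iff.1 (Subgroup.mem_subgroupOf.1 h2)
      show (((QuotientGroup.mk ⟨n, hn⟩ : N ⧸ H).out : N) : G) * z *
        ((((QuotientGroup.mk ⟨n, hn⟩ : N ⧸ H).out : N) : G))⁻¹ = n * z * n⁻¹
      rw [hh₁, Subgroup.coe_mul]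
      calc n * (h₁.1 : G) * z * (n * (h₁.1 : G))⁻¹
          = n * ((h₁.1 : G) * z) * (h₁.1 : G)⁻¹ * n⁻¹ := by group
        _ = _ := by rw [hc1]; group
  have horbN : ∀ x ∈ orb, ∀ n ∈ N, n * x * n⁻¹ ∈ orb := by
    rintro _ ⟨m, hm, rfl⟩ n hn
    exact ⟨n * m, mul_mem hn hm, by group⟩
  have hcN' : c ∈ N := hNdef ▸ hcN
  have htN' : t ∈ N := hNdef ▸ htN
  have hsix : ∀ i j : Fin 3, (i : ℕ) ≠ 0 → (j : ℕ) ≠ 0 → z ^ (i : ℕ) * w ^ (j : ℕ) ∉ orb := by
    intro i j hi hj hmem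
    let T : Finset (Fin 3 × Fin 3) := {(1, 0), (2, 0), (1, 1), (1, 2), (2, 1), (2, 2)}
    have hT : ∀ p ∈ T, z ^ (p.1 : ℕ) * w ^ (p.2 : ℕ) ∈ orb := by
      have hz1 : z ∈ orb := ⟨1, one_mem _, by group⟩
      have hz2 : z ^ 2 ∈ orb := by
        have h := horbN z hz1 c hcN'
        rw [hcz, inv_eq_of_mul_eq_one_right (b := z ^ 2) (by rw [← pow_succ', L.cube])] at h
        exact h
      have hzi : z⁻¹ = z ^ 2 := inv_eq_of_mul_eq_one_right (by rw [← pow_succ', L.cube])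
      have hwi : w⁻¹ = w ^ 2 := inv_eq_of_mul_eq_one_right (by rw [← pow_succ', hw3])
      have act : ∀ (n : G), n ∈ N → ∀ (a b : ℕ) (z' w' : G), n * z * n⁻¹ = z' → n * w * n⁻¹ = w' →
          z ^ a * w ^ b ∈ orb → z' ^ a * w' ^ b ∈ orb := by
        intro n hn a b z' w' h1 h2 hab
        have := horbN _ hab n hn
        rwa [← h1, ← h2, conj_pow, conj_pow, show n * z ^ a * n⁻¹ * (n * w ^ b * n⁻¹) =
          n * (z ^ a * w ^ b) * n⁻¹ by group]
      have h4 : ∀ a b : Fin 3, (a : ℕ) ≠ 0 → (b : ℕ) ≠ 0 →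
          z ^ (a : ℕ) * w ^ (b : ℕ) ∈ orb := by
        have base : ∀ a b : ℕ, z ^ a * w ^ b ∈ orb → z ^ (2 * a) * w ^ (2 * b) ∈ orb ∧
            z ^ a * w ^ (2 * b) ∈ orb := by
          intro a b hab
          refine ⟨?_, ?_⟩
          · have := act c hcN' a b _ _ hcz hcw hab
            rwa [hzi, hwi, ← pow_mul, ← pow_mul] at this
          · have := act t htN' a b _ _ htz htw hab
            rwa [hwi, ← pow_mul] at this
        have red : ∀ (x : G), x ^ 3 = 1 → ∀ a : ℕ, x ^ a = x ^ (a % 3) :=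
          fun x hx a => pow_eq_pow_mod a hx
        obtain ⟨e1, e2⟩ := base _ _ hmem
        obtain ⟨-, e3⟩ := base _ _ e1
        intro a b ha hb
        have hi3 : (i : ℕ) = 1 ∨ (i : ℕ) = 2 := by omega
        have hj3 : (j : ℕ) = 1 ∨ (j : ℕ) = 2 := by omega
        have ha3 : (a : ℕ) = 1 ∨ (a : ℕ) = 2 := by omega
        have hb3 : (b : ℕ) = 1 ∨ (b : ℕ) = 2 := by omega
        have cases4 : (((i : ℕ) % 3 = a ∧ (j : ℕ) % 3 = b) ∨
            ((2 * (i : ℕ)) % 3 = a ∧ (2 * (j : ℕ)) % 3 = b) ∨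
            ((i : ℕ) % 3 = a ∧ (2 * (j : ℕ)) % 3 = b) ∨
            ((2 * (i : ℕ)) % 3 = a ∧ (2 * (2 * (j : ℕ))) % 3 = b)) := by
          rcases hi3 with h1 | h1 <;> rcases hj3 with h2 | h2 <;> rcases ha3 with h3 | h3 <;>
            rcases hb3 with h4 | h4 <;> rw [h1, h2, h3, h4] <;> decide
        rcases cases4 with ⟨p, q⟩ | ⟨p, q⟩ | ⟨p, q⟩ | ⟨p, q⟩
        · rw [red z L.cube, red w hw3, p, q] at hmem; exact hmem
        · rw [red z L.cube, red w hw3, p, q] at e1; exact e1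
        · rw [red z L.cube, red w hw3, p, q] at e2; exact e2
        · rw [red z L.cube, red w hw3, p, q] at e3; exact e3
      intro p hp
      simp only [T, Finset.mem_insert, Finset.mem_singleton] at hp
      rcases hp with rfl | rfl | rfl | rfl | rfl | rfl
      · simpa using hz1
      · simpa using hz2
      all_goals exact h4 _ _ (by decide) (by decide)
    have h6 : Nat.card {p // p ∈ T} ≤ Nat.card orb := Nat.card_le_card_of_injective
      (fun p => (⟨_, hT p.1 p.2⟩ : orb)) (by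
        rintro ⟨⟨a, b⟩, _⟩ ⟨⟨a', b'⟩, _⟩ h
        have h' := congrArg Subtype.val h
        simp only [← hw] at h'
        obtain ⟨rfl, rfl⟩ := L.grid_inj h'
        rfl)
    rw [horb, Nat.card_eq_fintype_card, Fintype.card_coe] at h6
    exact absurd h6 (by simp only [T]; decide)
  -- an element sending `z` to `w`
  have horbD : ∀ x ∈ orb, x = z ∨ x = z⁻¹ ∨ x = w ∨ x = w⁻¹ := by
    rintro x ⟨n, hn, rfl⟩
    obtain ⟨i, j, hij⟩ := hgrid _ ((Subgroup.mem_normalizer_iff.1 (hNdef ▸ hn) z).1 hzD)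
    have hne : n * z * n⁻¹ ≠ 1 := fun h => hzne (conj_eq_one_iff.1 h)
    have hzi : z⁻¹ = z ^ 2 := inv_eq_of_mul_eq_one_right (by rw [← pow_succ', L.cube])
    have hwi : w⁻¹ = w ^ 2 := inv_eq_of_mul_eq_one_right (by rw [← pow_succ', hw3])
    have hno : (i : ℕ) = 0 ∨ (j : ℕ) = 0 := by
      by_contra h
      push Not at h
      exact hsix i j h.1 h.2 ⟨n, hn, hij⟩
    rw [hij] at hne ⊢
    rcases hno with h | h
    · rw [h, pow_zero, one_mul] at hne ⊢
      have : (j : ℕ) = 0 ∨ (j : ℕ) = 1 ∨ (j : ℕ) = 2 := by omega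
      rcases this with h' | h' | h' <;> rw [h'] at hne ⊢
      · simp at hne
      · simp
      · simp [hwi]
    · rw [h, pow_zero, mul_one] at hne ⊢
      have : (i : ℕ) = 0 ∨ (i : ℕ) = 1 ∨ (i : ℕ) = 2 := by omega
      rcases this with h' | h' | h' <;> rw [h'] at hne ⊢
      · simp at hne
      · simp
      · simp [hzi]
  obtain ⟨n₁, hn₁, hn₁z⟩ : ∃ n ∈ N, n * z * n⁻¹ = w := by
    by_contra h
    push Not at h
    have hle : Nat.card orb ≤ Nat.card ({z, z⁻¹} : Set G) :=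
      Nat.card_mono (Set.toFinite _) fun x hx => by
        obtain ⟨n, hn, hnx⟩ := hx
        rcases horbD x ⟨n, hn, hnx⟩ with r | r | r | r
        · exact Or.inl r
        · exact Or.inr r
        · exact absurd (hnx.trans r) (h n hn)
        · refine absurd ?_ (h (t * n) (mul_mem htN' hn))
          calc t * n * z * (t * n)⁻¹ = t * (n * z * n⁻¹) * t⁻¹ := by group
            _ = (t * w * t⁻¹)⁻¹ := by rw [hnx, r]; group
            _ = w := by rw [htw, inv_inv]
    rw [horb, Nat.card_coe_set_eq] at hle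
    have := (Set.ncard_insert_le z ({z⁻¹} : Set G))
    rw [Set.ncard_singleton] at this
    omega
  have hwne : w ≠ 1 := hw ▸ L.w_ne
  obtain ⟨g, hgN, hgz, hgw⟩ : ∃ g ∈ N, g * z * g⁻¹ = w ∧ g * w * g⁻¹ = z := by
    have h1 : n₁ * w * n₁⁻¹ ∈ orb := horbN _ ⟨n₁, hn₁, hn₁z⟩ n₁ hn₁
    have hinj : ∀ {a : G}, n₁ * w * n₁⁻¹ = n₁ * a * n₁⁻¹ → w = a :=
      fun e => (MulAut.conj n₁).injective e
    rcases horbD _ h1 with r | r | r | r
    · exact ⟨n₁, hn₁, hn₁z, r⟩
    · refine ⟨n₁ * t, mul_mem hn₁ htN', ?_, ?_⟩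
      · calc n₁ * t * z * (n₁ * t)⁻¹ = n₁ * (t * z * t⁻¹) * n₁⁻¹ := by group
          _ = w := by rw [htz, hn₁z]
      · calc n₁ * t * w * (n₁ * t)⁻¹ = n₁ * (t * w * t⁻¹) * n₁⁻¹ := by group
          _ = (n₁ * w * n₁⁻¹)⁻¹ := by rw [htw]; group
          _ = z := by rw [r, inv_inv]
    · exfalso
      have e := hinj (r.trans hn₁z.symm)
      have : z ^ ((1 : Fin 3) : ℕ) * L.al cyc ^ ((0 : Fin 3) : ℕ) =
          z ^ ((0 : Fin 3) : ℕ) * L.al cyc ^ ((1 : Fin 3) : ℕ) := by simp [hw, e]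
      exact absurd (L.grid_inj this).1 (by decide)
    · exfalso
      have e := hinj (a := z⁻¹) (r.trans (by rw [← hn₁z]; group))
      have : z ^ ((2 : Fin 3) : ℕ) * L.al cyc ^ ((0 : Fin 3) : ℕ) =
          z ^ ((0 : Fin 3) : ℕ) * L.al cyc ^ ((1 : Fin 3) : ℕ) := by
        simp [hw, e, inv_eq_of_mul_eq_one_right (show z * z ^ 2 = 1 by rw [← pow_succ', L.cube])]
      exact absurd (L.grid_inj this).1 (by decide)
  have hcomm_conj : ∀ {a x : G}, a * x * a⁻¹ = x → a * x = x * a :=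
    fun h => mul_inv_eq_iff_eq_mul.1 h
  have hdD : g * g ∈ D := by
    refine hself _ (hcomm_conj ?_) (hcomm_conj ?_)
    · calc g * g * z * (g * g)⁻¹ = g * (g * z * g⁻¹) * g⁻¹ := by group
        _ = z := by rw [hgz, hgw]
    · calc g * g * w * (g * g)⁻¹ = g * (g * w * g⁻¹) * g⁻¹ := by group
        _ = w := by rw [hgw, hgz]
  obtain ⟨u₀, hu₀⟩ : ∃ u₀, u₀ = g * g * g := ⟨_, rfl⟩
  have hu₀sq : u₀ * u₀ = 1 := by
    have h := hexp _ hdD
    rw [← h, hu₀]
    simp only [pow_succ, pow_zero, one_mul, mul_assoc]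
  have hu₀i : u₀⁻¹ = u₀ := inv_eq_of_mul_eq_one_right hu₀sq
  have hu₀z : u₀ * z * u₀ = w := by
    calc u₀ * z * u₀ = u₀ * z * u₀⁻¹ := by rw [hu₀i]
      _ = (g * g) * (g * z * g⁻¹) * (g * g)⁻¹ := by rw [hu₀]; group
      _ = w := by rw [hgz, hDc _ hdD _ hwD, mul_inv_cancel_right]
  have hu₀w : u₀ * w * u₀ = z := by
    rw [← hu₀z]
    simp [← mul_assoc, hu₀sq, mul_assoc _ u₀ u₀]
  have hcsq : c * c = 1 := by rw [← hc]; exact L.al_sq mul_facts.2.2.1
  have hci : c⁻¹ = c := inv_eq_of_mul_eq_one_right hcsq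
  obtain ⟨d, hd⟩ : ∃ d, d = u₀ * c * u₀ * c := ⟨_, rfl⟩
  have hzi2 : u₀ * z⁻¹ * u₀ = w⁻¹ := by
    rw [← hu₀z]; simp [mul_assoc, hu₀i]
  have hwi2 : u₀ * w⁻¹ * u₀ = z⁻¹ := by
    rw [← hu₀w]; simp [mul_assoc, hu₀i]
  have hdD' : d ∈ D := by
    refine hself _ (hcomm_conj ?_) (hcomm_conj ?_)
    · calc d * z * d⁻¹ = u₀ * (c * (u₀ * (c * z * c⁻¹) * u₀⁻¹) * c⁻¹) * u₀⁻¹ := by
            rw [hd]; group
        _ = z := by
            rw [hcz, hu₀i, hzi2, show c * w⁻¹ * c⁻¹ = (c * w * c⁻¹)⁻¹ by group, hcw, inv_inv,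
              hu₀w]
    · calc d * w * d⁻¹ = u₀ * (c * (u₀ * (c * w * c⁻¹) * u₀⁻¹) * c⁻¹) * u₀⁻¹ := by
            rw [hd]; group
        _ = w := by
            rw [hcw, hu₀i, hwi2, show c * z⁻¹ * c⁻¹ = (c * z * c⁻¹)⁻¹ by group, hcz, inv_inv,
              hu₀z]
  have hud : u₀ * d * u₀ = d⁻¹ := by
    rw [hd]
    simp [mul_assoc, hu₀i, hci]
    simp [← mul_assoc, hu₀sq]
  have hcd : c * d * c⁻¹ = d⁻¹ := by
    obtain ⟨i, j, hij⟩ := hgrid d hdD'
    rw [hij, show c * (z ^ (i : ℕ) * w ^ (j : ℕ)) * c⁻¹ =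
      (c * z * c⁻¹) ^ (i : ℕ) * (c * w * c⁻¹) ^ (j : ℕ) by rw [conj_pow, conj_pow]; group,
      hcz, hcw, inv_pow, inv_pow, mul_inv_rev]
    exact hDc _ (inv_mem (pow_mem hzD _)) _ (inv_mem (pow_mem hwD _))
  have hd3 : d * d * d = 1 := by rw [← pow_three']; exact hexp d hdD'
  refine ⟨⟨z, w, d * u₀, L, hw, ?_, ?_, ?_, fun g hgz hgw => hgrid g (hself g hgz hgw), ?_, ?_⟩⟩
  · calc d * u₀ * (d * u₀) = d * (u₀ * d * u₀) := by group
      _ = 1 := by rw [hud, mul_inv_cancel]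
  · calc d * u₀ * z * (d * u₀) = d * (u₀ * z * u₀) * (u₀⁻¹ * d * u₀) := by group
      _ = w := by rw [hu₀z, hu₀i, hud, hDc _ hdD' _ hwD, mul_inv_cancel_right]
  · rw [hc]
    have e : u₀ * c = d * c * u₀ := by
      rw [hd]
      simp [mul_assoc, hu₀sq, hcsq]
    have e2 : c * d = d * d * c := by
      have h2 : d⁻¹ = d * d := inv_eq_of_mul_eq_one_right (by rw [← mul_assoc, hd3])
      rw [← h2, ← hcd, inv_mul_cancel_right]
    calc d * u₀ * c = d * d * c * u₀ := by rw [mul_assoc d u₀ c, e]; group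
      _ = c * (d * u₀) := by rw [← e2]; group
  · -- `y` is conjugate to `z * w`
    have hcz60 := L.sixty_le
    have hw60 : 60 ≤ Nat.card (Subgroup.centralizer ({w} : Set G)) := by
      rw [← hgz, card_centralizer_conj]; exact hcz60
    obtain ⟨i, j, hij⟩ := hgrid y hyD
    have hzi : z ^ 2 = z⁻¹ := (inv_eq_of_mul_eq_one_right (by rw [← pow_succ', L.cube])).symm
    have hwi : w ^ 2 = w⁻¹ := (inv_eq_of_mul_eq_one_right (by rw [← pow_succ', hw3])).symm
    have hcy : ∀ k : G, k * (z * w) * k⁻¹ = y →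
        Nat.card (Subgroup.centralizer ({z * w} : Set G)) = 18 := fun k hk => by
      rw [← hycard, ← hk, card_centralizer_conj]
    have hinvc : ∀ x : G, Nat.card (Subgroup.centralizer ({x⁻¹} : Set G)) =
        Nat.card (Subgroup.centralizer ({x} : Set G)) := fun x => by
      have : Subgroup.centralizer ({x⁻¹} : Set G) = Subgroup.centralizer ({x} : Set G) := by
        ext q
        rw [Subgroup.mem_centralizer_singleton_iff, Subgroup.mem_centralizer_singleton_iff]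
        exact Commute.inv_right_iff
      rw [this]
    have hy1 : y ≠ 1 := fun h => by
      rw [h] at hycard
      have h1 : Subgroup.centralizer ({(1 : G)} : Set G) = ⊤ :=
        eq_top_iff.2 fun q _ => Subgroup.mem_centralizer_singleton_iff.2 (by simp)
      rw [h1, Subgroup.card_top] at hycard
      have := Subgroup.card_le_card_group (Subgroup.centralizer ({z} : Set G))
      omega
    have hi : (i : ℕ) = 0 ∨ (i : ℕ) = 1 ∨ (i : ℕ) = 2 := by omega
    have hj : (j : ℕ) = 0 ∨ (j : ℕ) = 1 ∨ (j : ℕ) = 2 := by omega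
    rcases hi with hi | hi | hi <;> rcases hj with hj | hj | hj <;> rw [hi, hj] at hij <;>
      simp only [pow_zero, pow_one, one_mul, mul_one, hzi, hwi] at hij <;>
      first
        | exact absurd hij hy1
        | (exfalso; rw [hij] at hycard; omega)
        | (exfalso; rw [hij, hinvc] at hycard; omega)
        | exact hcy 1 (by rw [one_mul, inv_one, mul_one]; exact hij.symm)
        | (refine hcy t ?_
           rw [hij, show t * (z * w) * t⁻¹ = (t * z * t⁻¹) * (t * w * t⁻¹) by group, htz, htw]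
           done)
        | (refine hcy c ?_
           rw [hij, show c * (z * w) * c⁻¹ = (c * z * c⁻¹) * (c * w * c⁻¹) by group, hcz, hcw]
           done)
        | (refine hcy (c * t) ?_
           rw [hij, show c * t * (z * w) * (c * t)⁻¹ =
             (c * (t * z * t⁻¹) * c⁻¹) * (c * (t * w * t⁻¹) * c⁻¹) by group, htz, htw,
             show c * w⁻¹ * c⁻¹ = (c * w * c⁻¹)⁻¹ by group, hcz, hcw, inv_inv]
           done)
  · intro h27
    have h := P.card_eq_multiplicity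
    rw [← hDP, hcard] at h
    have h2 := (Nat.prime_three.pow_dvd_iff_le_factorization Nat.card_pos.ne').1
      (show 3 ^ 3 ∣ Nat.card G from h27)
    have h3 : (3 : ℕ) ^ 3 ≤ 3 ^ (Nat.card G).factorization 3 :=
      Nat.pow_le_pow_right (by norm_num) h2
    omega

theorem card_normalizer [Finite G] {D : Subgroup G} (hcard : Nat.card D = 9)
    (eN : Subgroup.normalizer (D : Set G) ⧸ D.subgroupOf (Subgroup.normalizer (D : Set G)) ≃*
      DihedralGroup 4) : Nat.card (Subgroup.normalizer (D : Set G)) = 72 := by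
  rw [Subgroup.card_eq_card_quotient_mul_card_subgroup (D.subgroupOf _),
    Nat.card_congr eN.toEquiv, DihedralGroup.nat_card,
    Nat.card_congr (Subgroup.subgroupOfEquivOfLe Subgroup.le_normalizer).toEquiv, hcard]

end CfsgLib.AltEightLocal
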