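import Cfsg.Agent.AltEightLocal.Kernel
import Cfsg.Agent.MaxClassTwo.Basic
import Cfsg.Agent.BlocksCharsC.DerivedIndexP
import Cfsg.Agent.Small.ThompsonTransfer

/-!
`W ≠ V`: otherwise a Sylow 2-subgroup has maximal class and a maximal subgroup without conjugates
of `u`.
-/

set_option autoImplicit false
set_option linter.style.haveILetI false

namespace CfsgLib.AltEightLocal

open Equiv

variable {G : Type*} [Group G]

namespace Hyp

variable (h : Hyp G) [Finite G]
include h

/-- The stabiliser of the flag `v ∈ V`. -/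
theorem flag_stab {g : G} (hg : g * h.v = h.v * g) (hg' : g * h.v' * g⁻¹ ∈ h.Vs) :
    (g * h.v' = h.v' * g) ∨ (g * h.c * h.v = h.v * (g * h.c) ∧ g * h.c * h.v' = h.v' * (g * h.c)) := by
  have hgv : g * h.v * g⁻¹ = h.v := by rw [hg, mul_inv_cancel_right]
  have hinj : ∀ {a b : G}, g * a * g⁻¹ = g * b * g⁻¹ → a = b := fun e => (MulAut.conj g).injective e
  rcases h.Vs_cases hg' with e | e | e | e
  · exact absurd (conj_eq_one_iff.1 e) h.v'_ne
  · exact absurd (hinj (e.trans hgv.symm)) h.v'_ne_v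
  · exact Or.inl (mul_inv_eq_iff_eq_mul.1 e)
  · refine Or.inr ⟨?_, ?_⟩
    · rw [mul_assoc, h.c_v, ← mul_assoc, hg, mul_assoc]
    · have e1 : h.c * h.v' = h.v' * h.v * h.c := by
        rw [← h.c_v', mul_assoc, h.c_sq, mul_one]
      calc g * h.c * h.v' = (g * h.v' * g⁻¹) * (g * h.v * g⁻¹) * (g * h.c) := by
            rw [mul_assoc g h.c h.v', e1]; group
        _ = h.v * h.v' * h.v * (g * h.c) := by rw [e, hgv]
        _ = h.v' * (g * h.c) := by
          rw [mul_assoc h.v h.v' h.v, h.Vs_comm h.v'_mem h.v_mem, ← mul_assoc h.v h.v h.v',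
            h.v_sq, one_mul]

theorem tt_Vs {x : G} (hx : x ∈ h.Vs) (hx1 : x ≠ 1) : h.Tt x :=
  h.tt_of_commute (IsConj.refl _) (h.Vs_sq hx) hx1 (h.Vs_z hx)

theorem c_ne : h.c ≠ 1 := h.L.al_ne mul_facts.2.2.2.1

theorem tt_conj {x g : G} (hx : h.Tt x) : h.Tt (g * x * g⁻¹) :=
  hx.trans (isConj_iff.2 ⟨g, rfl⟩)

/-- `W ≠ V`. -/
theorem W_ne_Vs : h.W ≠ h.Vs := by
  intro hW
  classical
  haveI : Fact (Nat.Prime 2) := ⟨Nat.prime_two⟩
  obtain ⟨P0, hP0⟩ : ∃ P0 : Subgroup G,
      P0 = (fours ⊔ Subgroup.zpowers flip).map h.L.al := ⟨_, rfl⟩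
  have hp : IsPGroup 2 P0 := by
    have hn : Subgroup.zpowers flip ≤ Subgroup.normalizer (fours : Set (Perm (Fin 5))) := by
      rw [Subgroup.zpowers_le, Subgroup.mem_normalizer_iff]
      have key : ∀ σ : Perm (Fin 5), InV σ ↔ InV (flip * σ * flip⁻¹) := by decide +kernel
      exact key
    have h1 : IsPGroup 2 fours := fun σ => ⟨1, Subtype.ext (by
      rw [pow_one, pow_two]; exact (InV_mul _ _ σ.2 σ.2).2.2.2)⟩
    have h2 : IsPGroup 2 (Subgroup.zpowers flip) := fun σ => ⟨1, Subtype.ext (by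
      rw [pow_one]
      obtain ⟨k, hk⟩ := Subgroup.mem_zpowers_iff.1 σ.2
      show (σ : Perm (Fin 5)) ^ 2 = 1
      rw [← hk, ← zpow_natCast, ← zpow_mul, mul_comm, zpow_mul, zpow_natCast, pow_two,
        mul_facts.2.2.1, one_zpow])⟩
    rw [hP0]
    exact (h1.to_sup_of_normal_left' h2 hn).map h.L.al
  obtain ⟨S, hS⟩ := hp.exists_le_sylow
  have hcS : h.c ∈ S := hS (hP0 ▸ ⟨flip, Subgroup.mem_sup_right (Subgroup.mem_zpowers _), rfl⟩)
  have hVS : h.Vs ≤ S := fun x hx => by
    obtain ⟨σ, hσ, rfl⟩ := h.mem_Vs.1 hx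
    exact hS (hP0 ▸ ⟨σ, Subgroup.mem_sup_left hσ, rfl⟩)
  have hzpow : ∀ {g : G}, g ∈ S → ∀ k : ℕ, g * h.z ^ k ∈ h.Vs → g ∈ h.Vs := by
    intro g hg k hk
    have hzk : h.z ^ k ∈ (S : Subgroup G) := by
      have := mul_mem (inv_mem hg) (hVS hk)
      rwa [inv_mul_cancel_left] at this
    obtain ⟨j, hj⟩ := IsPGroup.iff_orderOf.1 S.isPGroup' ⟨h.z ^ k, hzk⟩
    rw [Subgroup.orderOf_mk] at hj
    have h3 : orderOf (h.z ^ k) ∣ 3 := orderOf_dvd_of_pow_eq_one (by
      rw [← pow_mul, mul_comm, pow_mul, h.z_cube, one_pow])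
    rcases (Nat.dvd_prime Nat.prime_three).1 h3 with e | e
    · rwa [orderOf_eq_one_iff.1 e, mul_one] at hk
    · exfalso
      rw [e] at hj
      have := Nat.prime_three.dvd_of_dvd_pow (show 3 ∣ 2 ^ j by rw [← hj])
      norm_num at this
  have hCV : ∀ {g : G}, g ∈ S → g * h.v = h.v * g → g * h.v' = h.v' * g → g ∈ h.Vs := by
    intro g hg h1 h2
    obtain ⟨k, hk⟩ := h.CV_decomp h1 h2
    exact hzpow hg k (hW ▸ hk)
  have hfixc : ∀ {x : G}, x ∈ h.Vs → h.c * x = x * h.c → x = 1 ∨ x = h.v := by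
    intro x hx hc
    rcases h.Vs_cases hx with e | e | e | e
    · exact Or.inl e
    · exact Or.inr e
    all_goals exfalso; subst e
    · have e1 := h.c_v'
      rw [hc, mul_assoc, h.c_sq, mul_one] at e1
      exact h.v_ne (by simpa using e1)
    · have e1 : h.c * h.v' = h.v' * h.c := by
        rw [← mul_assoc, h.c_v, mul_assoc, mul_assoc] at hc
        exact mul_left_cancel hc
      have e2 := h.c_v'
      rw [e1, mul_assoc, h.c_sq, mul_one] at e2
      exact h.v_ne (by simpa using e2)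
  -- `v` is central in `S`
  have hne : Nontrivial S := ⟨⟨⟨h.v, hVS h.v_mem⟩, 1, fun e => h.v_ne (congrArg Subtype.val e)⟩⟩
  have hcent : ∀ g ∈ S, g * h.v = h.v * g := by
    obtain ⟨x, hx⟩ : ∃ x : Subgroup.center S, x ≠ 1 := by
      haveI := IsPGroup.center_nontrivial S.isPGroup'
      exact exists_ne 1
    have hxc : ∀ g ∈ S, g * (x : S) = ((x : S) : G) * g := fun g hg =>
      congrArg Subtype.val (Subgroup.mem_center_iff.1 x.2 ⟨g, hg⟩)
    have hxV := hCV (x : S).2 (hxc _ (hVS h.v_mem)).symm (hxc _ (hVS h.v'_mem)).symm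
    rcases hfixc hxV (hxc _ hcS) with e | e
    · exact absurd (Subtype.ext (Subtype.ext e)) hx
    · intro g hg
      have := hxc g hg
      rwa [e] at this
  -- the centraliser of `v'` in `S`
  obtain ⟨j, hj⟩ : ∃ j : S, j = ⟨h.v', hVS h.v'_mem⟩ := ⟨_, rfl⟩
  obtain ⟨C, hC⟩ : ∃ C : Subgroup S, C = Subgroup.centralizer ({j} : Set S) := ⟨_, rfl⟩
  have hCmem : ∀ x : S, x ∈ C ↔ (x : G) ∈ h.Vs := by
    intro x
    rw [hC, Subgroup.mem_centralizer_singleton_iff, hj]
    constructor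
    · intro e
      exact hCV x.2 (hcent _ x.2) (congrArg Subtype.val e)
    · intro e
      exact Subtype.ext (h.Vs_comm e h.v'_mem)
  have hCcard : Nat.card C = 4 := by
    have e : Nat.card C = Nat.card h.Vs := Nat.card_congr
      { toFun := fun x => ⟨_, (hCmem x).1 x.2⟩
        invFun := fun x => ⟨⟨x, hVS x.2⟩, (hCmem _).2 x.2⟩
        left_inv := fun _ => rfl
        right_inv := fun _ => rfl }
    rw [e, Hyp.Vs, Subgroup.card_map_of_injective h.L.inj]
    rw [Nat.card_congr (Equiv.subtypeEquivRight fun σ => mem_fours),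
      Nat.card_eq_fintype_card]
    decide +kernel
  have hnc : ¬ ∀ a b : S, a * b = b * a := by
    intro hab
    have := congrArg Subtype.val (hab ⟨h.c, hcS⟩ j)
    rw [hj] at this
    rcases hfixc h.v'_mem this with e | e
    · exact h.v'_ne e
    · exact h.v'_ne_v e
  obtain ⟨n, hn⟩ := IsPGroup.iff_card.1 S.isPGroup'
  have hidx : (commutator S).index = 4 := by
    obtain ⟨i, -, hi⟩ := (Nat.dvd_prime_pow Nat.prime_two).1
      (hn ▸ Subgroup.index_dvd_card (commutator S))
    have h4 : (commutator S).index ≤ 4 := by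
      refine (CfsgLib.BlocksCharsC.index_commutator_le_card_centralizer j).trans (le_of_eq ?_)
      subst hC
      exact hCcard
    have h2 : ¬ (commutator S).index ≤ 2 := fun hle =>
      hnc (CfsgLib.BlocksCharsC.comm_of_index_commutator_le (p := 2) S.isPGroup' hle)
    rw [hi] at h4 h2 ⊢
    rcases Nat.lt_or_ge i 2 with h' | h'
    · exact absurd (Nat.pow_le_pow_right (by norm_num) (by omega : i ≤ 1)) h2
    · rcases h'.lt_or_eq with h'' | h''
      · have := Nat.pow_le_pow_right (show 1 ≤ 2 by norm_num) (show 3 ≤ i from h'')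
        omega
      · rw [← h'']; rfl
  have hn3 : 3 ≤ n := by
    by_contra hlt
    push Not at hlt
    have hle : Nat.card S ≤ Nat.card C := by
      rw [hCcard]; exact hn ▸ Nat.pow_le_pow_right (by norm_num) (by omega : n ≤ 2)
    have htop : C = ⊤ := Subgroup.eq_top_of_card_eq C
      (le_antisymm (Nat.le_of_dvd Nat.card_pos (Subgroup.card_subgroup_dvd_card C)) hle)
    have hc1 : (⟨h.c, hcS⟩ : S) ∈ C := htop ▸ Subgroup.mem_top _
    have hcV : h.c ∈ h.Vs := (hCmem _).1 hc1
    obtain ⟨σ, hσ, e⟩ := h.mem_Vs.1 hcV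
    have := (cyc_normalizes σ hσ).2.2.2
    rw [h.L.inj e, sign_facts.2.1] at this
    exact absurd this (by decide)
  obtain ⟨a, ha⟩ := CfsgLib.MaxClassTwo.exists_cyclic_index_two hn3 hn hidx
  obtain ⟨A, hA⟩ : ∃ A : Subgroup S, A = Subgroup.zpowers a := ⟨_, rfl⟩
  have hAi : A.index = 2 := by
    have e := A.card_mul_index
    rw [hA, Nat.card_zpowers, ha, hn, show 2 ^ n = 2 ^ (n - 1) * 2 by
      rw [← pow_succ]; congr 1; omega] at e
    exact hA ▸ Nat.eq_of_mul_eq_mul_left (by positivity) e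
  haveI hAn : A.Normal := Subgroup.normal_of_index_eq_two hAi
  haveI : IsCyclic A := hA ▸ inferInstance
  -- involutions of `A`
  have hAinv : ∀ x ∈ A, x * x = 1 → x ≠ 1 → (x : G) = h.v := by
    intro x hx hx2 hx1
    have hfix : ∀ y : S, y * x * y⁻¹ = x := by
      intro y
      obtain ⟨w₀, hw₀⟩ : ∃ w₀, w₀ = y * x * y⁻¹ := ⟨_, rfl⟩
      have hwA : w₀ ∈ A := hw₀ ▸ hAn.conj_mem x hx y
      have hw2 : w₀ * w₀ = 1 := by rw [hw₀, conj_mul, hx2, mul_one, mul_inv_cancel]
      haveI := Fintype.ofFinite A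
      have hle := IsCyclic.card_pow_eq_one_le (α := A) (n := 2) (by norm_num)
      by_contra hne'
      rw [← hw₀] at hne'
      have hw1 : w₀ ≠ 1 := fun e => hx1 (conj_eq_one_iff.1 (hw₀ ▸ e))
      have h3 : ({1, ⟨x, hx⟩, ⟨w₀, hwA⟩} : Finset A) ⊆
          Finset.univ.filter fun b => b ^ 2 = 1 := by
        intro b hb
        simp only [Finset.mem_insert, Finset.mem_singleton] at hb
        refine Finset.mem_filter.2 ⟨Finset.mem_univ _, ?_⟩
        rcases hb with e | e | e <;> subst e <;> rw [pow_two]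
        · exact one_mul 1
        · exact Subtype.ext hx2
        · exact Subtype.ext hw2
      have h4 := (Finset.card_le_card h3).trans hle
      rw [Finset.card_eq_three.2 ⟨1, ⟨x, hx⟩, ⟨w₀, hwA⟩,
        fun e => hx1 (congrArg Subtype.val e).symm, fun e => hw1 (congrArg Subtype.val e).symm,
        fun e => hne' (congrArg Subtype.val e).symm, rfl⟩] at h4
      omega
    have hxV : (x : G) ∈ h.Vs :=
      (hCmem x).1 (hC ▸ Subgroup.mem_centralizer_singleton_iff.2
        (mul_inv_eq_iff_eq_mul.1 (hfix j)).symm)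
    rcases hfixc hxV (congrArg Subtype.val (mul_inv_eq_iff_eq_mul.1 (hfix ⟨h.c, hcS⟩))) with e | e
    · exact absurd (Subtype.ext e) hx1
    · exact e
  have hjA : j ∉ A := by
    intro hjA
    have hj2 : j * j = 1 := by rw [hj]; exact Subtype.ext (h.Vs_sq h.v'_mem)
    have e := hAinv j hjA hj2 (fun e => h.v'_ne (by
      rw [hj] at e; exact congrArg Subtype.val e))
    rw [hj] at e
    exact h.v'_ne_v e
  obtain ⟨M, hM, hjM⟩ : ∃ M : Subgroup S, IsCoatom M ∧ Subgroup.zpowers j ≤ M := by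
    refine (eq_top_or_exists_le_coatom (Subgroup.zpowers j)).resolve_left fun e => hnc ?_
    intro x y
    obtain ⟨p, rfl⟩ := Subgroup.mem_zpowers_iff.1 (e ▸ Subgroup.mem_top x)
    obtain ⟨q, rfl⟩ := Subgroup.mem_zpowers_iff.1 (e ▸ Subgroup.mem_top y)
    exact ((Commute.refl j).zpow_zpow p q).eq
  have hMi : M.index = 2 := CfsgLib.Solvable.index_coatom (p := 2) S.isPGroup' hM
  haveI hMn : M.Normal := Subgroup.normal_of_index_eq_two hMi
  have hjM' : j ∈ M := hjM (Subgroup.mem_zpowers _)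
  -- the class of `j` is `M ∖ A`
  obtain ⟨cl, hcl⟩ : ∃ cl : Set S, cl = {x | ∃ y : S, y * j * y⁻¹ = x} := ⟨_, rfl⟩
  have hclsub : cl ⊆ ((M : Set S) \ A) := by
    rw [hcl]
    rintro x ⟨y, rfl⟩
    refine ⟨hMn.conj_mem j hjM' y, fun e => hjA ?_⟩
    have := hAn.conj_mem _ e y⁻¹
    simpa [mul_assoc] using this
  have hclcard : Nat.card S ≤ 4 * Nat.card cl := by
    rw [← C.card_mul_index, hCcard]
    refine Nat.mul_le_mul_left 4 ?_
    rw [Subgroup.index_eq_card]
    refine Nat.card_le_card_of_injective (fun q => (⟨q.out * j * q.out⁻¹, hcl ▸ ⟨q.out, rfl⟩⟩ : cl)) ?_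
    intro p q e
    have e' : p.out * j * p.out⁻¹ = q.out * j * q.out⁻¹ := congrArg Subtype.val e
    rw [← p.out_eq', ← q.out_eq', QuotientGroup.eq]
    refine (SetLike.ext_iff.1 hC _).2 (Subgroup.mem_centralizer_singleton_iff.2 ?_)
    calc p.out⁻¹ * q.out * j = p.out⁻¹ * (q.out * j * q.out⁻¹) * q.out := by group
      _ = p.out⁻¹ * (p.out * j * p.out⁻¹) * q.out := by rw [e']
      _ = _ := by group
  have hdiff : 4 * Nat.card ((M : Set S) \ A : Set S) = Nat.card S := by
    have e1 : (M ⊓ A).index = 4 := by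
      refine le_antisymm ?_ ?_
      · exact (Subgroup.index_inf_le).trans (by rw [hMi, hAi])
      · have hne : M ⊓ A ≠ M := fun e => hjA (show j ∈ M ⊓ A by rw [e]; exact hjM').2
        have hd := Subgroup.index_dvd_of_le (inf_le_left : M ⊓ A ≤ M)
        rw [hMi] at hd
        obtain ⟨k, hk⟩ := hd
        rcases k with _ | _ | k
        · exact absurd hk (by
            rw [mul_zero]; exact Subgroup.index_ne_zero_of_finite)
        · exfalso
          refine hne (Subgroup.eq_of_le_of_card_ge inf_le_left ?_)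
          have a1 := M.card_mul_index
          have a2 := (M ⊓ A).card_mul_index
          rw [hk] at a2; rw [hMi] at a1
          omega
        · omega
    have a1 := M.card_mul_index
    have a2 := (M ⊓ A).card_mul_index
    rw [hMi] at a1
    rw [e1] at a2
    have e2 : Nat.card ((M : Set S) \ A : Set S) + Nat.card (M ⊓ A : Subgroup S) = Nat.card M := by
      have := Set.ncard_inter_add_ncard_sdiff_eq_ncard (M : Set S) (A : Set S) (Set.toFinite _)
      rw [← Nat.card_coe_set_eq, ← Nat.card_coe_set_eq, ← Nat.card_coe_set_eq] at this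
      rw [add_comm]
      exact this
    omega
  have hfull : cl = (M : Set S) \ A := Set.eq_of_subset_of_ncard_le hclsub (by
    rw [← Nat.card_coe_set_eq, ← Nat.card_coe_set_eq]; omega) (Set.toFinite _)
  -- transfer
  have hrel : (M.map (S : Subgroup G).subtype).relIndex S = 2 := by
    rw [Subgroup.relIndex]
    have : (M.map (S : Subgroup G).subtype).subgroupOf S = M :=
      Subgroup.comap_map_eq_self_of_injective (Subgroup.subtype_injective _) M
    rw [this, hMi]
  have hu : orderOf h.u = 2 := orderOf_eq_prime (by rw [pow_two, h.u_sq]) h.u_ne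
  obtain ⟨g, hg⟩ := CfsgLib.Small.thompson_transfer_sylow h.no_index_two S
    (M.map (S : Subgroup G).subtype) (Subgroup.map_subtype_le M) hrel hu
  obtain ⟨x, hxM, hx⟩ := hg
  have hx2 : x * x = 1 := Subtype.ext (by
    show (x : G) * (x : G) = 1
    rw [show (x : G) = g⁻¹ * h.u * g from hx]; exact conj_sq h.u_sq)
  have hx1 : x ≠ 1 := fun e => conj_ne (k := g) h.u_ne (by rw [← hx, e]; rfl)
  have htt : h.Tt (x : G) := by
    by_cases hxA : x ∈ A
    · rw [hAinv x hxA hx2 hx1]; exact h.tt_Vs h.v_mem h.v_ne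
    · obtain ⟨y, rfl⟩ : ∃ y, y * j * y⁻¹ = x := by
        have hxcl : x ∈ cl := hfull.symm ▸ ⟨hxM, hxA⟩
        rw [hcl] at hxcl
        exact hxcl
      have : ((y * j * y⁻¹ : S) : G) = (y : G) * h.v' * (y : G)⁻¹ := by rw [hj]; rfl
      rw [this]
      exact h.tt_conj (h.tt_Vs h.v'_mem h.v'_ne)
  refine h.t_not_u ?_
  have := h.tt_conj (g := g) htt
  rwa [show (x : G) = g⁻¹ * h.u * g from hx, show g * (g⁻¹ * h.u * g) * g⁻¹ = h.u by group] at this

theorem exists_frame : Nonempty (Frame h) := h.W_cases.resolve_left h.W_ne_Vs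

end Hyp

end CfsgLib.AltEightLocal
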