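import Cfsg.Agent.AltEightLocal.TwistFinal

/-!
The normaliser of `W`, the Sylow 2-subgroup `W⟨c, s⟩`, and the fusion of `u` with `e`.
-/

set_option autoImplicit false
set_option linter.style.haveILetI false

namespace CfsgLib.AltEightLocal

open Equiv

variable {G : Type*} [Group G]

/-- Adjoin to `H` an element `a` normalising it whose square it contains. -/
def adjoinSqrt (H : Subgroup G) (a : G) (ha : ∀ x ∈ H, a * x * a⁻¹ ∈ H) (ha2 : a * a ∈ H) :
    Subgroup G where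
  carrier := {x | x ∈ H ∨ x * a ∈ H}
  one_mem' := Or.inl (one_mem H)
  mul_mem' := by
    have hback : ∀ x ∈ H, a⁻¹ * x * a ∈ H := fun x hx => by
      have := mul_mem (mul_mem (inv_mem ha2) (ha x hx)) ha2
      convert this using 1
      group
    rintro x y (hx | hx) (hy | hy)
    · exact Or.inl (mul_mem hx hy)
    · exact Or.inr (by rw [mul_assoc]; exact mul_mem hx hy)
    · refine Or.inr ?_
      have := mul_mem hx (hback y hy)
      convert this using 1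
      group
    · refine Or.inl ?_
      have := mul_mem (mul_mem hx (hback _ hy)) (inv_mem ha2)
      convert this using 1
      group
  inv_mem' := by
    rintro x (hx | hx)
    · exact Or.inl (inv_mem hx)
    · refine Or.inr ?_
      have := mul_mem (ha _ (inv_mem hx)) ha2
      convert this using 1
      group

theorem mem_adjoinSqrt {H : Subgroup G} {a : G} {ha : ∀ x ∈ H, a * x * a⁻¹ ∈ H}
    {ha2 : a * a ∈ H} {x : G} : x ∈ adjoinSqrt H a ha ha2 ↔ x ∈ H ∨ x * a ∈ H := Iff.rfl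

theorem le_adjoinSqrt {H : Subgroup G} {a : G} {ha : ∀ x ∈ H, a * x * a⁻¹ ∈ H}
    {ha2 : a * a ∈ H} : H ≤ adjoinSqrt H a ha ha2 := fun _ hx => Or.inl hx

theorem self_mem_adjoinSqrt {H : Subgroup G} {a : G} {ha : ∀ x ∈ H, a * x * a⁻¹ ∈ H}
    {ha2 : a * a ∈ H} : a ∈ adjoinSqrt H a ha ha2 := Or.inr ha2

theorem sq_mem_adjoinSqrt {H : Subgroup G} {a : G} {ha : ∀ x ∈ H, a * x * a⁻¹ ∈ H}
    {ha2 : a * a ∈ H} {x : G} (hx : x ∈ adjoinSqrt H a ha ha2) : x * x ∈ H := by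
  rcases mem_adjoinSqrt.1 hx with e | e
  · exact mul_mem e e
  · have h1 := ha _ e
    have h2 := mul_mem (mul_mem e (inv_mem ha2)) h1
    convert h2 using 1
    group

theorem adjoinSqrt_isPGroup {H : Subgroup G} {a : G} {ha : ∀ x ∈ H, a * x * a⁻¹ ∈ H}
    {ha2 : a * a ∈ H} (hH : IsPGroup 2 H) : IsPGroup 2 (adjoinSqrt H a ha ha2) := fun x => by
  obtain ⟨k, hk⟩ := hH ⟨(x : G) * (x : G), sq_mem_adjoinSqrt x.2⟩
  refine ⟨k + 1, Subtype.ext ?_⟩
  have := congrArg Subtype.val hk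
  simp only [SubmonoidClass.coe_pow, OneMemClass.coe_one] at this ⊢
  rw [pow_succ', pow_mul, pow_two]
  exact this

theorem adjoinSqrt_relIndex {H : Subgroup G} {a : G} {ha : ∀ x ∈ H, a * x * a⁻¹ ∈ H}
    {ha2 : a * a ∈ H} (hna : a ∉ H) : H.relIndex (adjoinSqrt H a ha ha2) = 2 := by
  rw [Subgroup.relIndex, Subgroup.index_eq_two_iff]
  refine ⟨⟨a, self_mem_adjoinSqrt⟩, fun b => ?_⟩
  simp only [Subgroup.mem_subgroupOf, Subgroup.coe_mul]
  rcases mem_adjoinSqrt.1 b.2 with e | e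
  · refine Or.inr ⟨e, fun e' => hna ?_⟩
    have := mul_mem (inv_mem e) e'
    rwa [inv_mul_cancel_left] at this
  · refine Or.inl ⟨e, fun e' => hna ?_⟩
    have := mul_mem (inv_mem e') e
    rwa [inv_mul_cancel_left] at this

theorem card_adjoinSqrt [Finite G] {H : Subgroup G} {a : G} {ha : ∀ x ∈ H, a * x * a⁻¹ ∈ H}
    {ha2 : a * a ∈ H} (hna : a ∉ H) :
    Nat.card (adjoinSqrt H a ha ha2) = 2 * Nat.card H := by
  have h1 := (H.subgroupOf (adjoinSqrt H a ha ha2)).card_mul_index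
  rw [Nat.card_congr (Subgroup.subgroupOfEquivOfLe le_adjoinSqrt).toEquiv] at h1
  rw [← h1, show (H.subgroupOf (adjoinSqrt H a ha ha2)).index = 2 from adjoinSqrt_relIndex hna,
    mul_comm]

namespace Frame

variable {h : Hyp G} [Finite G] (f : Frame h)
include f

theorem Us_le_W : f.Us ≤ h.W := by
  rintro x hx
  obtain ⟨b, hb, rfl⟩ := f.mem_Us.1 hx
  exact f.s_mem b hb

theorem Vs_Us {x : G} (h1 : x ∈ h.Vs) (h2 : x ∈ f.Us) : x = 1 := by
  obtain ⟨b, hb, e⟩ := f.mem_Us.1 h2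
  exact (f.decomp_unique h1 (one_mem _) (one_mem _) hb (by rw [← e]; group)).1

theorem Us_sW {x : G} (hx : x ∈ f.Us) : f.s * x * f.s⁻¹ ∈ h.Vs := by
  obtain ⟨b, hb, rfl⟩ := f.mem_Us.1 hx
  rcases f.s_inv_mem with e | e
  · rw [show f.s * (f.s * b * f.s⁻¹) * f.s⁻¹ = (f.s * f.s) * b * (f.s * f.s)⁻¹ by group, e]
    simpa using hb
  · rw [Set.mem_singleton_iff] at e
    rw [show f.s * (f.s * b * f.s⁻¹) * f.s⁻¹ = (f.s * f.s) * b * (f.s * f.s)⁻¹ by group, e, h.c_inv]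
    exact h.Vs_conj_c hb

/-- Elements of `W` outside the two four-groups are conjugate to `e`. -/
theorem W_mixed {x : G} (hx : x ∈ h.W) :
    x ∈ h.Vs ∨ x ∈ f.Us ∨ ∃ d ∈ h.D, d * x * d⁻¹ = f.e := by
  obtain ⟨a, ha, b, hb, rfl⟩ := f.decomp x hx
  rcases eq_or_ne a 1 with e | ha1
  · exact Or.inr (Or.inl (by rw [e, one_mul]; exact f.mem_Us.2 ⟨b, hb, rfl⟩))
  rcases eq_or_ne b 1 with e | hb1
  · exact Or.inl (by rw [e]; simpa using ha)
  exact Or.inr (Or.inr (f.to_e ha hb ha1 hb1))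

theorem N_point {n : G} (hn : n ∈ h.N) {a : G} (ha : a ∈ h.Vs) :
    n * a * n⁻¹ ∈ h.Vs ∨ n * a * n⁻¹ ∈ f.Us := by
  rcases eq_or_ne a 1 with e | ha1
  · exact Or.inl (by rw [e, mul_one, mul_inv_cancel]; exact one_mem _)
  rcases f.W_mixed (h.N_conj hn (h.Vs_le_W ha)).1 with e | e | ⟨d, hd, e⟩
  · exact Or.inl e
  · exact Or.inr e
  · exfalso
    obtain ⟨i, hi⟩ := w_pow_Vs (h := h) ha ha1
    refine f.not_trans ⟨d * n * (h.w ^ i)⁻¹, mul_mem (mul_mem (h.D_le_N hd) hn)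
      (inv_mem (pow_mem (h.D_le_N h.w_mem) i)), ?_⟩
    rw [← e, ← hi]; group

/-- `N(W)` preserves the pair `{V, s V s⁻¹}`. -/
theorem N_cases {n : G} (hn : n ∈ h.N) :
    (∀ a ∈ h.Vs, n * a * n⁻¹ ∈ h.Vs) ∨ ∀ a ∈ h.Vs, n * a * n⁻¹ ∈ f.Us := by
  by_contra hcon
  push Not at hcon
  obtain ⟨⟨a, ha, hna⟩, b, hb, hnb⟩ := hcon
  have ha' := (f.N_point hn ha).resolve_left hna
  have hb' := (f.N_point hn hb).resolve_right hnb
  rcases f.N_point hn (mul_mem ha hb) with e | e <;> rw [conj_mul3] at e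
  · exact hna ((Subgroup.mul_mem_cancel_right _ hb').1 e)
  · exact hnb ((Subgroup.mul_mem_cancel_left _ ha').1 e)

theorem card_N_le : Nat.card h.N ≤ 576 := by
  have hs := f.s_mem_N
  have hw := h.D_le_N h.w_mem
  have hsurj : Function.Surjective fun p : Fin 2 × Fin 3 × f.Flag =>
      (⟨f.s ^ (p.1 : ℕ) * h.w ^ (p.2.1 : ℕ) * ((p.2.2 : h.St h.v) : G),
        mul_mem (mul_mem (pow_mem hs _) (pow_mem hw _)) (h.mem_St.1 (p.2.2 : h.St h.v).2).1⟩ : h.N) := by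
    rintro ⟨n, hn⟩
    obtain ⟨j, hj⟩ : ∃ j : Fin 2, ∀ a ∈ h.Vs,
        ((f.s ^ (j : ℕ))⁻¹ * n) * a * ((f.s ^ (j : ℕ))⁻¹ * n)⁻¹ ∈ h.Vs := by
      rcases f.N_cases hn with e | e
      · exact ⟨0, fun a ha => by
          rw [Fin.val_zero, pow_zero, inv_one, one_mul]; exact e a ha⟩
      · refine ⟨1, fun a ha => ?_⟩
        obtain ⟨b, hb, hbe⟩ := f.mem_Us.1 (e a ha)
        rw [show ((1 : Fin 2) : ℕ) = 1 from rfl, pow_one,
          show f.s⁻¹ * n * a * (f.s⁻¹ * n)⁻¹ = f.s⁻¹ * (n * a * n⁻¹) * f.s by group, ← hbe,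
          conj_cancel]
        exact hb
    obtain ⟨m, hm⟩ : ∃ m, m = (f.s ^ (j : ℕ))⁻¹ * n := ⟨_, rfl⟩
    have hmN : m ∈ h.N := hm ▸ mul_mem (inv_mem (pow_mem hs _)) hn
    have hmv : m * h.v * m⁻¹ ∈ h.Vs := hm ▸ hj _ h.v_mem
    obtain ⟨i₀, hi₀⟩ := w_pow_Vs (h := h) hmv fun e => h.v_ne (conj_eq_one_iff.1 e)
    obtain ⟨k, hk⟩ := pow_three_fin h.w_cube (2 * i₀)
    obtain ⟨F, hF⟩ : ∃ F, F = (h.w ^ (k : ℕ))⁻¹ * m := ⟨_, rfl⟩
    have hwk : (h.w ^ (k : ℕ))⁻¹ = h.w ^ i₀ := by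
      rw [← hk]
      refine inv_eq_of_mul_eq_one_right ?_
      rw [← pow_add, show 2 * i₀ + i₀ = 3 * i₀ by ring, pow_mul, h.w_cube, one_pow]
    have hFSt : F ∈ h.St h.v := h.mem_St.2 ⟨hF ▸ mul_mem (inv_mem (pow_mem hw _)) hmN,
      commute_iff_conj.1 (by
        rw [hF, hwk]
        conv_rhs => rw [← hi₀]
        group)⟩
    have hFflag : (⟨F, hFSt⟩ : h.St h.v) ∈ f.Flag := by
      rw [f.mem_Flag]
      show F * h.v' * F⁻¹ ∈ h.Vs
      have hpow : ∀ q : ℕ, ∀ x ∈ h.Vs, h.w ^ q * x * (h.w ^ q)⁻¹ ∈ h.Vs := by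
        intro q
        induction q with
        | zero => simp
        | succ q ih =>
          intro x hx
          have := (h.Vs_conj_w (ih x hx)).2
          rwa [show h.w * (h.w ^ q * x * (h.w ^ q)⁻¹) * h.w⁻¹ =
            h.w ^ (q + 1) * x * (h.w ^ (q + 1))⁻¹ by rw [pow_succ']; group] at this
      have := hpow i₀ _ (hm ▸ hj _ h.v'_mem)
      rw [hF, hwk]
      convert this using 1
      group
    refine ⟨(j, k, ⟨⟨F, hFSt⟩, hFflag⟩), Subtype.ext ?_⟩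
    show f.s ^ (j : ℕ) * h.w ^ (k : ℕ) * F = n
    rw [hF, hm]; group
  refine (Nat.card_le_card_of_surjective _ hsurj).trans (le_of_eq ?_)
  rw [Nat.card_prod, Nat.card_prod, f.card_Flag, Nat.card_eq_fintype_card, Nat.card_eq_fintype_card,
    Fintype.card_fin, Fintype.card_fin]

theorem two_part_le {R : Subgroup G} (hR : IsPGroup 2 R) (hle : R ≤ h.N) : Nat.card R ≤ 64 := by
  haveI : Fact (Nat.Prime 2) := ⟨Nat.prime_two⟩
  obtain ⟨a, ha⟩ := IsPGroup.iff_card.1 hR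
  have h1 : 2 ^ a ∣ Nat.card h.N := ha ▸ Subgroup.card_dvd_of_le hle
  have h2 : 9 ∣ Nat.card h.N := h.card_D ▸ Subgroup.card_dvd_of_le h.D_le_N
  have h3 : 2 ^ a * 9 ∣ Nat.card h.N :=
    (Nat.Coprime.pow_left a (by norm_num)).mul_dvd_of_dvd_of_dvd h1 h2
  have h4 := (Nat.le_of_dvd Nat.card_pos h3).trans f.card_N_le
  rw [ha]; omega

theorem c_conj_W : ∀ x ∈ h.W, h.c * x * h.c⁻¹ ∈ h.W := fun x hx => by
  rw [h.c_inv]; exact h.c_W hx

/-- The group `W⟨c⟩`. -/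
noncomputable def M₂ (_f : Frame h) : Subgroup G :=
  adjoinSqrt h.W h.c _f.c_conj_W (by rw [h.c_sq]; exact one_mem _)

theorem mem_M₂ {x : G} : x ∈ f.M₂ ↔ x ∈ h.W ∨ x * h.c ∈ h.W := mem_adjoinSqrt

theorem s_conj_M₂ : ∀ x ∈ f.M₂, f.s * x * f.s⁻¹ ∈ f.M₂ := by
  intro x hx
  rw [f.mem_M₂] at hx ⊢
  refine hx.imp (fun e => (f.s_W e).1) fun e => ?_
  have := (f.s_W e).1
  rwa [show f.s * (x * h.c) * f.s⁻¹ = f.s * x * f.s⁻¹ * h.c by
    calc f.s * (x * h.c) * f.s⁻¹ = f.s * x * (h.c * f.s⁻¹) := by group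
      _ = _ := by
        rw [((show Commute h.c f.s from f.s_c.symm).inv_right).eq]; group] at this

theorem s_sq_M₂ : f.s * f.s ∈ f.M₂ := by
  rcases f.s_inv_mem with e | e
  · rw [e]; exact one_mem _
  · rw [Set.mem_singleton_iff] at e
    rw [e]; exact self_mem_adjoinSqrt

/-- The group `W⟨c, s⟩`. -/
noncomputable def S₂ (_f : Frame h) : Subgroup G :=
  adjoinSqrt _f.M₂ _f.s _f.s_conj_M₂ _f.s_sq_M₂

theorem M₂_fix {x : G} (hx : x ∈ f.M₂) : x * h.v = h.v * x := by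
  rcases f.mem_M₂.1 hx with e | e
  · exact h.W_Vs e h.v_mem
  · have e1 : Commute (x * h.c) h.v := h.W_Vs e h.v_mem
    have e2 : Commute h.c h.v := h.c_v
    have := e1.mul_left e2.inv_left
    rwa [mul_inv_cancel_right] at this

theorem s_not_M₂ : f.s ∉ f.M₂ := fun e => f.v_ne_w₁ (commute_iff_conj.2 (f.M₂_fix e)).symm

theorem card_M₂ : Nat.card f.M₂ = 32 := by
  rw [M₂, card_adjoinSqrt f.c_not_W, f.card_W]

theorem card_S₂ : Nat.card f.S₂ = 64 := by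
  rw [S₂, card_adjoinSqrt f.s_not_M₂, f.card_M₂]

theorem M₂_le_S₂ : f.M₂ ≤ f.S₂ := le_adjoinSqrt

theorem W_le_M₂ : h.W ≤ f.M₂ := le_adjoinSqrt

theorem S₂_le_N : f.S₂ ≤ h.N := by
  intro x hx
  have hM : ∀ y ∈ f.M₂, y ∈ h.N := fun y hy => by
    rcases f.mem_M₂.1 hy with e | e
    · exact h.W_le_N e
    · have := mul_mem (h.W_le_N e) (inv_mem (c_norm (h := h)))
      rwa [mul_inv_cancel_right] at this
  rcases mem_adjoinSqrt.1 hx with e | e
  · exact hM x e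
  · have := mul_mem (hM _ e) (inv_mem f.s_mem_N)
    rwa [mul_inv_cancel_right] at this

theorem S₂_isPGroup : IsPGroup 2 f.S₂ := IsPGroup.of_card (n := 6) (by rw [f.card_S₂]; rfl)

theorem outside_moves {b : G} (hb : b ∈ f.S₂) (hbM : b ∉ f.M₂) {a : G} (ha : a ∈ h.Vs) :
    b * a * b⁻¹ ∈ f.Us := by
  rcases f.N_cases (f.S₂_le_N hb) with e | e
  · exfalso
    obtain ⟨m, hm, hbm⟩ : ∃ m ∈ f.M₂, b = m * f.s⁻¹ :=
      ⟨b * f.s, (mem_adjoinSqrt.1 hb).resolve_left hbM, (mul_inv_cancel_right _ _).symm⟩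
    have h1 : f.s⁻¹ * h.v * f.s ∈ h.Vs := by
      have := e _ h.v_mem
      have e1 : b * h.v * b⁻¹ = m * (f.s⁻¹ * h.v * f.s) * m⁻¹ := by rw [hbm]; group
      rw [e1] at this
      rcases f.mem_M₂.1 hm with hmW | hmW
      · rwa [commute_iff_conj.2 (f.W_comm hmW (f.s_W (h.Vs_le_W h.v_mem)).2)] at this
      · have hy := h.Vs_conj_c (show m * (f.s⁻¹ * h.v * f.s) * m⁻¹ ∈ h.Vs from this)
        have e2 : h.c * (m * (f.s⁻¹ * h.v * f.s) * m⁻¹) * h.c = f.s⁻¹ * h.v * f.s := by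
          have hcs : h.c * (f.s⁻¹ * h.v * f.s) * h.c = f.s⁻¹ * h.v * f.s := by
            have h2 : Commute h.c f.s := f.s_c.symm
            have h3 : Commute h.c h.v := h.c_v
            have h4 : Commute h.c (f.s⁻¹ * h.v * f.s) := (h2.inv_right.mul_right h3).mul_right h2
            rw [h4.eq, mul_assoc, h.c_sq, mul_one]
          obtain ⟨y, hy⟩ : ∃ y, y = m * h.c := ⟨_, rfl⟩
          have hm' : m = y * h.c := by rw [hy, mul_assoc, h.c_sq, mul_one]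
          have hcy : h.c * y * h.c ∈ h.W := h.c_W (hy ▸ hmW)
          calc h.c * (m * (f.s⁻¹ * h.v * f.s) * m⁻¹) * h.c
              = (h.c * y * h.c) * (f.s⁻¹ * h.v * f.s) * (h.c * y * h.c)⁻¹ := by
                rw [hm']; simp only [mul_inv_rev, h.c_inv, mul_assoc]
            _ = _ := commute_iff_conj.2 (f.W_comm hcy (f.s_W (h.Vs_le_W h.v_mem)).2)
        rwa [e2] at hy
    have h2 : f.s⁻¹ * h.v * f.s ∈ f.Us := by
      rcases f.s_inv_mem with e | e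
      · refine f.mem_Us.2 ⟨h.v, h.v_mem, ?_⟩
        rw [inv_eq_of_mul_eq_one_right e]
      · rw [Set.mem_singleton_iff] at e
        refine f.mem_Us.2 ⟨h.v, h.v_mem, ?_⟩
        have hcv : h.c * h.v * h.c⁻¹ = h.v := commute_iff_conj.2 h.c_v
        calc f.s * h.v * f.s⁻¹ = f.s⁻¹ * ((f.s * f.s) * h.v * (f.s * f.s)⁻¹) * f.s := by group
          _ = _ := by rw [e, hcv]
    exact h.v_ne ((conj_eq_one_iff (a := f.s⁻¹)).1 (by rw [inv_inv]; exact f.Vs_Us h1 h2))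
  · exact e a ha

/-- `W` is the only elementary abelian subgroup of order 16 of `W⟨c, s⟩`. -/
theorem sixteen_unique {B : Subgroup G} (hB : IsSixteen B) (hle : B ≤ f.S₂) : B = h.W := by
  classical
  by_contra hne
  obtain ⟨b₀, hb₀, hb₀W⟩ : ∃ b ∈ B, b ∉ h.W := by
    by_contra hall
    push Not at hall
    exact hne (Subgroup.eq_of_le_of_card_ge hall (by rw [hB.card, f.card_W]))
  have hidx : ∀ {K : Subgroup G} {L : Subgroup G}, K.relIndex L = 2 → ∀ C : Subgroup G, C ≤ L →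
      Nat.card C ≤ 2 * Nat.card (C ⊓ K : Subgroup G) := by
    intro K L hKL C hCL
    have h1 := ((C ⊓ K).subgroupOf C).card_mul_index
    rw [Nat.card_congr (Subgroup.subgroupOfEquivOfLe inf_le_left).toEquiv] at h1
    have h2 : ((C ⊓ K).subgroupOf C).index ≤ 2 := by
      rw [← hKL]
      show (C ⊓ K).relIndex C ≤ K.relIndex L
      rw [Subgroup.inf_relIndex_left]
      exact Subgroup.relIndex_le_of_le_right hCL (by rw [hKL]; norm_num)
    rw [← h1, mul_comm 2]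
    exact Nat.mul_le_mul_left _ h2
  have hSM : f.M₂.relIndex f.S₂ = 2 := adjoinSqrt_relIndex f.s_not_M₂
  have hMW : h.W.relIndex f.M₂ = 2 := adjoinSqrt_relIndex f.c_not_W
  have h8 : 8 ≤ Nat.card (B ⊓ f.M₂ : Subgroup G) := by
    have := hidx hSM B hle
    rw [hB.card] at this
    omega
  have h4 : Nat.card (B ⊓ f.M₂ : Subgroup G) ≤ 2 * Nat.card (B ⊓ h.W : Subgroup G) := by
    have := hidx hMW (B ⊓ f.M₂) inf_le_right
    rwa [inf_assoc, inf_eq_right.2 f.W_le_M₂] at this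
  by_cases hBM : B ≤ f.M₂
  · have e : B ⊓ f.M₂ = B := inf_eq_left.2 hBM
    rw [e, hB.card] at h4
    have hle4 : B ⊓ h.W ≤ f.Lf := fun a ha => by
      have hc : b₀ * h.c ∈ h.W := (f.mem_M₂.1 (hBM hb₀)).resolve_left hb₀W
      refine f.mem_Lf.2 ⟨ha.2, ?_⟩
      have e1 : Commute a b₀ := hB.comm a ha.1 b₀ hb₀
      have e2 : Commute a (b₀ * h.c) := f.W_comm ha.2 hc
      have e3 := e1.inv_right.mul_right e2
      rwa [inv_mul_cancel_left] at e3
    have := Subgroup.card_le_of_le hle4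
    rw [f.card_Lf] at this
    omega
  · obtain ⟨bs, hbs, hbsM⟩ : ∃ b ∈ B, b ∉ f.M₂ := by
      by_contra hall
      push Not at hall
      exact hBM hall
    have hfree : ∀ a ∈ B, a ∈ h.Vs → a = 1 := fun a haB haV => by
      have h1 := f.outside_moves (hle hbs) hbsM haV
      rw [commute_iff_conj.2 (hB.comm bs hbs a haB)] at h1
      exact f.Vs_Us haV h1
    by_cases hex : ∃ bc ∈ B ⊓ f.M₂, bc ∉ h.W
    · obtain ⟨bc, hbc, hbcW⟩ := hex
      have hc : bc * h.c ∈ h.W := (f.mem_M₂.1 hbc.2).resolve_left hbcW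
      have hle4 : B ⊓ h.W ≤ f.Lf := fun a ha => by
        refine f.mem_Lf.2 ⟨ha.2, ?_⟩
        have e1 : Commute a bc := hB.comm a ha.1 bc hbc.1
        have e2 : Commute a (bc * h.c) := f.W_comm ha.2 hc
        have e3 := e1.inv_right.mul_right e2
        rwa [inv_mul_cancel_left] at e3
      have heq := Subgroup.eq_of_le_of_card_ge hle4 (by rw [f.card_Lf]; omega)
      exact h.v_ne (hfree _ (heq.ge f.v_mem_Lf).1 h.v_mem)
    · push Not at hex
      have e : B ⊓ f.M₂ ≤ B ⊓ h.W := fun a ha => ⟨ha.1, hex a ha⟩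
      have h8' : 8 ≤ Nat.card (B ⊓ h.W : Subgroup G) := h8.trans (Subgroup.card_le_of_le e)
      have hdec : ∀ x : (B ⊓ h.W : Subgroup G), ∃ b : h.Vs, ∃ a ∈ h.Vs,
          (x : G) = a * (f.s * (b : G) * f.s⁻¹) := fun x => by
        obtain ⟨a, ha, b, hb, e⟩ := f.decomp x x.2.2
        exact ⟨⟨b, hb⟩, a, ha, e⟩
      choose φ a haV he using hdec
      have hinj : Function.Injective φ := fun x y e => by
        refine Subtype.ext ?_
        have hxy : (x : G) * (y : G)⁻¹ = a x * (a y)⁻¹ := by rw [he x, he y, e]; group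
        have h1 := hfree ((x : G) * (y : G)⁻¹) (mul_mem x.2.1 (inv_mem y.2.1))
          (hxy ▸ mul_mem (haV x) (inv_mem (haV y)))
        exact mul_inv_eq_one.1 h1
      have := Nat.card_le_card_of_injective φ hinj
      rw [h.card_Vs] at this
      omega

/-- `W⟨c, s⟩` is a Sylow 2-subgroup. -/
theorem exists_sylow_two : ∃ P : Sylow 2 G, (P : Subgroup G) = f.S₂ := by
  haveI : Fact (Nat.Prime 2) := ⟨Nat.prime_two⟩
  obtain ⟨P, hP⟩ := f.S₂_isPGroup.exists_le_sylow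
  refine ⟨P, by_contra fun hne => ?_⟩
  haveI : Group.IsNilpotent (P : Subgroup G) := P.isPGroup'.isNilpotent
  have hlt : f.S₂.subgroupOf P < ⊤ :=
    lt_top_iff_ne_top.2 fun e => hne (le_antisymm (Subgroup.subgroupOf_eq_top.1 e) hP)
  obtain ⟨g, hg, hgn⟩ := SetLike.exists_of_lt (Group.normalizerCondition_of_isNilpotent _ hlt)
  rw [← Subgroup.subgroupOf_normalizer_eq hP] at hg
  have hgS : Subgroup.zpowers (g : G) ≤ Subgroup.normalizer (f.S₂ : Set G) :=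
    Subgroup.zpowers_le.2 hg
  have hgN : (g : G) ∈ h.N := by
    refine conj_mem_normalizer fun x hx => ?_
    have hsub : h.W.map (MulAut.conj (g : G)).toMonoidHom ≤ f.S₂ := by
      rintro _ ⟨y, hy, rfl⟩
      exact (Subgroup.mem_normalizer_iff.1 hg y).1 (f.M₂_le_S₂ (f.W_le_M₂ hy))
    rw [← f.sixteen_unique (f.isSixteen_W.map (g : G)) hsub]
    exact ⟨x, hx, rfl⟩
  have hp : IsPGroup 2 (f.S₂ ⊔ Subgroup.zpowers (g : G) : Subgroup G) :=
    f.S₂_isPGroup.to_sup_of_normal_left' (P.isPGroup'.to_le (Subgroup.zpowers_le.2 g.2)) hgS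
  have he : f.S₂ = f.S₂ ⊔ Subgroup.zpowers (g : G) :=
    Subgroup.eq_of_le_of_card_ge le_sup_left (by
      rw [f.card_S₂]
      exact f.two_part_le hp (sup_le f.S₂_le_N (Subgroup.zpowers_le.2 hgN)))
  refine hgn (Subgroup.mem_subgroupOf.2 ?_)
  rw [he]
  exact Subgroup.mem_sup_right (Subgroup.mem_zpowers _)

/-- `u` is conjugate to `e`. -/
theorem u_conj_e : IsConj h.u f.e := by
  obtain ⟨P, hP⟩ := f.exists_sylow_two
  have hu : orderOf h.u = 2 := orderOf_eq_prime (by rw [pow_two, h.u_sq]) h.u_ne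
  obtain ⟨g, hg⟩ := CfsgLib.Small.thompson_transfer_sylow h.no_index_two P f.M₂
    (hP ▸ f.M₂_le_S₂) (by rw [hP]; exact adjoinSqrt_relIndex f.s_not_M₂) hu
  obtain ⟨x, hx⟩ : ∃ x, x = g⁻¹ * h.u * g := ⟨_, rfl⟩
  have hx2 : x * x = 1 := hx ▸ conj_sq h.u_sq
  have hx1 : x ≠ 1 := hx ▸ conj_ne h.u_ne
  have hnT : ¬ h.Tt x := fun ht => h.t_not_u (by
    have := h.tt_conj (g := g) ht
    rwa [hx, show g * (g⁻¹ * h.u * g) * g⁻¹ = h.u by group] at this)
  rw [← hx] at hg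
  rcases f.mem_M₂.1 hg with e | e
  · rcases f.W_mixed e with e' | e' | ⟨d, -, e'⟩
    · exact absurd (h.tt_Vs e' hx1) hnT
    · obtain ⟨b, hb, rfl⟩ := f.mem_Us.1 e'
      exact absurd (f.tt_six hb fun e2 => hx1 (by rw [e2]; group)) hnT
    · exact isConj_iff.2 ⟨d * g⁻¹, by rw [← e', hx]; group⟩
  · refine absurd ?_ hnT
    have := f.tt_Wc e (by rw [mul_assoc x, h.c_sq, mul_one]; exact hx2)
    rwa [mul_assoc x, h.c_sq, mul_one] at this

end Frame

end CfsgLib.AltEightLocal
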