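import Cfsg.Agent.AltEightLocal.Transitive
import Cfsg.Agent.AltEightLocal.Perm4

/-!
The stabilisers of the points of `W` when `N(W)` is transitive, and the fixed points of the
involutions outside `W`.
-/

set_option autoImplicit false
set_option linter.style.haveILetI false

namespace CfsgLib.AltEightLocal

open Equiv

variable {G : Type*} [Group G]

theorem pow_three_self {a : G} (ha : a ^ 3 = 1) {b : G} {i : ℕ} (hi : i % 3 ≠ 0)
    (hc : Commute (a ^ i) b) : Commute a b := by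
  have h := hc.pow_left i
  have e : a ^ (i * i) = a := by
    rw [pow_eq_pow_mod (i * i) ha, Nat.mul_mod]
    have : i % 3 = 1 ∨ i % 3 = 2 := by omega
    rcases this with e | e <;> rw [e] <;> norm_num
  rwa [← pow_mul, e] at h

namespace Hyp

variable (h : Hyp G) [Finite G]
include h

theorem conj_St {n x g : G} (hn : n ∈ h.N) (hx : n * h.v * n⁻¹ = x) (hg : g ∈ h.St x) :
    n⁻¹ * g * n ∈ h.St h.v := by
  obtain ⟨hgN, hgx⟩ := h.mem_St.1 hg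
  refine h.mem_St.2 ⟨mul_mem (mul_mem (inv_mem hn) hgN) hn, ?_⟩
  calc n⁻¹ * g * n * h.v = n⁻¹ * (g * (n * h.v * n⁻¹)) * n := by group
    _ = n⁻¹ * (n * h.v * n⁻¹ * g) * n := by rw [hx, hgx]
    _ = _ := by group

theorem St_conj {n x g : G} (hn : n ∈ h.N) (hx : n * h.v * n⁻¹ = x) (hg : g ∈ h.St h.v) :
    n * g * n⁻¹ ∈ h.St x := by
  obtain ⟨hgN, hgv⟩ := h.mem_St.1 hg
  refine h.mem_St.2 ⟨mul_mem (mul_mem hn hgN) (inv_mem hn), ?_⟩
  rw [← hx]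
  calc n * g * n⁻¹ * (n * h.v * n⁻¹) = n * (g * h.v) * n⁻¹ := by group
    _ = _ := by rw [hgv]; group

end Hyp

namespace Frame

variable {h : Hyp G} [Finite G] (f : Frame h)
include f

/-- The points of `W` fixed by `w`. -/
theorem mem_U {g : G} (hg : g ∈ h.W) (hgw : g * h.w = h.w * g) :
    ∃ b ∈ h.Vs, g = f.s * b * f.s⁻¹ := by
  obtain ⟨a, ha, b, hb, rfl⟩ := f.decomp g hg
  refine ⟨b, hb, ?_⟩
  have h2 : Commute a h.w := by
    have e1 : Commute (a * (f.s * b * f.s⁻¹)) h.w := hgw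
    have e2 : Commute (f.s * b * f.s⁻¹) h.w := f.fix_w hb
    have e3 := e1.mul_left e2.inv_left
    rwa [mul_inv_cancel_right] at e3
  rw [f.eq_one_of_both (h.Vs_le_W ha) (h.Vs_z ha) h2, one_mul]

/-- No element of `D` other than the identity fixes `e`. -/
theorem D_St_e {d : G} (hd : d ∈ h.D) (hde : d * f.e = f.e * d) : d = 1 := by
  obtain ⟨i, j, rfl⟩ := h.grid hd
  have hwv : h.w ^ (j : ℕ) * h.v * (h.w ^ (j : ℕ))⁻¹ ∈ h.Vs := by
    have : ∀ k : ℕ, h.w ^ k * h.v * (h.w ^ k)⁻¹ ∈ h.Vs := by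
      intro k
      induction k with
      | zero => simpa using h.v_mem
      | succ k ih =>
        have := (h.Vs_conj_w ih).2
        rwa [show h.w * (h.w ^ k * h.v * (h.w ^ k)⁻¹) * h.w⁻¹ =
          h.w ^ (k + 1) * h.v * (h.w ^ (k + 1))⁻¹ by rw [pow_succ']; group] at this
    exact this _
  have hzv : h.z ^ (i : ℕ) * (h.w ^ (j : ℕ) * h.v * (h.w ^ (j : ℕ))⁻¹) * (h.z ^ (i : ℕ))⁻¹ =
      h.w ^ (j : ℕ) * h.v * (h.w ^ (j : ℕ))⁻¹ := commute_iff_conj.2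
    ((show Commute (h.w ^ (j : ℕ) * h.v * (h.w ^ (j : ℕ))⁻¹) h.z from h.Vs_z hwv).symm.pow_left _).eq
  have hww : h.w ^ (j : ℕ) * f.w₁ * (h.w ^ (j : ℕ))⁻¹ = f.w₁ := f.w_pow_U h.v_mem _
  have hzu : ∃ b ∈ h.Vs, h.z ^ (i : ℕ) * f.w₁ * (h.z ^ (i : ℕ))⁻¹ = f.s * b * f.s⁻¹ := by
    refine f.mem_U (h.N_conj (pow_mem (h.D_le_N h.z_mem) _) f.w₁_mem).1 ?_
    have e1 : Commute (h.z ^ (i : ℕ)) h.w := (show Commute h.z h.w from h.zw_comm).pow_left _
    have e2 : Commute f.w₁ h.w := f.fix_w h.v_mem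
    exact ((e1.mul_left e2).mul_left e1.inv_left).eq
  obtain ⟨b, hb, hbe⟩ := hzu
  have he : h.w ^ (j : ℕ) * h.v * (h.w ^ (j : ℕ))⁻¹ * (f.s * b * f.s⁻¹) =
      h.v * (f.s * h.v * f.s⁻¹) := by
    rw [← hbe]
    calc _ = (h.z ^ (i : ℕ) * (h.w ^ (j : ℕ) * h.v * (h.w ^ (j : ℕ))⁻¹) * (h.z ^ (i : ℕ))⁻¹) *
          (h.z ^ (i : ℕ) * (h.w ^ (j : ℕ) * f.w₁ * (h.w ^ (j : ℕ))⁻¹) * (h.z ^ (i : ℕ))⁻¹) := by
          rw [hzv, hww]
      _ = h.z ^ (i : ℕ) * h.w ^ (j : ℕ) * f.e * (h.z ^ (i : ℕ) * h.w ^ (j : ℕ))⁻¹ := by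
          show _ = h.z ^ (i : ℕ) * h.w ^ (j : ℕ) * (h.v * f.w₁) * _
          group
      _ = f.e := commute_iff_conj.2 hde
      _ = _ := rfl
  obtain ⟨e1, e2⟩ := f.decomp_unique hwv h.v_mem hb h.v_mem he
  have hj : (j : ℕ) % 3 = 0 := by
    by_contra hne
    have hc : Commute h.w h.v := pow_three_self h.w_cube hne (commute_iff_conj.1 e1)
    rw [← h.w_eq] at hc
    exact (show cyc * vee ≠ vee * cyc by decide +kernel) (h.L.inj (by
      rw [map_mul, map_mul]; exact hc.eq))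
  have hi : (i : ℕ) % 3 = 0 := by
    by_contra hne
    have hc : Commute h.z f.w₁ := pow_three_self h.z_cube hne (commute_iff_conj.1 (by
      rw [hbe, e2]))
    exact f.w₁_ne (f.eq_one_of_both f.w₁_mem hc.symm.eq (f.fix_w h.v_mem))
  rw [show (i : ℕ) = 0 by omega, show (j : ℕ) = 0 by omega, pow_zero, pow_zero, one_mul]

/-- The fixed points of `c` on `W`. -/
noncomputable def Lf (_f : Frame h) : Subgroup G := h.W ⊓ Subgroup.centralizer ({h.c} : Set G)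

theorem mem_Lf {x : G} : x ∈ f.Lf ↔ x ∈ h.W ∧ x * h.c = h.c * x := by
  rw [Lf, Subgroup.mem_inf, Subgroup.mem_centralizer_singleton_iff]

theorem Lf_cases {x : G} (hx : x ∈ f.Lf) : x = 1 ∨ x = h.v ∨ x = f.w₁ ∨ x = f.e :=
  f.fix_c (f.mem_Lf.1 hx).1 (f.mem_Lf.1 hx).2.symm

theorem v_mem_Lf : h.v ∈ f.Lf := f.mem_Lf.2 ⟨h.Vs_le_W h.v_mem, h.c_v.symm⟩

theorem w₁_mem_Lf : f.w₁ ∈ f.Lf := f.mem_Lf.2 ⟨f.w₁_mem, f.c_w₁.symm⟩

theorem e_mem_Lf : f.e ∈ f.Lf := mul_mem f.v_mem_Lf f.w₁_mem_Lf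

theorem card_Lf : Nat.card f.Lf = 4 := by
  classical
  have hset : (f.Lf : Set G) = (({1, h.v, f.w₁, f.e} : Finset G) : Set G) := by
    ext x
    simp only [SetLike.mem_coe, Finset.coe_insert, Finset.coe_singleton, Set.mem_insert_iff,
      Set.mem_singleton_iff]
    refine ⟨f.Lf_cases, ?_⟩
    rintro (e | e | e | e) <;> subst e
    exacts [one_mem _, f.v_mem_Lf, f.w₁_mem_Lf, f.e_mem_Lf]
  show Nat.card (f.Lf : Set G) = 4
  rw [hset, Nat.card_coe_set_eq, Set.ncard_coe_finset, Finset.card_insert_of_notMem,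
    Finset.card_insert_of_notMem, Finset.card_pair]
  · exact fun e => h.v_ne (mul_eq_right.1 e.symm)
  · simp only [Finset.mem_insert, Finset.mem_singleton, not_or]
    exact ⟨f.v_ne_w₁, f.e_ne_v.symm⟩
  · simp only [Finset.mem_insert, Finset.mem_singleton, not_or]
    exact ⟨h.v_ne.symm, f.w₁_ne.symm, f.e_ne.symm⟩

theorem fix_conj_Wc {m y a : G} (hm : m ∈ h.N) (hy : y ∈ h.W) :
    (a ∈ h.W ∧ a * (m * (y * h.c) * m⁻¹) = m * (y * h.c) * m⁻¹ * a) ↔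
      m⁻¹ * a * m ∈ f.Lf := by
  have key : a * (m * (y * h.c) * m⁻¹) = m * (y * h.c) * m⁻¹ * a ↔
      m⁻¹ * a * m * (y * h.c) = y * h.c * (m⁻¹ * a * m) := by
    constructor <;> intro e
    · calc m⁻¹ * a * m * (y * h.c) = m⁻¹ * (a * (m * (y * h.c) * m⁻¹)) * m := by group
        _ = m⁻¹ * (m * (y * h.c) * m⁻¹ * a) * m := by rw [e]
        _ = _ := by group
    · calc a * (m * (y * h.c) * m⁻¹) = m * (m⁻¹ * a * m * (y * h.c)) * m⁻¹ := by group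
        _ = m * (y * h.c * (m⁻¹ * a * m)) * m⁻¹ := by rw [e]
        _ = _ := by group
  rw [key]
  constructor
  · rintro ⟨ha, e⟩
    have hb := (h.N_conj hm ha).2
    refine f.mem_Lf.2 ⟨hb, ?_⟩
    rw [← mul_assoc, f.W_comm hb hy, mul_assoc y (m⁻¹ * a * m) h.c, mul_assoc y h.c] at e
    exact mul_left_cancel e
  · intro hb
    obtain ⟨hbW, hbc⟩ := f.mem_Lf.1 hb
    refine ⟨?_, ?_⟩
    · have := (h.N_conj hm hbW).1
      rwa [show m * (m⁻¹ * a * m) * m⁻¹ = a by group] at this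
    · rw [← mul_assoc, f.W_comm hbW hy, mul_assoc, hbc, ← mul_assoc]

/-- The fixed points of a conjugate of an element of `W c`. -/
theorem fix_conj_eq {m y : G} (hm : m ∈ h.N) (hy : y ∈ h.W) :
    h.W ⊓ Subgroup.centralizer ({m * (y * h.c) * m⁻¹} : Set G) =
      f.Lf.map (MulAut.conj m).toMonoidHom := by
  ext a
  rw [Subgroup.mem_inf, Subgroup.mem_centralizer_singleton_iff, f.fix_conj_Wc hm hy]
  constructor
  · intro ha
    exact ⟨_, ha, by show m * (m⁻¹ * a * m) * m⁻¹ = a; group⟩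
  · rintro ⟨b, hb, rfl⟩
    show m⁻¹ * (m * b * m⁻¹) * m ∈ f.Lf
    rwa [conj_cancel]

theorem tt_conj_Wc {m y : G} (hy : y ∈ h.W)
    (hsq : m * (y * h.c) * m⁻¹ * (m * (y * h.c) * m⁻¹) = 1) :
    h.Tt (m * (y * h.c) * m⁻¹) := by
  refine h.tt_conj (f.tt_Wc hy ?_)
  rw [← conj_mul3] at hsq
  exact conj_eq_one_iff.1 hsq

variable {f}

/-- The stabiliser of a point of `W` induces `S₄`, and an involution with a fixed point among the
four lines is conjugate into `W c`. -/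
theorem exists_perm_at (hT : f.Trans) {x : G} (hx : x ∈ h.W) (hx1 : x ≠ 1) :
    ∃ ψ : h.St x →* Perm (Fin 4), Function.Surjective ψ ∧ (∀ g, ψ g = 1 ↔ (g : G) ∈ h.W) ∧
      ∀ g : h.St x, (g : G) * (g : G) = 1 → (g : G) ∉ h.W → (∃ i, ψ g i = i) →
        ∃ m ∈ h.N, ∃ y ∈ h.W, (g : G) = m * (y * h.c) * m⁻¹ := by
  obtain ⟨ψ, hsurj, hker, hzero⟩ := exists_perm hT
  obtain ⟨n, hn, hnx⟩ := move hT hx hx1
  let φ : h.St x →* h.St h.v :=
    { toFun := fun g => ⟨n⁻¹ * (g : G) * n, h.conj_St hn hnx g.2⟩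
      map_one' := Subtype.ext (by simp)
      map_mul' := fun a b => Subtype.ext (by
        show n⁻¹ * ((a : G) * (b : G)) * n = n⁻¹ * (a : G) * n * (n⁻¹ * (b : G) * n)
        group) }
  refine ⟨ψ.comp φ, ?_, fun g => ?_, ?_⟩
  · intro p
    obtain ⟨g, rfl⟩ := hsurj p
    refine ⟨⟨n * (g : G) * n⁻¹, h.St_conj hn hnx g.2⟩, congrArg ψ (Subtype.ext ?_)⟩
    show n⁻¹ * (n * (g : G) * n⁻¹) * n = g
    group
  · show ψ (φ g) = 1 ↔ _
    rw [hker]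
    show n⁻¹ * (g : G) * n ∈ h.W ↔ _
    refine ⟨fun e => ?_, fun e => (h.N_conj hn e).2⟩
    have := (h.N_conj hn e).1
    rwa [show n * (n⁻¹ * (g : G) * n) * n⁻¹ = g by group] at this
  · intro g hg2 hgW hfix
    have hp2 : ψ (φ g) * ψ (φ g) = 1 := by
      rw [← map_mul, ← map_mul,
        show g * g = 1 from Subtype.ext hg2, map_one, map_one]
    have hp1 : ψ (φ g) ≠ 1 := fun e => hgW (by
      have := (h.N_conj hn ((hker _).1 e)).1
      change n * (n⁻¹ * (g : G) * n) * n⁻¹ ∈ h.W at this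
      rwa [show n * (n⁻¹ * (g : G) * n) * n⁻¹ = g by group] at this)
    obtain ⟨τ, hτ⟩ : ∃ τ, τ = ψ ⟨h.c, c_mem_St⟩ := ⟨_, rfl⟩
    obtain ⟨r, hr⟩ := p4_flat _ hp2 hp1 hfix τ
      (by rw [hτ, ← map_mul, ← map_one ψ]; exact congrArg ψ (Subtype.ext h.c_sq))
      (fun e => f.c_not_W ((hker _).1 (hτ ▸ e)))
      (by
        rw [hτ, hzero, f.mem_Flag]
        show h.c * h.v' * h.c⁻¹ ∈ h.Vs
        rw [h.c_inv]; exact h.Vs_conj_c h.v'_mem)
    obtain ⟨k, rfl⟩ := hsurj r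
    obtain ⟨y, hy⟩ : ∃ y, y = (k : G) * (n⁻¹ * (g : G) * n) * (k : G)⁻¹ * h.c⁻¹ := ⟨_, rfl⟩
    have hyW : y ∈ h.W := by
      rw [hy]
      refine (hker (k * φ g * k⁻¹ * (⟨h.c, c_mem_St⟩)⁻¹)).1 ?_
      rw [map_mul, map_mul, map_mul, map_inv, map_inv, hr, hτ, mul_inv_cancel]
    refine ⟨n * (k : G)⁻¹, mul_mem hn (inv_mem (h.mem_St.1 k.2).1), y, hyW, ?_⟩
    rw [hy]; group

end Frame

end CfsgLib.AltEightLocal
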