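import Cfsg.Agent.AltEightLocal.TransBase

/-!
If `s = u` then `N(W)` is not transitive on `W ∖ 1`.
-/

set_option autoImplicit false
set_option linter.style.haveILetI false

namespace CfsgLib.AltEightLocal

open Equiv

variable {G : Type*} [Group G]

namespace Frame

variable {h : Hyp G} [Finite G] (f : Frame h)
include f

/-- The diagonal element `a * s a s⁻¹`. -/
abbrev diagU (a : G) : G := a * (f.s * a * f.s⁻¹)

theorem diagU_mem {a : G} (ha : a ∈ h.Vs) : f.diagU a ∈ h.W :=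
  mul_mem (h.Vs_le_W ha) (f.s_mem a ha)

theorem diagU_mul {a b : G} (ha : a ∈ h.Vs) (hb : b ∈ h.Vs) :
    f.diagU (a * b) = f.diagU a * f.diagU b := by
  show a * b * (f.s * (a * b) * f.s⁻¹) = a * (f.s * a * f.s⁻¹) * (b * (f.s * b * f.s⁻¹))
  rw [conj_mul3, mul_assoc a b, ← mul_assoc b, f.W_comm (h.Vs_le_W hb) (f.s_mem a ha)]
  group

theorem diagU_inj {a b : G} (ha : a ∈ h.Vs) (hb : b ∈ h.Vs) (e : f.diagU a = f.diagU b) : a = b :=
  (f.decomp_unique ha hb ha hb e).1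

theorem diagU_c {a : G} : h.c * f.diagU a * h.c⁻¹ = f.diagU (h.c * a * h.c) := by
  have h1 : h.c * f.s = f.s * h.c := f.s_c.symm
  have h2 : f.s⁻¹ * h.c = h.c * f.s⁻¹ := (Commute.inv_left (show Commute f.s h.c from f.s_c)).eq
  show h.c * (a * (f.s * a * f.s⁻¹)) * h.c⁻¹ = h.c * a * h.c * (f.s * (h.c * a * h.c) * f.s⁻¹)
  calc h.c * (a * (f.s * a * f.s⁻¹)) * h.c⁻¹
      = (h.c * a * h.c⁻¹) * ((h.c * f.s) * a * (f.s⁻¹ * h.c⁻¹)) := by group
    _ = (h.c * a * h.c) * ((f.s * h.c) * a * (h.c * f.s⁻¹)) := by rw [h.c_inv, h1, h2]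
    _ = _ := by group

/-- The case `s = u`. -/
theorem not_trans_of_eq_u (hT : f.Trans) (hs : f.s = h.u) : False := by
  classical
  have hs2 : f.s * f.s = 1 := by rw [hs, h.u_sq]
  have hsI : f.s⁻¹ = f.s := inv_eq_of_mul_eq_one_right hs2
  have hse : f.s * f.e = f.e * f.s := commute_iff_conj.1 f.s_e
  have hsSt : f.s ∈ h.St f.e := h.mem_St.2 ⟨f.s_mem_N, hse⟩
  have hce : h.c * f.e = f.e * h.c := (f.mem_Lf.1 f.e_mem_Lf).2.symm
  have hcSt : h.c ∈ h.St f.e := h.mem_St.2 ⟨c_norm, hce⟩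
  have hW_St : h.W ≤ h.St f.e := f.W_le_St f.e_mem
  have hs_v : ¬ Commute f.s h.v := fun e => f.v_ne_w₁ (commute_iff_conj.2 e.eq).symm
  have hsW : f.s ∉ h.W := fun e => hs_v (h.W_Vs e h.v_mem)
  obtain ⟨ψ, hsurj, hker, hflat⟩ := exists_perm_at hT f.e_mem f.e_ne
  -- congruence modulo `W`
  have hmodW : ∀ a b : h.St f.e, ψ a = ψ b ↔ (a : G)⁻¹ * (b : G) ∈ h.W := fun a b => by
    rw [← inv_mul_eq_one, ← map_inv, ← map_mul, hker, Subgroup.coe_mul, Subgroup.coe_inv]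
  obtain ⟨p, hp⟩ : ∃ p, p = ψ ⟨f.s, hsSt⟩ := ⟨_, rfl⟩
  obtain ⟨q, hq⟩ : ∃ q, q = ψ ⟨h.c, hcSt⟩ := ⟨_, rfl⟩
  have hp2 : p * p = 1 := by
    rw [hp, ← map_mul, ← map_one ψ]; exact congrArg ψ (Subtype.ext hs2)
  have hp1 : p ≠ 1 := fun e => hsW ((hker _).1 (hp ▸ e))
  have hpd : ∀ x, p x ≠ x := by
    intro x hx
    obtain ⟨m, hm, y, hy, e⟩ := hflat ⟨f.s, hsSt⟩ hs2 hsW ⟨x, hp ▸ hx⟩
    refine h.t_not_u ?_
    rw [← hs, show f.s = m * (y * h.c) * m⁻¹ from e]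
    exact f.tt_conj_Wc hy (by rw [← show f.s = m * (y * h.c) * m⁻¹ from e]; exact hs2)
  have hq1 : q ≠ 1 := fun e => f.c_not_W ((hker _).1 (hq ▸ e))
  have hqp : q * p = p * q := by
    rw [hp, hq, ← map_mul, ← map_mul]; exact congrArg ψ (Subtype.ext f.s_c.symm)
  have hqnep : q ≠ p := by
    intro e
    rw [hp, hq, hmodW] at e
    have e1 : Commute (h.c⁻¹ * f.s) h.v := h.W_Vs e h.v_mem
    have e2 : Commute h.c h.v := h.c_v
    refine hs_v ?_
    have := e2.mul_left e1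
    rwa [mul_inv_cancel_left] at this
  -- `g` fixes the points of `W` fixed by `s`
  have hperm : ∀ g : h.St f.e, ψ g * p = p * ψ g → ∀ a ∈ h.Vs,
      ∃ b ∈ h.Vs, (g : G) * f.diagU a * (g : G)⁻¹ = f.diagU b := by
    intro g hg a ha
    obtain ⟨y, hy⟩ : ∃ y, y = (g : G)⁻¹ * f.s * (g : G) * f.s⁻¹ := ⟨_, rfl⟩
    have hyW : y ∈ h.W := by
      rw [hy]
      refine (hker (g⁻¹ * ⟨f.s, hsSt⟩ * g * (⟨f.s, hsSt⟩)⁻¹)).1 ?_
      rw [map_mul, map_mul, map_mul, map_inv, map_inv, ← hp, mul_assoc (ψ g)⁻¹ p (ψ g), ← hg]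
      group
    have hfx : f.s * f.diagU a * f.s⁻¹ = f.diagU a := by
      show f.s * (a * (f.s * a * f.s⁻¹)) * f.s⁻¹ = a * (f.s * a * f.s⁻¹)
      rw [conj_mul3, show f.s * (f.s * a * f.s⁻¹) * f.s⁻¹ = (f.s * f.s) * a * (f.s * f.s)⁻¹ by
        group, hs2, one_mul, inv_one, mul_one, f.W_comm (f.s_mem a ha) (h.Vs_le_W ha)]
    have hfy : y * f.diagU a * y⁻¹ = f.diagU a :=
      commute_iff_conj.2 (f.W_comm hyW (f.diagU_mem ha))
    obtain ⟨x, hx⟩ : ∃ x, x = (g : G) * f.diagU a * (g : G)⁻¹ := ⟨_, rfl⟩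
    have hxW : x ∈ h.W := hx ▸ (h.N_conj (h.mem_St.1 g.2).1 (f.diagU_mem ha)).1
    have hsx : f.s * x * f.s⁻¹ = x := by
      calc f.s * x * f.s⁻¹ = (g : G) * (y * (f.s * f.diagU a * f.s⁻¹) * y⁻¹) * (g : G)⁻¹ := by
            rw [hx, hy]; group
        _ = x := by rw [hfx, hfy, hx]
    obtain ⟨a', ha', b', hb', e⟩ := f.decomp x hxW
    refine ⟨a', ha', ?_⟩
    rw [← hx, e]
    have e2 : b' * (f.s * a' * f.s⁻¹) = a' * (f.s * b' * f.s⁻¹) := by
      rw [← e]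
      calc b' * (f.s * a' * f.s⁻¹) = (f.s * a' * f.s⁻¹) * b' := by
            rw [f.W_comm (h.Vs_le_W hb') (f.s_mem a' ha')]
        _ = f.s * (a' * (f.s * b' * f.s⁻¹)) * f.s⁻¹ := by
            rw [conj_mul3, show f.s * (f.s * b' * f.s⁻¹) * f.s⁻¹ =
              (f.s * f.s) * b' * (f.s * f.s)⁻¹ by group, hs2, one_mul, inv_one, mul_one]
        _ = x := by rw [← e, hsx]
    show a' * (f.s * b' * f.s⁻¹) = a' * (f.s * a' * f.s⁻¹)
    rw [(f.decomp_unique hb' ha' ha' hb' e2).1]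
  obtain ⟨Fix, hFix⟩ : ∃ Fix : G → Prop,
      ∀ g, Fix g ↔ g * f.diagU h.v' * g⁻¹ = f.diagU h.v' := ⟨_, fun _ => Iff.rfl⟩
  have hFix_all : ∀ g : h.St f.e, Fix g → ∀ a ∈ h.Vs,
      (g : G) * f.diagU a * (g : G)⁻¹ = f.diagU a := by
    intro g hg a ha
    have hge : (g : G) * f.e * (g : G)⁻¹ = f.e := commute_iff_conj.2 (h.mem_St.1 g.2).2
    rcases h.Vs_cases ha with e | e | e | e <;> subst e
    · simp [diagU]
    · exact hge
    · exact (hFix _).1 hg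
    · rw [f.diagU_mul h.v_mem h.v'_mem, conj_mul3, (hFix _).1 hg]
      show (g : G) * f.e * (g : G)⁻¹ * _ = f.e * _
      rw [hge]
  have hFix_mul : ∀ a b : G, Fix a → Fix b → Fix (a * b) := fun a b ha hb => by
    rw [hFix] at ha hb ⊢
    calc a * b * f.diagU h.v' * (a * b)⁻¹ = a * (b * f.diagU h.v' * b⁻¹) * a⁻¹ := by group
      _ = _ := by rw [hb, ha]
  have hFix_inv : ∀ a : G, Fix a → Fix a⁻¹ := fun a ha => by
    rw [hFix] at ha ⊢
    calc a⁻¹ * f.diagU h.v' * a⁻¹⁻¹ = a⁻¹ * (a * f.diagU h.v' * a⁻¹) * a := by rw [ha, inv_inv]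
      _ = _ := by group
  have hFix_s : Fix f.s := by
    rw [hFix]
    show f.s * (h.v' * (f.s * h.v' * f.s⁻¹)) * f.s⁻¹ = h.v' * (f.s * h.v' * f.s⁻¹)
    rw [conj_mul3, show f.s * (f.s * h.v' * f.s⁻¹) * f.s⁻¹ = (f.s * f.s) * h.v' * (f.s * f.s)⁻¹ by
      group, hs2, one_mul, inv_one, mul_one, f.W_comm (f.s_mem _ h.v'_mem) (h.Vs_le_W h.v'_mem)]
  have hFix_W : ∀ y ∈ h.W, Fix y := fun y hy =>
    (hFix y).2 (commute_iff_conj.2 (f.W_comm hy (f.diagU_mem h.v'_mem)))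
  have hnotc : ¬ Fix h.c := fun e => by
    rw [hFix, f.diagU_c] at e
    exact c_v'_ne (f.diagU_inj (h.Vs_conj_c h.v'_mem) h.v'_mem e)
  -- the images of the elements fixing `C_W(s)`
  have hnq : ∀ g : h.St f.e, Fix g → ψ g ≠ q ∧ ψ g ≠ q * p := by
    intro g hg
    have key : ∀ g : h.St f.e, Fix g → ψ g ≠ q := by
      intro g hg e
      rw [hq, hmodW] at e
      refine hnotc ?_
      have := hFix_mul _ _ hg (hFix_W _ e)
      rwa [mul_inv_cancel_left] at this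
    refine ⟨key g hg, fun e => key (g * ⟨f.s, hsSt⟩) (hFix_mul _ _ hg hFix_s) ?_⟩
    rw [map_mul, e, ← hp, mul_assoc, hp2, mul_one]
  -- an element fixing `C_W(s)` and inducing a new permutation
  obtain ⟨r, hrp, hr1, hr2, hr3, hr4⟩ := p4_extra p hp2 hpd q hqp
  obtain ⟨k, hk⟩ := hsurj r
  obtain ⟨g, hgF, hgp, hg1, hg2⟩ : ∃ g : h.St f.e, Fix g ∧ ψ g * p = p * ψ g ∧ ψ g ≠ 1 ∧ ψ g ≠ p := by
    obtain ⟨b, hb, hkb⟩ := hperm k (by rw [hk, hrp]) _ h.v'_mem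
    have hke : (k : G) * f.e * (k : G)⁻¹ = f.e := commute_iff_conj.2 (h.mem_St.1 k.2).2
    rcases h.Vs_cases hb with e | e | e | e <;> subst e
    · exfalso
      refine f.mixed_ne h.v'_mem h.v'_mem (Or.inl h.v'_ne) ((conj_eq_one_iff (a := (k : G))).1 ?_)
      rw [hkb]; simp [diagU]
    · exact absurd (f.diagU_inj h.v'_mem h.v_mem (conj_inj (hkb.trans hke.symm))) h.v'_ne_v
    · exact ⟨k, (hFix _).2 hkb, by rw [hk, hrp], hk ▸ hr1, hk ▸ hr2⟩
    · have hkc : (k : G) * f.diagU (h.v * h.v') * (k : G)⁻¹ = f.diagU h.v' := by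
        rw [f.diagU_mul h.v_mem h.v'_mem, conj_mul3, hkb, f.diagU_mul h.v_mem h.v'_mem,
          show (k : G) * f.diagU h.v * (k : G)⁻¹ = f.diagU h.v from hke, ← mul_assoc,
          f.W_sq (f.diagU_mem h.v_mem), one_mul]
      refine ⟨k * ⟨h.c, hcSt⟩, (hFix _).2 ?_, ?_, ?_, ?_⟩
      · rw [Subgroup.coe_mul]
        calc (k : G) * h.c * f.diagU h.v' * ((k : G) * h.c)⁻¹
            = (k : G) * (h.c * f.diagU h.v' * h.c⁻¹) * (k : G)⁻¹ := by group
          _ = _ := by rw [f.diagU_c, h.c_v', ← h.Vs_comm h.v_mem h.v'_mem, hkc]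
      · rw [map_mul, hk, ← hq, mul_assoc, hqp, ← mul_assoc, hrp, mul_assoc]
      · rw [map_mul, hk, ← hq]
        intro e
        exact hr3 (by
          rw [mul_eq_one_iff_eq_inv.1 e]
          rw [hq, ← map_inv]
          exact congrArg ψ (Subtype.ext h.c_inv))
      · rw [map_mul, hk, ← hq]
        intro e
        refine hr4 ?_
        calc r = r * q * q⁻¹ := by group
          _ = p * q := by
            rw [e, show q⁻¹ = q by
              rw [hq, ← map_inv]; exact congrArg ψ (Subtype.ext h.c_inv)]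
          _ = _ := hqp.symm
  -- conjugation by `d = z * w`
  obtain ⟨d, hd⟩ : ∃ d, d = h.z * h.w := ⟨_, rfl⟩
  have hdD : d ∈ h.D := hd ▸ mul_mem h.z_mem h.w_mem
  have hds : d * f.s = f.s * d := by rw [hd, hs]; exact h.u_zw.symm
  have hdW : ∀ {x : G}, x ∈ h.W → d * x * d⁻¹ ∈ h.W := fun hx => (h.N_conj (h.D_le_N hdD) hx).1
  have hdU : ∀ a ∈ h.Vs, ∃ b ∈ h.Vs, d⁻¹ * f.diagU a * d = f.diagU b := by
    intro a ha
    obtain ⟨x, hx⟩ : ∃ x, x = d⁻¹ * f.diagU a * d := ⟨_, rfl⟩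
    have hxW : x ∈ h.W := hx ▸ (h.N_conj (h.D_le_N hdD) (f.diagU_mem ha)).2
    obtain ⟨a', ha', b', hb', e⟩ := f.decomp x hxW
    have hsx : f.s * x * f.s⁻¹ = x := by
      have h1 : Commute f.s d := hds.symm
      have h2 : f.s * f.diagU a * f.s⁻¹ = f.diagU a := by
        show f.s * (a * (f.s * a * f.s⁻¹)) * f.s⁻¹ = a * (f.s * a * f.s⁻¹)
        rw [conj_mul3, show f.s * (f.s * a * f.s⁻¹) * f.s⁻¹ = (f.s * f.s) * a * (f.s * f.s)⁻¹ by
          group, hs2, one_mul, inv_one, mul_one, f.W_comm (f.s_mem a ha) (h.Vs_le_W ha)]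
      calc f.s * x * f.s⁻¹ = (f.s * d⁻¹) * f.diagU a * (d * f.s⁻¹) := by rw [hx]; group
        _ = (d⁻¹ * f.s) * f.diagU a * (f.s⁻¹ * d) := by
            rw [h1.inv_right.eq, h1.symm.inv_right.eq]
        _ = _ := by rw [hx]; conv_rhs => rw [← h2]
                    group
    refine ⟨a', ha', ?_⟩
    have e2 : b' * (f.s * a' * f.s⁻¹) = a' * (f.s * b' * f.s⁻¹) := by
      calc b' * (f.s * a' * f.s⁻¹) = (f.s * a' * f.s⁻¹) * b' := by
            rw [f.W_comm (h.Vs_le_W hb') (f.s_mem a' ha')]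
        _ = f.s * (a' * (f.s * b' * f.s⁻¹)) * f.s⁻¹ := by
            rw [conj_mul3, show f.s * (f.s * b' * f.s⁻¹) * f.s⁻¹ =
              (f.s * f.s) * b' * (f.s * f.s)⁻¹ by group, hs2, one_mul, inv_one, mul_one]
        _ = _ := by rw [← e, hsx, e]
    rw [← hx, e]
    show a' * (f.s * b' * f.s⁻¹) = a' * (f.s * a' * f.s⁻¹)
    rw [(f.decomp_unique hb' ha' ha' hb' e2).1]
  have hFd : ∀ a ∈ h.Vs,
      (d * (g : G) * d⁻¹) * f.diagU a * (d * (g : G) * d⁻¹)⁻¹ = f.diagU a := by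
    intro a ha
    obtain ⟨b, hb, e⟩ := hdU a ha
    calc (d * (g : G) * d⁻¹) * f.diagU a * (d * (g : G) * d⁻¹)⁻¹
        = d * ((g : G) * (d⁻¹ * f.diagU a * d) * (g : G)⁻¹) * d⁻¹ := by group
      _ = _ := by rw [e, hFix_all g hgF b hb, ← e]; group
  have hg'St : d * (g : G) * d⁻¹ ∈ h.St f.e := h.mem_St.2
    ⟨mul_mem (mul_mem (h.D_le_N hdD) (h.mem_St.1 g.2).1) (inv_mem (h.D_le_N hdD)),
      commute_iff_conj.1 (hFd _ h.v_mem)⟩
  have hgW : (g : G) ∉ h.W := fun e => hg1 ((hker g).2 e)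
  have hsconj : d⁻¹ * f.s * d = f.s := by rw [mul_assoc, ← hds, inv_mul_cancel_left]
  have hline : (g : G)⁻¹ * (d * (g : G) * d⁻¹) ∈ h.W := by
    obtain ⟨r', hr'⟩ : ∃ r', r' = ψ ⟨_, hg'St⟩ := ⟨_, rfl⟩
    have hdback : ∀ {x : G}, d * x * d⁻¹ ∈ h.W → x ∈ h.W := fun {x} hx => by
      have := (h.N_conj (h.D_le_N hdD) hx).2
      rwa [conj_cancel] at this
    have h1 : r' * p = p * r' := by
      rw [hr', hp, ← map_mul, ← map_mul, hmodW]
      simp only [Subgroup.coe_mul]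
      have e0 : ((d * (g : G) * d⁻¹) * f.s)⁻¹ * (f.s * (d * (g : G) * d⁻¹)) =
          d * (((g : G) * f.s)⁻¹ * (f.s * (g : G))) * d⁻¹ := by
        calc _ = d * ((g : G) * (d⁻¹ * f.s * d))⁻¹ * ((d⁻¹ * f.s * d) * (g : G)) * d⁻¹ := by group
          _ = _ := by rw [hsconj]; group
      rw [e0]
      refine hdW ?_
      have := hgp
      rw [hp, ← map_mul, ← map_mul, hmodW] at this
      simpa using this
    have h2 : r' ≠ 1 := fun e => hgW (hdback ((hker _).1 (hr' ▸ e)))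
    have h3 : r' ≠ p := fun e => by
      rw [hr', hp, hmodW] at e
      refine hg2 (hp ▸ (hmodW _ _).2 ?_)
      show (g : G)⁻¹ * f.s ∈ h.W
      refine hdback ?_
      convert e using 1
      calc d * ((g : G)⁻¹ * f.s) * d⁻¹ = d * ((g : G)⁻¹ * (d⁻¹ * f.s * d)) * d⁻¹ := by rw [hsconj]
        _ = _ := by group
    have hF' : Fix (d * (g : G) * d⁻¹) := (hFix _).2 (hFd _ h.v'_mem)
    obtain ⟨h4, h5⟩ := hnq ⟨_, hg'St⟩ hF'
    obtain ⟨h6, h7⟩ := hnq (g * ⟨_, hg'St⟩) (hFix_mul _ _ hgF hF')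
    rw [map_mul, ← hr'] at h6 h7
    rw [← hr'] at h4 h5
    rcases p4_line p hp2 hpd q hqp hq1 hqnep (ψ g) hgp hg1 hg2 (hnq g hgF).1 (hnq g hgF).2
      r' h1 h2 h3 h4 h5 h6 h7 with e | e
    · exact (hmodW g ⟨_, hg'St⟩).1 (by rw [← hr', e])
    · exfalso
      rw [hr', hp, ← map_mul] at e
      have hm := (hmodW _ _).1 e.symm
      simp only [Subgroup.coe_mul] at hm
      obtain ⟨y, hy, hyW⟩ : ∃ y, d * (g : G) * d⁻¹ = (g : G) * f.s * y ∧ y ∈ h.W :=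
        ⟨_, by group, hm⟩
      have hd3 : d ^ 3 = 1 := h.D_cube hdD
      have hy1 := hdW hyW
      have hy2 := hdW hy1
      have hds' : d * f.s * d⁻¹ = f.s := by rw [hds, mul_inv_cancel_right]
      have e2 : d * (d * (g : G) * d⁻¹) * d⁻¹ = (g : G) * f.s * y * (f.s * (d * y * d⁻¹)) := by
        conv_lhs => rw [hy, conj_mul3, conj_mul3, hds', hy]
        group
      have e3 : (g : G) = (g : G) * f.s * y * f.s * (d * y * d⁻¹) * f.s *
          (d * (d * y * d⁻¹) * d⁻¹) := by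
        calc (g : G) = d ^ 3 * (g : G) * (d ^ 3)⁻¹ := by rw [hd3]; group
          _ = d * (d * (d * (g : G) * d⁻¹) * d⁻¹) * d⁻¹ := by
              simp only [pow_succ, pow_zero, one_mul, mul_assoc, mul_inv_rev]
          _ = _ := by
              rw [e2, conj_mul3, conj_mul3, conj_mul3, conj_mul3, hds', hy]
              group
      have e5 : f.s = (y * (f.s * (d * y * d⁻¹) * f.s⁻¹) * (d * (d * y * d⁻¹) * d⁻¹))⁻¹ := by
        refine eq_inv_of_mul_eq_one_left ?_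
        refine mul_left_cancel (a := (g : G)) ?_
        rw [mul_one]
        conv_rhs => rw [e3]
        rw [hsI]
        group
      exact hsW (by rw [e5]; exact inv_mem (mul_mem (mul_mem hyW (f.s_W hy1).1) hy2))
  -- a fixed point in the coset
  obtain ⟨A, hA⟩ : ∃ A : Subgroup G, A = Subgroup.zpowers d := ⟨_, rfl⟩
  have hd1 : d ≠ 1 := fun e => hgW (by
    have h18 := h.cy
    rw [hd] at e
    rw [e] at h18
    have h2 : Subgroup.centralizer ({(1 : G)} : Set G) = ⊤ :=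
      eq_top_iff.2 fun x _ => Subgroup.mem_centralizer_singleton_iff.2 (by simp)
    rw [h2, Subgroup.card_top] at h18
    have h3 := h.card_centralizer_z
    have := Subgroup.card_le_card_group (Subgroup.centralizer ({h.z} : Set G))
    omega)
  haveI : Fact (Nat.Prime 3) := ⟨Nat.prime_three⟩
  have hAcard : Nat.card A = 3 := by
    rw [hA, Nat.card_zpowers, orderOf_eq_prime (h.D_cube hdD) hd1]
  haveI : IsCyclic A := isCyclic_of_prime_card hAcard
  have hAW : A ≤ Subgroup.normalizer (h.W : Set G) := hA ▸ Subgroup.zpowers_le.2 (h.D_le_N hdD)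
  obtain ⟨x, hxA, hxW⟩ := Coprime.exists_fixed_mem_coset hAW
    (by rw [hAcard, f.card_W]; norm_num)
    (Or.inl inferInstance) (k := (g : G)) (by
      intro a ha
      rw [hA, ← mem_powers_iff_mem_zpowers, Submonoid.mem_powers_iff] at ha
      obtain ⟨n, rfl⟩ := ha
      induction n with
      | zero => simp
      | succ n ih =>
        have := mul_mem hline (hdW ih)
        convert this using 1
        rw [pow_succ']; group)
  have hxd : x * d = d * x :=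
    (Subgroup.mem_centralizer_iff.1 hxA d (hA ▸ Subgroup.mem_zpowers d)).symm
  have hxSt : x ∈ h.St f.e := by
    have := mul_mem g.2 (hW_St hxW)
    rwa [mul_inv_cancel_left] at this
  have hxψ : ψ g = ψ ⟨x, hxSt⟩ := (hmodW g ⟨x, hxSt⟩).2 hxW
  rcases h.of_commute_zw (hd ▸ hxd) with e | e
  · have e1 := f.D_St_e e (h.mem_St.1 hxSt).2
    exact hg1 (by rw [hxψ, hker]; exact e1 ▸ one_mem _)
  · have e1 := f.D_St_e e (by
      rw [← hs]
      exact (h.mem_St.1 (mul_mem hxSt hsSt)).2)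
    refine hg2 ?_
    rw [hxψ, hp, hmodW]
    show x⁻¹ * f.s ∈ h.W
    rw [eq_inv_of_mul_eq_one_left e1, ← hs, inv_inv, hs2]
    exact one_mem _

end Frame

end CfsgLib.AltEightLocal
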