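import Cfsg.Agent.AltEightLocal.FrameBasics
import Cfsg.Agent.Coprime.Action

/-!
If the normaliser of `W` is transitive on `W ∖ 1`, then the stabiliser of a point induces `S₄`
modulo `W`.
-/

set_option autoImplicit false
set_option linter.style.haveILetI false

namespace CfsgLib.AltEightLocal

open Equiv

variable {G : Type*} [Group G]

namespace Hyp

variable (h : Hyp G) [Finite G]
include h

/-- The normaliser of `W`. -/
def N : Subgroup G := Subgroup.normalizer (h.W : Set G)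

/-- The stabiliser of `x` in the normaliser of `W`. -/
def St (x : G) : Subgroup G := h.N ⊓ Subgroup.centralizer ({x} : Set G)

theorem mem_St {x g : G} : g ∈ h.St x ↔ g ∈ h.N ∧ g * x = x * g := by
  rw [St, Subgroup.mem_inf, Subgroup.mem_centralizer_singleton_iff]

theorem N_conj {g x : G} (hg : g ∈ h.N) (hx : x ∈ h.W) :
    g * x * g⁻¹ ∈ h.W ∧ g⁻¹ * x * g ∈ h.W := by
  refine ⟨(Subgroup.mem_normalizer_iff.1 hg x).1 hx, ?_⟩
  have := (Subgroup.mem_normalizer_iff.1 (inv_mem hg) x).1 hx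
  rwa [inv_inv] at this

theorem W_le_N : h.W ≤ h.N := Subgroup.le_normalizer

theorem D_le_N : h.D ≤ h.N := h.D_norm

theorem z_mem_St : h.z ∈ h.St h.v :=
  h.mem_St.2 ⟨h.D_le_N h.z_mem, (h.Vs_z h.v_mem).symm⟩

end Hyp

namespace Frame

variable {h : Hyp G} [Finite G] (f : Frame h)
include f

omit f in
theorem c_mem_St : h.c ∈ h.St h.v := h.mem_St.2 ⟨c_norm, h.c_v⟩

theorem s_mem_N : f.s ∈ h.N := f.s_norm

theorem W_le_St {x : G} (hx : x ∈ h.W) : h.W ≤ h.St x := fun y hy =>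
  h.mem_St.2 ⟨h.W_le_N hy, f.W_comm hy hx⟩

/-- The stabiliser of `v` and `V`. -/
theorem flag {g : G} (hg : g ∈ h.St h.v) (hV : g * h.v' * g⁻¹ ∈ h.Vs) :
    ∃ x ∈ h.W, ∃ (i : Fin 3) (j : Fin 2), g = x * h.z ^ (i : ℕ) * h.c ^ (j : ℕ) := by
  have hv := (h.mem_St.1 hg).2
  have key : ∀ g' : G, g' * h.v = h.v * g' → g' * h.v' = h.v' * g' →
      ∃ x ∈ h.W, ∃ i : Fin 3, g' = x * h.z ^ (i : ℕ) := by
    intro g' h1 h2
    obtain ⟨k, hk⟩ := h.CV_decomp h1 h2
    obtain ⟨i, hi⟩ := pow_three_fin h.z_cube (2 * k)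
    refine ⟨g' * h.z ^ k, hk, i, ?_⟩
    rw [← hi, mul_assoc, ← pow_add, show k + 2 * k = 3 * k by ring, pow_mul, h.z_cube, one_pow,
      mul_one]
  rcases h.flag_stab hv hV with e | ⟨e1, e2⟩
  · obtain ⟨x, hx, i, hi⟩ := key g hv e
    exact ⟨x, hx, i, 0, by rw [Fin.val_zero, pow_zero, mul_one]; exact hi⟩
  · obtain ⟨x, hx, i, hi⟩ := key _ e1 e2
    refine ⟨x, hx, i, 1, ?_⟩
    show g = x * h.z ^ (i : ℕ) * h.c ^ 1
    rw [pow_one, ← hi, mul_assoc, h.c_sq, mul_one]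

/-- The stabiliser of `v` and `V`, as a subgroup. -/
def Flag (_f : Frame h) : Subgroup (h.St h.v) where
  carrier := {g | ∀ a ∈ h.Vs, (g : G) * a * (g : G)⁻¹ ∈ h.Vs}
  one_mem' a ha := by simpa using ha
  mul_mem' := by
    intro a b ha hb x hx
    have := ha _ (hb x hx)
    rw [Subgroup.coe_mul]
    convert this using 1
    group
  inv_mem' := by
    intro g hg x hx
    have hle : h.Vs.map (MulAut.conj (g : G)).toMonoidHom ≤ h.Vs := by
      rintro _ ⟨y, hy, rfl⟩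
      exact hg y hy
    have heq := Subgroup.eq_of_le_of_card_ge hle (le_of_eq
      (Subgroup.card_map_of_injective (f := (MulAut.conj (g : G)).toMonoidHom)
        (MulAut.conj (g : G)).injective).symm)
    obtain ⟨y, hy, e⟩ := (SetLike.ext_iff.1 heq x).2 hx
    have e' : (g : G) * y * (g : G)⁻¹ = x := e
    rw [← e', Subgroup.coe_inv, inv_inv, conj_cancel]
    exact hy

theorem mem_Flag {g : h.St h.v} : g ∈ f.Flag ↔ (g : G) * h.v' * (g : G)⁻¹ ∈ h.Vs := by
  refine ⟨fun hg => hg _ h.v'_mem, fun hg a ha => ?_⟩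
  have hv : (g : G) * h.v * (g : G)⁻¹ ∈ h.Vs := by
    rw [commute_iff_conj.2 (h.mem_St.1 g.2).2]; exact h.v_mem
  rcases h.Vs_cases ha with e | e | e | e <;> subst e
  · simp
  · exact hv
  · exact hg
  · rw [conj_mul3]; exact mul_mem hv hg

theorem card_W : Nat.card h.W = 16 := by
  have hV : Nat.card h.Vs = 4 := by
    rw [Hyp.Vs, Subgroup.card_map_of_injective h.L.inj,
      Nat.card_congr (Equiv.subtypeEquivRight fun σ => mem_fours), Nat.card_eq_fintype_card]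
    decide +kernel
  let φ : h.Vs × h.Vs → h.W := fun p =>
    ⟨p.1.1 * (f.s * p.2.1 * f.s⁻¹), mul_mem (h.Vs_le_W p.1.2) (f.s_mem _ p.2.2)⟩
  have hb : Function.Bijective φ := by
    refine ⟨fun p q e => ?_, fun x => ?_⟩
    · obtain ⟨e1, e2⟩ := f.decomp_unique p.1.2 q.1.2 p.2.2 q.2.2 (congrArg Subtype.val e)
      exact Prod.ext (Subtype.ext e1) (Subtype.ext e2)
    · obtain ⟨a, ha, b, hb, e⟩ := f.decomp x x.2
      exact ⟨(⟨a, ha⟩, ⟨b, hb⟩), Subtype.ext e.symm⟩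
  rw [← Nat.card_congr (Equiv.ofBijective φ hb), Nat.card_prod, hV]

theorem z_not_W : h.z ∉ h.W := fun e => h.z_ne (h.eq_one_of_cube e h.z_cube)

theorem c_not_W : h.c ∉ h.W := fun e => c_v'_ne (h := h) (by
  rw [h.W_Vs e h.v'_mem, mul_assoc, h.c_sq, mul_one])

theorem zc_not_W (i : Fin 3) (j : Fin 2) (hW : h.z ^ (i : ℕ) * h.c ^ (j : ℕ) ∈ h.W) :
    i = 0 ∧ j = 0 := by
  have hj : (j : ℕ) = 0 := by
    by_contra hne
    have hj1 : (j : ℕ) = 1 := by omega
    rw [hj1, pow_one] at hW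
    refine c_v'_ne (h := h) ?_
    have e1 : Commute (h.z ^ (i : ℕ)) h.v' := ((show Commute h.v' h.z from
      h.Vs_z h.v'_mem).symm).pow_left _
    have e2 : Commute (h.z ^ (i : ℕ) * h.c) h.v' := h.W_Vs hW h.v'_mem
    have e3 : Commute h.c h.v' := by simpa using e1.inv_left.mul_left e2
    rw [e3.eq, mul_assoc, h.c_sq, mul_one]
  rw [hj, pow_zero, mul_one] at hW
  refine ⟨Fin.ext ?_, Fin.ext hj⟩
  by_contra hne
  have h1 : (h.z ^ (i : ℕ)) ^ 3 = 1 := by rw [← pow_mul, mul_comm, pow_mul, h.z_cube, one_pow]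
  have h2 := h.eq_one_of_cube hW h1
  haveI : Fact (Nat.Prime 3) := ⟨Nat.prime_three⟩
  have hd := orderOf_dvd_of_pow_eq_one h2
  rw [orderOf_eq_prime h.z_cube h.z_ne] at hd
  have h0 : ((0 : Fin 3) : ℕ) = 0 := rfl
  have := Nat.le_of_dvd (by omega) hd
  omega

theorem card_Flag : Nat.card f.Flag = 96 := by
  have hz := h.z_mem_St
  have hc : h.c ∈ h.St h.v := c_mem_St
  let φ : h.W × Fin 3 × Fin 2 → f.Flag := fun p =>
    ⟨⟨p.1.1 * h.z ^ (p.2.1 : ℕ) * h.c ^ (p.2.2 : ℕ),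
      mul_mem (mul_mem (f.W_le_St (h.Vs_le_W h.v_mem) p.1.2) (pow_mem hz _)) (pow_mem hc _)⟩,
     mul_mem (mul_mem
      (show (⟨p.1.1, f.W_le_St (h.Vs_le_W h.v_mem) p.1.2⟩ : h.St h.v) ∈ f.Flag from
        fun a ha => by
          show p.1.1 * a * (p.1.1 : G)⁻¹ ∈ h.Vs
          rw [h.W_Vs p.1.2 ha, mul_inv_cancel_right]; exact ha)
      (pow_mem (show (⟨h.z, hz⟩ : h.St h.v) ∈ f.Flag from fun a ha => by
        show h.z * a * h.z⁻¹ ∈ h.Vs
        rw [(h.Vs_conj_z ha).2]; exact ha) _))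
      (pow_mem (show (⟨h.c, hc⟩ : h.St h.v) ∈ f.Flag from fun a ha => by
        show h.c * a * h.c⁻¹ ∈ h.Vs
        rw [h.c_inv]; exact h.Vs_conj_c ha) _)⟩
  have hb : Function.Bijective φ := by
    refine ⟨?_, ?_⟩
    · rintro ⟨x, i, j⟩ ⟨x', i', j'⟩ e
      have e' : (x : G) * h.z ^ (i : ℕ) * h.c ^ (j : ℕ) =
          (x' : G) * h.z ^ (i' : ℕ) * h.c ^ (j' : ℕ) :=
        congrArg (fun g : f.Flag => ((g : h.St h.v) : G)) e
      have hjj : j = j' := by
        by_contra hne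
        have hor : ((j : ℕ) = 0 ∧ (j' : ℕ) = 1) ∨ ((j : ℕ) = 1 ∧ (j' : ℕ) = 0) := by
          have := Fin.val_ne_of_ne hne
          omega
        have fix : ∀ (y : h.W) (k : Fin 3), Commute ((y : G) * h.z ^ (k : ℕ)) h.v' := fun y k =>
          Commute.mul_left (h.W_Vs y.2 h.v'_mem)
            (((show Commute h.v' h.z from h.Vs_z h.v'_mem).symm).pow_left _)
        refine c_v'_ne (h := h) ?_
        have e3 : Commute h.c h.v' := by
          rcases hor with ⟨a, b⟩ | ⟨a, b⟩ <;> rw [a, b, pow_zero, mul_one, pow_one] at e'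
          · have := fix x i
            rw [e'] at this
            have h2 := (fix x' i').inv_left.mul_left this
            rwa [inv_mul_cancel_left] at h2
          · have := fix x' i'
            rw [← e'] at this
            have h2 := (fix x i).inv_left.mul_left this
            rwa [inv_mul_cancel_left] at h2
        rw [e3.eq, mul_assoc, h.c_sq, mul_one]
      subst hjj
      have e2 := mul_right_cancel e'
      have hzi : i = i' := by
        have hm : h.z ^ (i : ℕ) * (h.z ^ (i' : ℕ))⁻¹ ∈ h.W := by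
          have : h.z ^ (i : ℕ) * (h.z ^ (i' : ℕ))⁻¹ = (x : G)⁻¹ * x' := by
            calc h.z ^ (i : ℕ) * (h.z ^ (i' : ℕ))⁻¹
                = (x : G)⁻¹ * ((x : G) * h.z ^ (i : ℕ)) * (h.z ^ (i' : ℕ))⁻¹ := by group
              _ = _ := by rw [e2]; group
          rw [this]; exact mul_mem (inv_mem x.2) x'.2
        have hi2 : (h.z ^ (i' : ℕ))⁻¹ = h.z ^ (3 - (i' : ℕ)) := inv_eq_of_mul_eq_one_right (by
          rw [← pow_add, show (i' : ℕ) + (3 - (i' : ℕ)) = 3 by omega, h.z_cube])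
        rw [hi2, ← pow_add] at hm
        obtain ⟨k, hk⟩ := pow_three_fin h.z_cube ((i : ℕ) + (3 - (i' : ℕ)))
        have hk0 := (f.zc_not_W k 0 (by simpa [← hk] using hm)).1
        rw [hk0, Fin.val_zero, pow_zero] at hk
        haveI : Fact (Nat.Prime 3) := ⟨Nat.prime_three⟩
        have hd := orderOf_dvd_of_pow_eq_one hk
        rw [orderOf_eq_prime h.z_cube h.z_ne] at hd
        exact Fin.ext (by omega)
      subst hzi
      rw [show x = x' from Subtype.ext (mul_right_cancel e2)]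
    · rintro ⟨⟨g, hg⟩, hF⟩
      obtain ⟨x, hx, i, j, e⟩ := f.flag hg (hF _ h.v'_mem)
      exact ⟨(⟨x, hx⟩, i, j), Subtype.ext (Subtype.ext e.symm)⟩
  rw [← Nat.card_congr (Equiv.ofBijective φ hb), Nat.card_prod, Nat.card_prod, f.card_W,
    Nat.card_eq_fintype_card, Nat.card_eq_fintype_card, Fintype.card_fin, Fintype.card_fin]

/-- A coset of the flag stabiliser fixed by `z` is trivial. -/
theorem fixed_coset {g : h.St h.v}
    (hfix : (g⁻¹ * ⟨h.z, h.z_mem_St⟩ * g : h.St h.v) ∈ f.Flag) : g ∈ f.Flag := by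
  obtain ⟨x, hx, i, j, e⟩ := f.flag (g⁻¹ * ⟨h.z, h.z_mem_St⟩ * g).2 (hfix _ h.v'_mem)
  simp only [Subgroup.coe_mul, Subgroup.coe_inv] at e
  obtain ⟨y, hy⟩ : ∃ y, y = (g : G)⁻¹ * h.z * (g : G) := ⟨_, rfl⟩
  have hy3 : y ^ 3 = 1 := by
    have := conj_pow (a := (g : G)⁻¹) (b := h.z) (i := 3)
    rw [inv_inv] at this
    rw [hy, this, h.z_cube, mul_one, inv_mul_cancel]
  have hy2 : ∀ a ∈ h.Vs, Commute (y * y) a := by
    intro a ha
    have hz1 : ∀ {b : G}, b ∈ h.Vs → Commute (x * h.z ^ (i : ℕ)) b := fun {b} hb =>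
      Commute.mul_left (h.W_Vs hx hb) (((show Commute b h.z from h.Vs_z hb).symm).pow_left _)
    rw [hy, e]
    have : (j : ℕ) = 0 ∨ (j : ℕ) = 1 := by omega
    rcases this with e0 | e0 <;> rw [e0]
    · rw [pow_zero, mul_one]; exact (hz1 ha).mul_left (hz1 ha)
    · rw [pow_one]
      have hsplit : x * h.z ^ (i : ℕ) * h.c * (x * h.z ^ (i : ℕ) * h.c) =
          (x * h.z ^ (i : ℕ)) * (h.c * (x * h.z ^ (i : ℕ)) * h.c) := by group
      rw [hsplit]
      refine (hz1 ha).mul_left ?_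
      have := hz1 (h.Vs_conj_c ha)
      show h.c * (x * h.z ^ (i : ℕ)) * h.c * a = a * (h.c * (x * h.z ^ (i : ℕ)) * h.c)
      have hcc : ∀ b : G, h.c * (h.c * b) = b := fun b => by rw [← mul_assoc, h.c_sq, one_mul]
      calc h.c * (x * h.z ^ (i : ℕ)) * h.c * a
          = h.c * ((x * h.z ^ (i : ℕ)) * (h.c * a * h.c)) * h.c := by
            simp only [mul_assoc, h.c_sq, mul_one]
        _ = h.c * ((h.c * a * h.c) * (x * h.z ^ (i : ℕ))) * h.c := by
            rw [this.eq]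
        _ = _ := by simp only [mul_assoc, hcc]
  have hy4 : y = (y * y) * (y * y) := by
    rw [show y * y * (y * y) = y ^ 3 * y by simp only [pow_succ, pow_zero, one_mul, mul_assoc], hy3,
      one_mul]
  intro a ha
  refine h.fix_z (h.N_conj (h.mem_St.1 g.2).1 (h.Vs_le_W ha)).1 ?_
  have hc : Commute y a := hy4 ▸ (hy2 a ha).mul_left (hy2 a ha)
  calc (g : G) * a * (g : G)⁻¹ * h.z = (g : G) * (a * y) * (g : G)⁻¹ := by rw [hy]; group
    _ = (g : G) * (y * a) * (g : G)⁻¹ := by rw [hc.eq]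
    _ = _ := by rw [hy]; group

/-- Transitivity of `N(W)` on `W ∖ 1`. -/
def Trans : Prop := ∃ n ∈ h.N, n * h.v * n⁻¹ = f.e

variable {f}

theorem move (hT : f.Trans) {x : G} (hx : x ∈ h.W) (hx1 : x ≠ 1) :
    ∃ n ∈ h.N, n * h.v * n⁻¹ = x := by
  obtain ⟨a, ha, b, hb, rfl⟩ := f.decomp x hx
  rcases eq_or_ne a 1 with ha1 | ha1 <;> rcases eq_or_ne b 1 with hb1 | hb1
  · exact absurd (by rw [ha1, hb1]; group) hx1
  · obtain ⟨i, hi⟩ := w_pow_Vs hb hb1
    refine ⟨f.s * (h.w ^ i)⁻¹, mul_mem f.s_mem_N (inv_mem (pow_mem (h.D_le_N h.w_mem) i)), ?_⟩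
    rw [← hi, ha1, one_mul]; group
  · obtain ⟨i, hi⟩ := w_pow_Vs ha ha1
    refine ⟨(h.w ^ i)⁻¹, inv_mem (pow_mem (h.D_le_N h.w_mem) i), ?_⟩
    rw [← hi, hb1]; group
  · obtain ⟨d, hd, he⟩ := f.to_e ha hb ha1 hb1
    obtain ⟨n, hn, hne⟩ := hT
    refine ⟨d⁻¹ * n, mul_mem (inv_mem (h.D_le_N hd)) hn, ?_⟩
    calc d⁻¹ * n * h.v * (d⁻¹ * n)⁻¹ = d⁻¹ * (n * h.v * n⁻¹) * d := by group
      _ = _ := by rw [hne, ← he]; group

theorem card_N (hT : f.Trans) : Nat.card h.N = 15 * Nat.card (h.St h.v) := by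
  have hle : h.St h.v ≤ h.N := fun g hg => (h.mem_St.1 hg).1
  obtain ⟨H, hH⟩ : ∃ H : Subgroup h.N, H = (h.St h.v).subgroupOf h.N := ⟨_, rfl⟩
  have hidx : H.index = Nat.card {x : h.W // x ≠ 1} := by
    rw [Subgroup.index_eq_card]
    refine Nat.card_congr (Equiv.ofBijective (fun q =>
      (⟨⟨(q.out : G) * h.v * (q.out : G)⁻¹, (h.N_conj q.out.2 (h.Vs_le_W h.v_mem)).1⟩, fun e =>
        h.v_ne (conj_eq_one_iff.1 (congrArg Subtype.val e))⟩ : {x : h.W // x ≠ 1})) ⟨?_, ?_⟩)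
    · intro p q e
      have e' : (p.out : G) * h.v * (p.out : G)⁻¹ = (q.out : G) * h.v * (q.out : G)⁻¹ :=
        congrArg (fun y : {x : h.W // x ≠ 1} => ((y : h.W) : G)) e
      rw [← p.out_eq', ← q.out_eq', QuotientGroup.eq]
      refine (SetLike.ext_iff.1 hH _).2 (Subgroup.mem_subgroupOf.2
        (h.mem_St.2 ⟨(p.out⁻¹ * q.out).2, ?_⟩))
      show (p.out : G)⁻¹ * (q.out : G) * h.v = h.v * ((p.out : G)⁻¹ * (q.out : G))
      calc (p.out : G)⁻¹ * (q.out : G) * h.v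
          = (p.out : G)⁻¹ * ((q.out : G) * h.v * (q.out : G)⁻¹) * (q.out : G) := by group
        _ = _ := by rw [← e']; group
    · rintro ⟨⟨x, hx⟩, hx1⟩
      obtain ⟨n, hn, e⟩ := move hT hx (fun e => hx1 (Subtype.ext e))
      obtain ⟨m, hm⟩ := QuotientGroup.mk_out_eq_mul H ⟨n, hn⟩
      refine ⟨QuotientGroup.mk ⟨n, hn⟩, Subtype.ext (Subtype.ext ?_)⟩
      have hm' := (h.mem_St.1 (Subgroup.mem_subgroupOf.1 ((SetLike.ext_iff.1 hH _).1 m.2))).2
      show ((QuotientGroup.mk ⟨n, hn⟩ : h.N ⧸ H).out : G) * h.v *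
        ((QuotientGroup.mk ⟨n, hn⟩ : h.N ⧸ H).out : G)⁻¹ = x
      rw [hm, Subgroup.coe_mul, ← e]
      calc n * (m.1 : G) * h.v * (n * (m.1 : G))⁻¹
          = n * ((m.1 : G) * h.v) * (m.1 : G)⁻¹ * n⁻¹ := by group
        _ = _ := by rw [hm']; group
  have h15 : Nat.card {x : h.W // x ≠ 1} = 15 := by
    classical
    haveI := Fintype.ofFinite h.W
    rw [Nat.card_eq_fintype_card, Fintype.card_subtype_compl, Fintype.card_subtype_eq,
      ← Nat.card_eq_fintype_card, f.card_W]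
  rw [← H.card_mul_index, hidx, h15, hH,
    Nat.card_congr (Subgroup.subgroupOfEquivOfLe hle).toEquiv, mul_comm]

variable (f)

theorem sixtyfour_dvd : 64 ∣ Nat.card h.N := by
  haveI : Fact (Nat.Prime 2) := ⟨Nat.prime_two⟩
  have hW : IsPGroup 2 h.W := IsPGroup.of_card (n := 4) (by rw [f.card_W]; rfl)
  have hp : ∀ g : G, g ^ 4 = 1 → IsPGroup 2 (Subgroup.zpowers g) := by
    intro g hg
    obtain ⟨k, -, hk⟩ := (Nat.dvd_prime_pow Nat.prime_two).1
      (show orderOf g ∣ 2 ^ 2 from orderOf_dvd_of_pow_eq_one hg)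
    exact IsPGroup.of_card (n := k) (by rw [Nat.card_zpowers, hk])
  have hc2 : h.c ^ 4 = 1 := by
    rw [show h.c ^ 4 = (h.c * h.c) * (h.c * h.c) by simp only [pow_succ, pow_zero, one_mul, mul_assoc],
        h.c_sq, one_mul]
  obtain ⟨A, hA⟩ : ∃ A : Subgroup G, A = h.W ⊔ Subgroup.zpowers h.c := ⟨_, rfl⟩
  have hA2 : IsPGroup 2 A := hA ▸ hW.to_sup_of_normal_left' (hp _ hc2)
    (Subgroup.zpowers_le.2 c_norm)
  have hs4 : f.s ^ 4 = 1 := by
    rcases f.s_inv_mem with e | e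
    · rw [show f.s ^ 4 = (f.s * f.s) * (f.s * f.s) by simp only [pow_succ, pow_zero, one_mul, mul_assoc],
        e, one_mul]
    · rw [Set.mem_singleton_iff] at e
      rw [show f.s ^ 4 = (f.s * f.s) * (f.s * f.s) by simp only [pow_succ, pow_zero, one_mul, mul_assoc],
        e, h.c_sq]
  have hsA : f.s ∈ Subgroup.normalizer (A : Set G) := by
    have key : ∀ g : G, g ∈ ({f.s, f.s⁻¹} : Set G) → ∀ a ∈ A, g * a * g⁻¹ ∈ A := by
      intro g hg a ha
      have hAle : A ≤ A.comap (MulAut.conj g).toMonoidHom := by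
        conv_lhs => rw [hA]
        refine sup_le (fun x hx => ?_) (Subgroup.zpowers_le.2 ?_)
        · show g * x * g⁻¹ ∈ A
          rw [hA]
          refine Subgroup.mem_sup_left ?_
          rcases hg with e | e
          · rw [e]; exact (f.s_W hx).1
          · rw [Set.mem_singleton_iff] at e
            rw [e, inv_inv]; exact (f.s_W hx).2
        · show g * h.c * g⁻¹ ∈ A
          have : g * h.c = h.c * g := by
            rcases hg with e | e
            · rw [e]; exact f.s_c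
            · rw [Set.mem_singleton_iff] at e
              rw [e]
              exact (Commute.inv_left (show Commute f.s h.c from f.s_c)).eq
          rw [this, mul_inv_cancel_right, hA]
          exact Subgroup.mem_sup_right (Subgroup.mem_zpowers _)
      exact hAle ha
    rw [Subgroup.mem_normalizer_iff]
    exact fun x => ⟨key _ (Or.inl rfl) x, fun hx => by
      have := key f.s⁻¹ (Or.inr rfl) _ hx
      rwa [inv_inv, conj_cancel] at this⟩
  obtain ⟨B, hB⟩ : ∃ B : Subgroup G, B = A ⊔ Subgroup.zpowers f.s := ⟨_, rfl⟩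
  have hB2 : IsPGroup 2 B := hB ▸ hA2.to_sup_of_normal_left' (hp _ hs4)
    (Subgroup.zpowers_le.2 hsA)
  have hBN : B ≤ h.N := by
    rw [hB, hA]
    exact sup_le (sup_le h.W_le_N (Subgroup.zpowers_le.2 c_norm))
      (Subgroup.zpowers_le.2 f.s_mem_N)
  have hWA : h.W < A := lt_of_le_of_ne (hA ▸ le_sup_left) fun e => f.c_not_W (by
    rw [e, hA]; exact Subgroup.mem_sup_right (Subgroup.mem_zpowers _))
  have hAB : A < B := lt_of_le_of_ne (hB ▸ le_sup_left) fun e => by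
    -- elements of `A` fix `v`
    have hAv : A ≤ Subgroup.centralizer ({h.v} : Set G) := by
      rw [hA]
      refine sup_le (fun x hx => Subgroup.mem_centralizer_singleton_iff.2 (h.W_Vs hx h.v_mem))
        (Subgroup.zpowers_le.2 (Subgroup.mem_centralizer_singleton_iff.2 h.c_v))
    have hs : f.s ∈ A := by rw [e, hB]; exact Subgroup.mem_sup_right (Subgroup.mem_zpowers _)
    exact f.v_ne_w₁ (commute_iff_conj.2 (Subgroup.mem_centralizer_singleton_iff.1 (hAv hs))).symm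
  obtain ⟨a, ha⟩ := IsPGroup.iff_card.1 hA2
  obtain ⟨b, hb⟩ := IsPGroup.iff_card.1 hB2
  have h1 : 16 < 2 ^ a := by
    rw [← f.card_W, ← ha]
    exact lt_of_le_of_ne (Subgroup.card_le_of_le hWA.le) fun e =>
      hWA.ne (Subgroup.eq_of_le_of_card_ge hWA.le e.ge)
  have h2 : 2 ^ a < 2 ^ b := by
    rw [← ha, ← hb]
    exact lt_of_le_of_ne (Subgroup.card_le_of_le hAB.le) fun e =>
      hAB.ne (Subgroup.eq_of_le_of_card_ge hAB.le e.ge)
  have ha4 : 4 < a := (Nat.pow_lt_pow_iff_right one_lt_two).1 (show 2 ^ 4 < 2 ^ a from h1)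
  have hb5 : a < b := (Nat.pow_lt_pow_iff_right one_lt_two).1 h2
  refine Dvd.dvd.trans ?_ (Subgroup.card_dvd_of_le hBN)
  rw [hb, show 64 = 2 ^ 6 from rfl]
  exact Nat.pow_dvd_pow 2 (by omega)

variable {f}

/-- There are four lines through `v` in the orbit of `V`. -/
theorem index_Flag (hT : f.Trans) : f.Flag.index = 4 := by
  classical
  have hcard : Nat.card (h.St h.v) = 96 * f.Flag.index := by
    rw [← f.Flag.card_mul_index, f.card_Flag]
  have heven : 2 ∣ f.Flag.index := by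
    have h64 := f.sixtyfour_dvd
    rw [card_N hT, hcard, show 15 * (96 * f.Flag.index) = 32 * (45 * f.Flag.index) by ring,
      show 64 = 32 * 2 from rfl] at h64
    have := Nat.dvd_of_mul_dvd_mul_left (by norm_num) h64
    omega
  -- lines
  have hle : 2 * f.Flag.index ≤ 14 := by
    let φ : (h.St h.v ⧸ f.Flag) × Fin 2 → {x : h.W // x ∉ ({1, ⟨h.v, h.Vs_le_W h.v_mem⟩} : Finset h.W)} :=
      fun p => ⟨⟨(p.1.out : G) * h.v' * (p.1.out : G)⁻¹ * h.v ^ (p.2 : ℕ),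
        mul_mem (h.N_conj (h.mem_St.1 p.1.out.2).1 (h.Vs_le_W h.v'_mem)).1
          (pow_mem (h.Vs_le_W h.v_mem) _)⟩, by
        intro hm
        simp only [Finset.mem_insert, Finset.mem_singleton, Subtype.ext_iff] at hm
        have hv := (h.mem_St.1 p.1.out.2).2
        have hcv : (p.1.out : G) * h.v * (p.1.out : G)⁻¹ = h.v := commute_iff_conj.2 hv
        have hj : (p.2 : ℕ) = 0 ∨ (p.2 : ℕ) = 1 := by omega
        rcases hj with e | e <;> rw [e] at hm <;> simp only [pow_zero, pow_one, mul_one,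
          OneMemClass.coe_one] at hm <;> rcases hm with e' | e'
        · exact h.v'_ne (conj_eq_one_iff.1 e')
        · exact h.v'_ne_v (conj_inj (e'.trans hcv.symm))
        · refine h.v'_ne_v (conj_inj (g := (p.1.out : G)) ?_)
          rw [hcv, eq_inv_of_mul_eq_one_left e', inv_eq_of_mul_eq_one_right h.v_sq]
        · exact h.v'_ne (conj_eq_one_iff.1 (mul_eq_right.1 e'))⟩
    have hφ : Function.Injective φ := by
      rintro ⟨p, j⟩ ⟨q, k⟩ e
      have e' : (p.out : G) * h.v' * (p.out : G)⁻¹ * h.v ^ (j : ℕ) =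
          (q.out : G) * h.v' * (q.out : G)⁻¹ * h.v ^ (k : ℕ) :=
        congrArg (fun y : {x : h.W // x ∉ ({1, ⟨h.v, h.Vs_le_W h.v_mem⟩} : Finset h.W)} =>
          ((y : h.W) : G)) e
      have hpq : p = q := by
        rw [← p.out_eq', ← q.out_eq', QuotientGroup.eq, f.mem_Flag]
        have hvq : Commute (p.out : G) h.v := (h.mem_St.1 p.out.2).2
        have hpv : (p.out : G)⁻¹ * h.v * (p.out : G) = h.v := by
          rw [mul_assoc, ← hvq.eq, inv_mul_cancel_left]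
        obtain ⟨m, hm, hmv⟩ : ∃ m ∈ h.Vs, (q.out : G) * h.v' * (q.out : G)⁻¹ =
            (p.out : G) * h.v' * (p.out : G)⁻¹ * m ∧ (p.out : G)⁻¹ * m * (p.out : G) = m := by
          refine ⟨h.v ^ (j : ℕ) * (h.v ^ (k : ℕ))⁻¹, mul_mem (pow_mem h.v_mem _)
            (inv_mem (pow_mem h.v_mem _)), ?_, ?_⟩
          · rw [← mul_assoc, e', mul_inv_cancel_right]
          · have : Commute (p.out : G) (h.v ^ (j : ℕ) * (h.v ^ (k : ℕ))⁻¹) :=
              (hvq.pow_right _).mul_right (hvq.pow_right _).inv_right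
            rw [mul_assoc, ← this.eq, inv_mul_cancel_left]
        show ((p.out⁻¹ * q.out : h.St h.v) : G) * h.v' * ((p.out⁻¹ * q.out : h.St h.v) : G)⁻¹ ∈ h.Vs
        rw [Subgroup.coe_mul, Subgroup.coe_inv]
        have e3 : (p.out : G)⁻¹ * (q.out : G) * h.v' * ((p.out : G)⁻¹ * (q.out : G))⁻¹ =
            h.v' * m := by
          calc _ = (p.out : G)⁻¹ * ((q.out : G) * h.v' * (q.out : G)⁻¹) * (p.out : G) := by group
            _ = h.v' * ((p.out : G)⁻¹ * m * (p.out : G)) := by rw [hmv.1]; group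
            _ = _ := by rw [hmv.2]
        rw [e3]; exact mul_mem h.v'_mem hm
      subst hpq
      have e2 := mul_left_cancel e'
      refine Prod.ext rfl (Fin.ext ?_)
      haveI : Fact (Nat.Prime 2) := ⟨Nat.prime_two⟩
      have hord : orderOf h.v = 2 := orderOf_eq_prime (by rw [pow_two, h.v_sq]) h.v_ne
      exact pow_injOn_Iio_orderOf (Set.mem_Iio.2 (by rw [hord]; exact j.2))
        (Set.mem_Iio.2 (by rw [hord]; exact k.2)) e2
    haveI := Fintype.ofFinite h.W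
    have h14 : Nat.card {x : h.W // x ∉ ({1, ⟨h.v, h.Vs_le_W h.v_mem⟩} : Finset h.W)} = 14 := by
      rw [Nat.card_eq_fintype_card, Fintype.card_subtype_compl, Fintype.card_coe,
        Finset.card_pair (fun e => h.v_ne (congrArg Subtype.val e).symm),
        ← Nat.card_eq_fintype_card, f.card_W]
    have := Nat.card_le_card_of_injective φ hφ
    rw [h14, Nat.card_prod, Nat.card_eq_fintype_card (α := Fin 2), Fintype.card_fin,
      ← Subgroup.index_eq_card] at this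
    omega
  -- fixed points of `z`
  haveI : Fact (Nat.Prime 3) := ⟨Nat.prime_three⟩
  obtain ⟨Z, hZ⟩ : ∃ Z : Subgroup (h.St h.v), Z = Subgroup.zpowers ⟨h.z, h.z_mem_St⟩ := ⟨_, rfl⟩
  have hZp : IsPGroup 3 Z := IsPGroup.of_card (n := 1) (by
    rw [hZ, Nat.card_zpowers, Subgroup.orderOf_mk, orderOf_eq_prime h.z_cube h.z_ne, pow_one])
  have hmod := hZp.card_modEq_card_fixedPoints (h.St h.v ⧸ f.Flag)
  have hfix : Nat.card (MulAction.fixedPoints Z (h.St h.v ⧸ f.Flag)) = 1 := by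
    rw [Nat.card_eq_one_iff_unique]
    refine ⟨⟨?_⟩, ⟨⟨QuotientGroup.mk 1, ?_⟩⟩⟩
    · have key : ∀ q : MulAction.fixedPoints Z (h.St h.v ⧸ f.Flag),
          (q : h.St h.v ⧸ f.Flag) = QuotientGroup.mk 1 := by
        rintro ⟨q, hq⟩
        obtain ⟨g, rfl⟩ := QuotientGroup.mk_surjective q
        have hq' := hq ⟨⟨h.z, h.z_mem_St⟩, hZ ▸ Subgroup.mem_zpowers _⟩
        have e : (QuotientGroup.mk (⟨h.z, h.z_mem_St⟩ * g) : h.St h.v ⧸ f.Flag) =
            QuotientGroup.mk g := hq'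
        rw [eq_comm, QuotientGroup.eq, ← mul_assoc] at e
        rw [eq_comm, QuotientGroup.eq, inv_one, one_mul]
        exact f.fixed_coset e
      exact fun p q => Subtype.ext ((key p).trans (key q).symm)
    · intro a
      obtain ⟨k, hk⟩ := Subgroup.mem_zpowers_iff.1 (show (a : h.St h.v) ∈
        Subgroup.zpowers (⟨h.z, h.z_mem_St⟩ : h.St h.v) from hZ ▸ a.2)
      show (QuotientGroup.mk ((a : h.St h.v) * 1) : h.St h.v ⧸ f.Flag) = QuotientGroup.mk 1
      rw [eq_comm, QuotientGroup.eq, inv_one, one_mul, mul_one, ← hk]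
      refine zpow_mem (show (⟨h.z, h.z_mem_St⟩ : h.St h.v) ∈ f.Flag from fun a ha => ?_) k
      show h.z * a * h.z⁻¹ ∈ h.Vs
      rw [(h.Vs_conj_z ha).2]; exact ha
  rw [hfix, ← Subgroup.index_eq_card] at hmod
  have hm1 : f.Flag.index % 3 = 1 := hmod
  omega

end Frame

theorem fix_zero_involution : ∀ p : Perm (Fin 4), p * p = 1 → p ≠ 1 → p 0 = 0 →
    ∀ q : Perm (Fin 4), q * q = 1 → q ≠ 1 → q 0 = 0 → ∃ r, r * p * r⁻¹ = q := by decide +kernel

namespace Frame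

variable {h : Hyp G} [Finite G] {f : Frame h}

/-- The stabiliser of `v` induces `S₄` modulo `W`. -/
theorem exists_perm (hT : f.Trans) : ∃ ψ : h.St h.v →* Perm (Fin 4), Function.Surjective ψ ∧
    (∀ g, ψ g = 1 ↔ (g : G) ∈ h.W) ∧ ∀ g, ψ g 0 = 0 ↔ g ∈ f.Flag := by
  classical
  obtain ⟨e₀⟩ : Nonempty ((h.St h.v ⧸ f.Flag) ≃ Fin 4) := by
    rw [← Finite.card_eq, Nat.card_fin, ← Subgroup.index_eq_card, index_Flag hT]
  obtain ⟨e, he⟩ : ∃ e : (h.St h.v ⧸ f.Flag) ≃ Fin 4, e (QuotientGroup.mk 1) = 0 :=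
    ⟨e₀.trans (Equiv.swap (e₀ (QuotientGroup.mk 1)) 0), by simp⟩
  let ψ : h.St h.v →* Perm (Fin 4) :=
    e.permCongrHom.toMonoidHom.comp (MulAction.toPermHom (h.St h.v) (h.St h.v ⧸ f.Flag))
  have happ : ∀ g (q : h.St h.v ⧸ f.Flag), ψ g (e q) = e (g • q) := fun g q => by
    show e (g • e.symm (e q)) = _
    rw [e.symm_apply_apply]
  have hzero : ∀ g, ψ g 0 = 0 ↔ g ∈ f.Flag := by
    intro g
    rw [← he, happ, e.apply_eq_iff_eq]
    show (QuotientGroup.mk (g * 1) : h.St h.v ⧸ f.Flag) = QuotientGroup.mk 1 ↔ _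
    rw [eq_comm, QuotientGroup.eq, inv_one, one_mul, mul_one]
  have hz1 : ψ ⟨h.z, h.z_mem_St⟩ ≠ 1 := by
    intro e1
    -- otherwise every coset is fixed
    obtain ⟨g, hg⟩ : ∃ g : h.St h.v, g ∉ f.Flag := by
      by_contra hall
      push Not at hall
      have := index_Flag hT
      rw [(Subgroup.eq_top_iff' _).2 hall, Subgroup.index_top] at this
      norm_num at this
    refine hg (f.fixed_coset ?_)
    have h2 := congrArg (fun p : Perm (Fin 4) => p (e (QuotientGroup.mk g))) e1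
    simp only [happ, Perm.one_apply, e.apply_eq_iff_eq] at h2
    change (QuotientGroup.mk (⟨h.z, h.z_mem_St⟩ * g) : h.St h.v ⧸ f.Flag) = QuotientGroup.mk g at h2
    rwa [eq_comm, QuotientGroup.eq, ← mul_assoc] at h2
  have hWker : ∀ g : h.St h.v, (g : G) ∈ h.W → ψ g = 1 := by
    intro g hg
    refine Equiv.ext fun x => ?_
    obtain ⟨q, rfl⟩ := e.surjective x
    obtain ⟨k, rfl⟩ := QuotientGroup.mk_surjective q
    rw [happ, Perm.one_apply, e.apply_eq_iff_eq]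
    show (QuotientGroup.mk (g * k) : h.St h.v ⧸ f.Flag) = QuotientGroup.mk k
    rw [eq_comm, QuotientGroup.eq]
    intro a ha
    have hmem : ((k⁻¹ * (g * k) : h.St h.v) : G) ∈ h.W := by
      have := (h.N_conj (h.mem_St.1 k.2).1 hg).2
      simpa [mul_assoc] using this
    rw [h.W_Vs hmem ha, mul_inv_cancel_right]
    exact ha
  have hker : ∀ g, ψ g = 1 ↔ (g : G) ∈ h.W := by
    refine fun g => ⟨fun hg => ?_, hWker g⟩
    have hF : g ∈ f.Flag := (hzero g).1 (by rw [hg, Perm.one_apply])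
    obtain ⟨x, hx, i, j, e2⟩ := f.flag g.2 (hF _ h.v'_mem)
    have hgx : g = ⟨x, f.W_le_St (h.Vs_le_W h.v_mem) hx⟩ * ⟨h.z, h.z_mem_St⟩ ^ (i : ℕ) *
        ⟨h.c, c_mem_St⟩ ^ (j : ℕ) := Subtype.ext e2
    have hm : ψ ⟨h.z, h.z_mem_St⟩ ^ (i : ℕ) * ψ ⟨h.c, c_mem_St⟩ ^ (j : ℕ) = 1 := by
      rw [hgx, map_mul, map_mul, map_pow, map_pow, hWker _ hx, one_mul] at hg
      exact hg
    have hc1 : ψ ⟨h.c, c_mem_St⟩ * ψ ⟨h.c, c_mem_St⟩ = 1 := by
      rw [← map_mul, ← map_one ψ]; exact congrArg ψ (Subtype.ext h.c_sq)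
    have hz3 : ψ ⟨h.z, h.z_mem_St⟩ ^ 3 = 1 := by
      rw [← map_pow, ← map_one ψ]; exact congrArg ψ (Subtype.ext h.z_cube)
    have hcz : ψ ⟨h.c, c_mem_St⟩ * ψ ⟨h.z, h.z_mem_St⟩ * ψ ⟨h.c, c_mem_St⟩ =
        (ψ ⟨h.z, h.z_mem_St⟩)⁻¹ := by
      rw [← map_inv, ← map_mul, ← map_mul]; exact congrArg ψ (Subtype.ext h.c_z)
    rw [e2]
    have hi : (i : ℕ) = 0 ∨ (i : ℕ) = 1 ∨ (i : ℕ) = 2 := by omega
    have hj : (j : ℕ) = 0 ∨ (j : ℕ) = 1 := by omega
    have hzinv : ψ ⟨h.z, h.z_mem_St⟩ ^ 2 = (ψ ⟨h.z, h.z_mem_St⟩)⁻¹ :=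
      (inv_eq_of_mul_eq_one_right (by rw [← pow_succ', hz3])).symm
    rcases hj with ej | ej
    · rcases hi with ei | ei | ei
      · rw [ei, ej]; simpa using hx
      · exfalso; rw [ei, ej] at hm; simp at hm; exact hz1 hm
      · exfalso; rw [ei, ej, hzinv] at hm; simp at hm; exact hz1 hm
    · exfalso
      rw [ej, pow_one] at hm
      have hc : ψ ⟨h.c, c_mem_St⟩ = (ψ ⟨h.z, h.z_mem_St⟩ ^ (i : ℕ))⁻¹ :=
        (inv_eq_of_mul_eq_one_right hm).symm
      have hcomm : Commute (ψ ⟨h.c, c_mem_St⟩) (ψ ⟨h.z, h.z_mem_St⟩) :=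
        hc ▸ ((Commute.refl _).pow_left _).inv_left
      have e3 : ψ ⟨h.z, h.z_mem_St⟩ = (ψ ⟨h.z, h.z_mem_St⟩)⁻¹ := by
        rw [← hcz, hcomm.eq, mul_assoc, hc1, mul_one]
      refine hz1 ?_
      calc ψ ⟨h.z, h.z_mem_St⟩ = ψ ⟨h.z, h.z_mem_St⟩ ^ 3 *
            (ψ ⟨h.z, h.z_mem_St⟩ * ψ ⟨h.z, h.z_mem_St⟩)⁻¹ := by group
        _ = 1 := by
          rw [hz3, one_mul, inv_eq_one]
          calc _ = ψ ⟨h.z, h.z_mem_St⟩ * (ψ ⟨h.z, h.z_mem_St⟩)⁻¹ := by rw [← e3]
            _ = 1 := mul_inv_cancel _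
  refine ⟨ψ, ?_, hker, hzero⟩
  rw [← MonoidHom.range_eq_top]
  refine Subgroup.eq_top_of_card_eq _ ?_
  have hk : Nat.card ψ.ker = 16 := by
    rw [← f.card_W]
    exact Nat.card_congr
      { toFun := fun g => ⟨_, (hker g).1 g.2⟩
        invFun := fun x => ⟨⟨x, f.W_le_St (h.Vs_le_W h.v_mem) x.2⟩, (hker _).2 x.2⟩
        left_inv := fun _ => rfl
        right_inv := fun _ => rfl }
  have h1 := ψ.ker.card_mul_index
  rw [Subgroup.index_ker, hk, ← f.Flag.card_mul_index, f.card_Flag, index_Flag hT] at h1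
  rw [Nat.card_eq_fintype_card (α := Perm (Fin 4)), Fintype.card_perm, Fintype.card_fin,
    show Nat.factorial 4 = 24 by rfl]
  omega

end Frame

end CfsgLib.AltEightLocal
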