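import Cfsg.Agent.AltEightLocal.TransBase

/-!
The involutions of `N(W)` when it is transitive and `s² = c`, and how `D` acts on `W`.
-/

set_option autoImplicit false
set_option linter.style.haveILetI false

namespace CfsgLib.AltEightLocal

open Equiv

variable {G : Type*} [Group G]

/-- The image of `W` under a conjugation, inside `K`. -/
theorem map_conj_eq_of_forall [Finite G] {H K : Subgroup G} {g : G}
    (hmem : ∀ x ∈ H, g * x * g⁻¹ ∈ K) (hcard : Nat.card K ≤ Nat.card H) :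
    H.map (MulAut.conj g).toMonoidHom = K :=
  Subgroup.eq_of_le_of_card_ge (by rintro _ ⟨x, hx, rfl⟩; exact hmem x hx)
    (by rw [Subgroup.card_map_of_injective (f := (MulAut.conj g).toMonoidHom)
          (MulAut.conj g).injective]; exact hcard)

theorem conj_mem_normalizer [Finite G] {H : Subgroup G} {g : G}
    (hmem : ∀ x ∈ H, g * x * g⁻¹ ∈ H) : g ∈ Subgroup.normalizer (H : Set G) := by
  rw [Subgroup.mem_normalizer_iff]
  refine fun x => ⟨hmem x, fun hx => ?_⟩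
  rw [← map_conj_eq_of_forall hmem le_rfl] at hx
  obtain ⟨y, hy, e⟩ := hx
  rwa [conj_inj (g := g) e] at hy

namespace Hyp

variable (h : Hyp G) [Finite G]
include h

theorem card_Vs : Nat.card h.Vs = 4 := by
  rw [Hyp.Vs, Subgroup.card_map_of_injective h.L.inj,
    Nat.card_congr (Equiv.subtypeEquivRight fun σ => mem_fours), Nat.card_eq_fintype_card]
  decide +kernel

/-- An element of order three of `N(W)` is conjugate into `D` inside `N(W)`. -/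
theorem into_D {m : G} (hm : m ∈ h.N) (hm3 : m ^ 3 = 1) : ∃ n ∈ h.N, n * m * n⁻¹ ∈ h.D := by
  haveI : Fact (Nat.Prime 3) := ⟨Nat.prime_three⟩
  obtain ⟨P, hP⟩ := h.exists_sylow
  have hle : (P : Subgroup G) ≤ h.N := hP ▸ h.D_le_N
  have hp : IsPGroup 3 (Subgroup.zpowers (⟨m, hm⟩ : h.N)) := by
    obtain ⟨k, -, hk⟩ := (Nat.dvd_prime_pow Nat.prime_three).1
      (show orderOf (⟨m, hm⟩ : h.N) ∣ 3 ^ 1 from by
        rw [pow_one]; exact orderOf_dvd_of_pow_eq_one (Subtype.ext hm3))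
    exact IsPGroup.of_card (n := k) (by rw [Nat.card_zpowers, hk])
  obtain ⟨Q, hQ⟩ := hp.exists_le_sylow
  obtain ⟨n, hn⟩ := MulAction.exists_smul_eq h.N Q (P.subtype hle)
  refine ⟨n, n.2, ?_⟩
  have h1 := Subgroup.smul_mem_pointwise_smul _ (MulAut.conj n) _ (hQ (Subgroup.mem_zpowers _))
  rw [← Sylow.coe_subgroup_smul, hn] at h1
  rw [← hP]
  exact h1

theorem z_inv_pair {δ : G} (hδ : δ = h.z ∨ δ = h.z⁻¹) {a : G} (ha : a ∈ h.Vs) :
    δ * a * δ⁻¹ = a := by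
  rcases hδ with e | e <;> subst e
  · exact (h.Vs_conj_z ha).2
  · rw [inv_inv]; exact (h.Vs_conj_z ha).1

/-- `t` normalises `D`. -/
theorem t_D {a : G} (ha : a ∈ h.D) : h.t * a * h.t⁻¹ ∈ h.D := by
  obtain ⟨i, j, rfl⟩ := h.grid ha
  have e1 : h.t * h.z * h.t⁻¹ = h.z := by rw [h.t_z, mul_inv_cancel_right]
  have e2 : h.t * h.w * h.t⁻¹ = h.w⁻¹ := by
    rw [inv_eq_of_mul_eq_one_right h.t_sq]; exact h.t_w
  rw [show h.t * (h.z ^ (i : ℕ) * h.w ^ (j : ℕ)) * h.t⁻¹ =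
    (h.t * h.z * h.t⁻¹) ^ (i : ℕ) * (h.t * h.w * h.t⁻¹) ^ (j : ℕ) by
      rw [conj_pow, conj_pow]; group, e1, e2]
  exact mul_mem (pow_mem h.z_mem _) (pow_mem (inv_mem h.w_mem) _)

/-- An element commuting with `k (z w) k⁻¹` normalises `D`. -/
theorem norm_D_of_commute {k x : G} (hk : k = 1 ∨ k = h.t)
    (hx : x * (k * (h.z * h.w) * k⁻¹) = k * (h.z * h.w) * k⁻¹ * x) :
    ∀ a ∈ h.D, x * a * x⁻¹ ∈ h.D := by
  have hkD : ∀ a ∈ h.D, k * a * k⁻¹ ∈ h.D := fun a ha => by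
    rcases hk with e | e <;> subst e
    · simpa using ha
    · exact h.t_D ha
  have hkI : k⁻¹ = k := by
    rcases hk with e | e <;> subst e
    · exact inv_one
    · exact inv_eq_of_mul_eq_one_right h.t_sq
  obtain ⟨y, hy⟩ : ∃ y, y = k⁻¹ * x * k := ⟨_, rfl⟩
  have hy1 : y * (h.z * h.w) = h.z * h.w * y := by
    calc y * (h.z * h.w) = k⁻¹ * (x * (k * (h.z * h.w) * k⁻¹)) * k := by rw [hy]; group
      _ = _ := by rw [hx, hy]; group
  have hyD : ∀ a ∈ h.D, y * a * y⁻¹ ∈ h.D := by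
    intro a ha
    rcases h.of_commute_zw hy1 with e | e
    · exact mul_mem (mul_mem e ha) (inv_mem e)
    · have := mul_mem (mul_mem e (h.u_conj_D ha)) (inv_mem e)
      convert this using 1
      rw [mul_inv_rev, h.u_inv]
      calc y * a * y⁻¹ = y * ((h.u * h.u) * a * (h.u * h.u)) * y⁻¹ := by
            rw [h.u_sq, one_mul, mul_one]
        _ = _ := by group
  intro a ha
  have := hkD _ (hyD _ (hkD a ha))
  convert this using 1
  calc x * a * x⁻¹ = k * (y * (k⁻¹ * a * k⁻¹⁻¹) * y⁻¹) * k⁻¹ := by rw [hy]; group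
    _ = _ := by rw [hkI, hkI]

end Hyp

namespace Frame

variable {h : Hyp G} [Finite G] (f : Frame h)
include f

/-- The subgroup `s V s⁻¹`. -/
def Us (_f : Frame h) : Subgroup G := h.Vs.map (MulAut.conj _f.s).toMonoidHom

theorem mem_Us {x : G} : x ∈ f.Us ↔ ∃ b ∈ h.Vs, f.s * b * f.s⁻¹ = x := Iff.rfl

theorem card_Us : Nat.card f.Us = 4 := by
  rw [Us, Subgroup.card_map_of_injective (f := (MulAut.conj f.s).toMonoidHom)
    (MulAut.conj f.s).injective, h.card_Vs]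

theorem Us_of_commute {x : G} (hx : x ∈ h.W) (hxw : x * h.w = h.w * x) : x ∈ f.Us := by
  obtain ⟨b, hb, rfl⟩ := f.mem_U hx hxw
  exact f.mem_Us.2 ⟨b, hb, rfl⟩

theorem prod_commute_w {y δ : G} (hδ : δ = h.z ∨ δ = h.z⁻¹) (hy : y ∈ h.W) :
    y * (δ * y * δ⁻¹) ∈ f.Us := by
  obtain ⟨a, ha, b, hb, rfl⟩ := f.decomp y hy
  have hδN : δ ∈ h.N := by
    rcases hδ with e | e <;> subst e
    exacts [h.D_le_N h.z_mem, inv_mem (h.D_le_N h.z_mem)]
  have hδw : Commute δ h.w := by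
    rcases hδ with e | e <;> subst e
    exacts [h.zw_comm, (show Commute h.z h.w from h.zw_comm).inv_left]
  have hU := f.s_mem b hb
  have hU' : δ * (f.s * b * f.s⁻¹) * δ⁻¹ ∈ f.Us := f.Us_of_commute (h.N_conj hδN hU).1
    ((hδw.mul_left (show Commute (f.s * b * f.s⁻¹) h.w from f.fix_w hb)).mul_left
      hδw.inv_left).eq
  have e : a * (f.s * b * f.s⁻¹) * (δ * (a * (f.s * b * f.s⁻¹)) * δ⁻¹) =
      (f.s * b * f.s⁻¹) * (δ * (f.s * b * f.s⁻¹) * δ⁻¹) := by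
    rw [conj_mul3, h.z_inv_pair hδ ha]
    calc a * (f.s * b * f.s⁻¹) * (a * (δ * (f.s * b * f.s⁻¹) * δ⁻¹))
        = (a * ((f.s * b * f.s⁻¹) * a)) * (δ * (f.s * b * f.s⁻¹) * δ⁻¹) := by group
      _ = _ := by rw [h.W_Vs hU ha, ← mul_assoc a a, h.Vs_sq ha, one_mul]
  rw [e]
  exact mul_mem (f.mem_Us.2 ⟨b, hb, rfl⟩) hU'

theorem prod_commute_z {y δ : G} (hδ : δ = h.w ∨ δ = h.w⁻¹) (hy : y ∈ h.W) :
    y * (δ * y * δ⁻¹) ∈ h.Vs := by
  obtain ⟨a, ha, b, hb, rfl⟩ := f.decomp y hy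
  have hδU : δ * (f.s * b * f.s⁻¹) * δ⁻¹ = f.s * b * f.s⁻¹ := by
    rcases hδ with e | e <;> subst e
    · exact commute_iff_conj.2 (f.fix_w hb).symm
    · exact commute_iff_conj.2 (Commute.inv_left (show Commute h.w _ from (f.fix_w hb).symm)).eq
  have hδV : δ * a * δ⁻¹ ∈ h.Vs := by
    rcases hδ with e | e <;> subst e
    · exact (h.Vs_conj_w ha).2
    · rw [inv_inv]; exact (h.Vs_conj_w ha).1
  have hU := f.s_mem b hb
  have e : a * (f.s * b * f.s⁻¹) * (δ * (a * (f.s * b * f.s⁻¹)) * δ⁻¹) = a * (δ * a * δ⁻¹) := by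
    rw [conj_mul3, hδU]
    calc a * (f.s * b * f.s⁻¹) * (δ * a * δ⁻¹ * (f.s * b * f.s⁻¹))
        = a * (((f.s * b * f.s⁻¹) * (δ * a * δ⁻¹)) * (f.s * b * f.s⁻¹)) := by group
      _ = _ := by rw [h.W_Vs hU hδV, mul_assoc (δ * a * δ⁻¹), f.W_sq hU, mul_one]
  rw [e]
  exact mul_mem ha hδV

/-- A `D`-invariant subgroup of order four of `W` is `V` or `s V s⁻¹`. -/
theorem invariant_four {X : Subgroup G} (hX : X ≤ h.W) (hcard : Nat.card X = 4)
    (hinv : ∀ y ∈ X, h.z * y * h.z⁻¹ ∈ X) : X ≤ h.Vs ∨ X ≤ f.Us := by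
  by_cases hall : ∀ y ∈ X, y * h.z = h.z * y
  · exact Or.inl fun y hy => h.fix_z (hX hy) (hall y hy)
  · push Not at hall
    obtain ⟨y, hy, hyz⟩ := hall
    refine Or.inr ?_
    obtain ⟨u₀, hu₀⟩ : ∃ u₀, u₀ = y * (h.z * y * h.z⁻¹) := ⟨_, rfl⟩
    have h0X : u₀ ∈ X := hu₀ ▸ mul_mem hy (hinv y hy)
    have h0U : u₀ ∈ f.Us := hu₀ ▸ f.prod_commute_w (Or.inl rfl) (hX hy)
    have h01 : u₀ ≠ 1 := fun e => hyz (by
      have e1 := eq_inv_of_mul_eq_one_right (hu₀ ▸ e)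
      rw [f.W_inv (hX hy)] at e1
      exact (commute_iff_conj.1 e1).symm)
    obtain ⟨b, hb, hb'⟩ := f.mem_Us.1 h0U
    have h1U : h.z * u₀ * h.z⁻¹ ∈ f.Us := by
      refine f.Us_of_commute (h.N_conj (h.D_le_N h.z_mem) (hX h0X)).1 ?_
      have c1 : Commute h.z h.w := h.zw_comm
      have c2 : Commute u₀ h.w := hb' ▸ f.fix_w hb
      exact ((c1.mul_left c2).mul_left c1.inv_left).eq
    have hne : h.z * u₀ * h.z⁻¹ ≠ u₀ := fun e => h01 (f.eq_one_of_both (hX h0X)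
      (commute_iff_conj.1 e).symm (hb' ▸ f.fix_w hb))
    have h3 : 3 ≤ Nat.card (X ⊓ f.Us : Subgroup G) := by
      classical
      have hs : (({1, u₀, h.z * u₀ * h.z⁻¹} : Finset G) : Set G) ⊆ (X ⊓ f.Us : Subgroup G) := by
        intro a ha
        simp only [Finset.coe_insert, Finset.coe_singleton, Set.mem_insert_iff,
          Set.mem_singleton_iff] at ha
        rcases ha with e | e | e <;> subst e
        exacts [one_mem _, ⟨h0X, h0U⟩, ⟨hinv _ h0X, h1U⟩]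
      have := Nat.card_mono (Set.toFinite _) hs
      rw [Nat.card_coe_set_eq, Set.ncard_coe_finset, Finset.card_eq_three.2
        ⟨1, u₀, h.z * u₀ * h.z⁻¹, h01.symm, fun e => h01 (conj_eq_one_iff.1 e.symm), hne.symm,
          rfl⟩] at this
      exact this
    have hdvd : Nat.card (X ⊓ f.Us : Subgroup G) ∣ 4 :=
      hcard ▸ Subgroup.card_dvd_of_le inf_le_left
    have h4 : Nat.card (X ⊓ f.Us : Subgroup G) = 4 := by
      have := Nat.le_of_dvd (by norm_num) hdvd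
      rcases (show Nat.card (X ⊓ f.Us : Subgroup G) = 3 ∨
        Nat.card (X ⊓ f.Us : Subgroup G) = 4 by omega) with e | e
      · rw [e] at hdvd; norm_num at hdvd
      · exact e
    exact inf_eq_left.1 (Subgroup.eq_of_le_of_card_ge inf_le_left (by rw [hcard, h4]))

variable {f}

/-- The involutions of `N(W)` outside `W` are conjugate into `W c`. -/
theorem inv_N (hT : f.Trans) (hs2 : f.s * f.s = h.c) {ι : G} (hι : ι ∈ h.N) (hι2 : ι * ι = 1)
    (hιW : ι ∉ h.W) : ∃ m ∈ h.N, ∃ y ∈ h.W, ι = m * (y * h.c) * m⁻¹ := by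
  obtain ⟨a, ha, hne⟩ : ∃ a ∈ h.W, ι * a ≠ a * ι := by
    by_contra hall
    push Not at hall
    exact hιW (f.centralizer_W hall)
  obtain ⟨b, hb⟩ : ∃ b, b = ι * a * ι⁻¹ := ⟨_, rfl⟩
  have hbW : b ∈ h.W := hb ▸ (h.N_conj hι ha).1
  have hιx : ι * (a * b) = a * b * ι := by
    refine commute_iff_conj.1 ?_
    rw [conj_mul3, ← hb, show ι * b * ι⁻¹ = a by
      rw [hb, show ι * (ι * a * ι⁻¹) * ι⁻¹ = (ι * ι) * a * (ι * ι)⁻¹ by group, hι2, one_mul,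
        inv_one, mul_one], f.W_comm hbW ha]
  have hx1 : a * b ≠ 1 := fun e => hne (commute_iff_conj.1 (by
    have e1 := eq_inv_of_mul_eq_one_right e
    rw [f.W_inv ha] at e1
    rw [← hb, e1]))
  obtain ⟨ψ, hsurj, hker, hflat⟩ := exists_perm_at hT (mul_mem ha hbW) hx1
  obtain ⟨g, hg⟩ : ∃ g : h.St (a * b), g = ⟨ι, h.mem_St.2 ⟨hι, hιx⟩⟩ := ⟨_, rfl⟩
  have hgι : (g : G) = ι := by rw [hg]
  by_cases hfix : ∃ i, ψ g i = i
  · obtain ⟨m, hm, y, hy, e⟩ := hflat g (by rw [hgι]; exact hι2) (by rw [hgι]; exact hιW) hfix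
    exact ⟨m, hm, y, hy, hgι ▸ e⟩
  · push Not at hfix
    obtain ⟨n₀, hn₀, hn₀e⟩ := move hT f.e_mem f.e_ne
    obtain ⟨n, hn, hnx⟩ := move hT (mul_mem ha hbW) hx1
    obtain ⟨n₁, hn₁⟩ : ∃ n₁, n₁ = n * n₀⁻¹ := ⟨_, rfl⟩
    have hn₁N : n₁ ∈ h.N := hn₁ ▸ mul_mem hn (inv_mem hn₀)
    have hn₁e : n₁ * f.e * n₁⁻¹ = a * b := by
      rw [hn₁, ← hn₀e, ← hnx]; group
    have hse : f.s * f.e = f.e * f.s := commute_iff_conj.1 f.s_e
    have hkSt : n₁ * f.s * n₁⁻¹ ∈ h.St (a * b) := by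
      refine h.mem_St.2 ⟨mul_mem (mul_mem hn₁N f.s_mem_N) (inv_mem hn₁N), ?_⟩
      rw [← hn₁e]
      calc n₁ * f.s * n₁⁻¹ * (n₁ * f.e * n₁⁻¹) = n₁ * (f.s * f.e) * n₁⁻¹ := by group
        _ = _ := by rw [hse]; group
    obtain ⟨k, hk⟩ : ∃ k : h.St (a * b), k = ⟨_, hkSt⟩ := ⟨_, rfl⟩
    have hkk : ((k * k : h.St (a * b)) : G) = n₁ * h.c * n₁⁻¹ := by
      rw [hk, Subgroup.coe_mul, ← conj_mul3, hs2]
    have hg2 : ψ g * ψ g = 1 := by
      rw [← map_mul, show g * g = 1 from Subtype.ext (by rw [Subgroup.coe_mul, hgι]; exact hι2),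
        map_one]
    have hk4 : ψ k * ψ k * (ψ k * ψ k) = 1 := by
      rw [← map_mul, ← map_mul, show k * k * (k * k) = 1 from Subtype.ext (by
        rw [Subgroup.coe_mul, hkk, ← conj_mul3, h.c_sq]; simp), map_one]
    have hk2 : ψ k * ψ k ≠ 1 := fun e => by
      rw [← map_mul, hker, hkk] at e
      have := (h.N_conj hn₁N e).2
      rw [conj_cancel] at this
      exact f.c_not_W this
    obtain ⟨r, hr⟩ := p4_double _ hg2 hfix _ hk4 hk2
    obtain ⟨l, rfl⟩ := hsurj r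
    have hy0 : (l : G) * ι * (l : G)⁻¹ * (n₁ * h.c * n₁⁻¹)⁻¹ ∈ h.W := by
      have h0 := (hker (l * g * l⁻¹ * (k * k)⁻¹)).1 (by
        rw [map_mul, map_mul, map_mul, map_inv, map_inv, map_mul, hr, mul_inv_cancel])
      rwa [Subgroup.coe_mul, Subgroup.coe_mul, Subgroup.coe_mul, Subgroup.coe_inv,
        Subgroup.coe_inv, hgι, hkk] at h0
    refine ⟨(l : G)⁻¹ * n₁, mul_mem (inv_mem (h.mem_St.1 l.2).1) hn₁N, _,
      (h.N_conj hn₁N hy0).2, ?_⟩
    group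

theorem tt_N (hT : f.Trans) (hs2 : f.s * f.s = h.c) {ι : G} (hι : ι ∈ h.N) (hι2 : ι * ι = 1)
    (hι1 : ι ≠ 1) : h.Tt ι := by
  by_cases hW : ι ∈ h.W
  · obtain ⟨n, -, rfl⟩ := move hT hW hι1
    exact h.tt_conj (h.tt_Vs h.v_mem h.v_ne)
  · obtain ⟨m, -, y, hy, e⟩ := inv_N hT hs2 hι hι2 hW
    rw [e]
    exact f.tt_conj_Wc hy (e ▸ hι2)

theorem card_fix (hT : f.Trans) (hs2 : f.s * f.s = h.c) {ι : G} (hι : ι ∈ h.N) (hι2 : ι * ι = 1)
    (hιW : ι ∉ h.W) : Nat.card (h.W ⊓ Subgroup.centralizer ({ι} : Set G) : Subgroup G) = 4 := by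
  obtain ⟨m, hm, y, hy, e⟩ := inv_N hT hs2 hι hι2 hιW
  rw [e, f.fix_conj_eq hm hy, Subgroup.card_map_of_injective (f := (MulAut.conj m).toMonoidHom)
    (MulAut.conj m).injective, f.card_Lf]

end Frame

end CfsgLib.AltEightLocal
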