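import Cfsg.Agent.AltEightLocal.TwistKill
import Cfsg.Agent.AltEightLocal.TransGood

/-!
`N(W)` is not transitive on `W ∖ 1`.
-/

set_option autoImplicit false
set_option linter.style.haveILetI false

namespace CfsgLib.AltEightLocal

open Equiv

variable {G : Type*} [Group G]

namespace Twist

variable {h : Hyp G} [Finite G] {f : Frame h} (T : Twist f)
include T

/-- A mover fixing the fixed points of `c` and moving `W` to the second group of order 16. -/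
theorem exists_swap : ∃ g : G, g ∈ Subgroup.normalizer (T.Q : Set G) ∧
    (∀ x ∈ f.Lf, g * x = x * g) ∧ h.W.map (MulAut.conj g).toMonoidHom ≤ T.S₀ ∧
      h.W.map (MulAut.conj g).toMonoidHom ≠ h.W ∧
      ∀ B : Subgroup G, IsSixteen B → B ≤ T.S₀ → B = h.W ∨
        B = h.W.map (MulAut.conj g).toMonoidHom := by
  obtain ⟨g₀, hg₀, hmove⟩ := T.exists_mover
  obtain ⟨B₀, hB₀⟩ : ∃ B₀, B₀ = h.W.map (MulAut.conj g₀).toMonoidHom := ⟨_, rfl⟩
  have hconj : ∀ k ∈ T.S₀, g₀ * k * g₀⁻¹ ∈ T.S₀ := fun k hk =>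
    (Subgroup.mem_normalizer_iff.1 hg₀ k).1 hk
  have hB₀16 : IsSixteen B₀ := hB₀ ▸ f.isSixteen_W.map g₀
  have hB₀le : B₀ ≤ T.S₀ := by
    rw [hB₀]; rintro _ ⟨x, hx, rfl⟩; exact hconj x (T.W_le_S₀ hx)
  obtain ⟨hinf, hBQ, hin, -⟩ := T.second hB₀16 hB₀le (hB₀ ▸ hmove)
  -- uniqueness
  have huniq : ∀ B : Subgroup G, IsSixteen B → B ≤ T.S₀ → B = h.W ∨ B = B₀ := by
    intro B hB hle
    refine (eq_or_ne B h.W).imp id fun hne => ?_
    obtain ⟨hinf', hBQ', hin', -⟩ := T.second hB hle hne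
    refine le_antisymm (fun x hx => ?_) (fun x hx => ?_)
    · by_cases hW : x ∈ h.W
      · exact (hinf.ge (hinf'.le ⟨hx, hW⟩)).1
      · exact hin x (hBQ' hx) (hB.sq x hx) hW
    · by_cases hW : x ∈ h.W
      · exact (hinf'.ge (hinf.le ⟨hx, hW⟩)).1
      · exact hin' x (hBQ hx) (hB₀16.sq x hx) hW
  have hback : ∀ x ∈ B₀, g₀ * x * g₀⁻¹ ∈ h.W := by
    have h16 := hB₀16.map g₀
    have hle : B₀.map (MulAut.conj g₀).toMonoidHom ≤ T.S₀ := by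
      rintro _ ⟨x, hx, rfl⟩; exact hconj x (hB₀le hx)
    rcases huniq _ h16 hle with e | e
    · intro x hx; rw [← e]; exact ⟨x, hx, rfl⟩
    · exfalso
      refine (hB₀ ▸ hmove) ?_
      conv_rhs at e => rw [hB₀]
      exact Subgroup.map_injective (f := (MulAut.conj g₀).toMonoidHom) (MulAut.conj g₀).injective e
  have hLf : ∀ x ∈ f.Lf, g₀ * x * g₀⁻¹ ∈ f.Lf := by
    intro x hx
    refine hinf.le ⟨hB₀ ▸ ⟨x, (f.mem_Lf.1 hx).1, rfl⟩, hback x (hinf.ge hx).1⟩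
  have he : g₀ * f.e * g₀⁻¹ = f.e := T.fix_e hg₀
  have hw : f.w₁ = h.v * f.e := by
    show f.w₁ = h.v * (h.v * f.w₁); rw [← mul_assoc, h.v_sq, one_mul]
  obtain ⟨g, hg, hgv, hgW⟩ : ∃ g ∈ Subgroup.normalizer (T.S₀ : Set G), g * h.v * g⁻¹ = h.v ∧
      h.W.map (MulAut.conj g).toMonoidHom = B₀ := by
    rcases T.v_cases (hLf _ f.v_mem_Lf) (fun e => h.v_ne (conj_eq_one_iff.1 e))
      (fun e => f.e_ne_v (conj_inj (e.trans he.symm)).symm) with e | e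
    · exact ⟨g₀, hg₀, e, hB₀.symm⟩
    · refine ⟨g₀ * f.s, mul_mem hg₀ (Subgroup.le_normalizer T.s_mem), ?_, ?_⟩
      · calc g₀ * f.s * h.v * (g₀ * f.s)⁻¹ = g₀ * f.w₁ * g₀⁻¹ := by
              show _ = g₀ * (f.s * h.v * f.s⁻¹) * g₀⁻¹; group
          _ = f.w₁ * f.e := by rw [hw, conj_mul3, e, he, hw]
          _ = h.v := by rw [hw, mul_assoc, f.W_sq f.e_mem, mul_one]
      · rw [hB₀]
        refine map_conj_eq_of_forall (fun x hx => ?_) ?_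
        · exact ⟨f.s * x * f.s⁻¹, (f.s_W hx).1, by
            show g₀ * (f.s * x * f.s⁻¹) * g₀⁻¹ = _; group⟩
        · rw [Subgroup.card_map_of_injective (f := (MulAut.conj g₀).toMonoidHom)
            (MulAut.conj g₀).injective]
  have hge : g * f.e * g⁻¹ = f.e := T.fix_e hg
  have hgfix : ∀ x ∈ f.Lf, g * x = x * g := by
    intro x hx
    refine commute_iff_conj.1 ?_
    rcases f.Lf_cases hx with e | e | e | e <;> subst e
    · simp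
    · exact hgv
    · rw [hw, conj_mul3, hgv, hge]
    · exact hge
  refine ⟨g, conj_mem_normalizer fun x hx => ?_, hgfix, hgW ▸ hB₀le, hgW ▸ hB₀ ▸ hmove,
    fun B hB hle => hgW ▸ huniq B hB hle⟩
  have hS : g * x * g⁻¹ ∈ T.S₀ := (Subgroup.mem_normalizer_iff.1 hg x).1 (T.Q_le_S₀ hx)
  refine (T.mem_Q_of_S₀ hS).2 ?_
  calc g * x * g⁻¹ * h.v * (g * x * g⁻¹)⁻¹ = g * (x * (g⁻¹ * h.v * g) * x⁻¹) * g⁻¹ := by group
    _ = g * (x * h.v * x⁻¹) * g⁻¹ := by rw [mul_assoc g⁻¹, ← hgfix _ f.v_mem_Lf, inv_mul_cancel_left]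
    _ = _ := by rw [commute_iff_conj.2 (T.mem_Q.1 hx).2.1, hgv]

/-- An element of order three normalising `Q` and cycling the fixed points of `c`. -/
theorem exists_triality : ∃ d ∈ h.N, d ∈ Subgroup.normalizer (T.Q : Set G) ∧ d ^ 3 = 1 ∧
    d * h.v * d⁻¹ = f.e ∧ d * f.e * d⁻¹ = f.w₁ ∧ d * f.w₁ * d⁻¹ = h.v := by
  classical
  obtain ⟨g, -, -, hBle, hBne, -⟩ := T.exists_swap
  obtain ⟨B, hB⟩ : ∃ B, B = h.W.map (MulAut.conj g).toMonoidHom := ⟨_, rfl⟩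
  have hB16 : IsSixteen B := hB ▸ f.isSixteen_W.map g
  obtain ⟨-, hBQ, -, hfour⟩ := T.second hB16 (hB ▸ hBle) (hB ▸ hBne)
  obtain ⟨ψ, hsurj, hker, -⟩ := Frame.exists_perm T.hT
  have hQv : T.Q ≤ h.St h.v := fun x hx => h.mem_St.2 ⟨(T.mem_Q.1 hx).1, (T.mem_Q.1 hx).2.1⟩
  obtain ⟨φ, hφ⟩ : ∃ φ : T.Q →* Perm (Fin 4), φ = ψ.comp (Subgroup.inclusion hQv) := ⟨_, rfl⟩
  have hφker : ∀ x : T.Q, φ x = 1 ↔ (x : G) ∈ h.W := fun x => by
    rw [hφ]; exact hker (Subgroup.inclusion hQv x)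
  have hkQ : Nat.card φ.ker = 16 := by
    rw [← f.card_W]
    exact Nat.card_congr
      { toFun := fun x => ⟨_, (hφker _).1 x.2⟩
        invFun := fun x => ⟨⟨x, T.W_le_Q x.2⟩, (hφker _).2 x.2⟩
        left_inv := fun _ => rfl
        right_inv := fun _ => rfl }
  have hrQ : Nat.card φ.range = 4 := by
    have := φ.ker.card_mul_index
    rw [Subgroup.index_ker, hkQ, T.card_Q] at this
    omega
  -- the image is elementary abelian
  have himg : ∀ x : T.Q, ∃ b : T.Q, (b : G) ∈ B ∧ φ x = φ b := fun x => by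
    obtain ⟨b, hb, hbx⟩ := hfour x x.2
    refine ⟨⟨b, hBQ hb⟩, hb, ?_⟩
    exact (inv_mul_eq_one.1 (by rw [← map_inv, ← map_mul, hφker]; exact hbx)).symm
  have hinv : ∀ x : T.Q, φ x * φ x = 1 := fun x => by
    obtain ⟨b, hb, e⟩ := himg x
    rw [e, ← map_mul, show b * b = 1 from Subtype.ext (hB16.sq b hb), map_one]
  have hcom : ∀ x y : T.Q, φ x * φ y = φ y * φ x := fun x y => by
    obtain ⟨b, hb, e⟩ := himg x
    obtain ⟨b', hb', e'⟩ := himg y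
    rw [e, e', ← map_mul, ← map_mul, show b * b' = b' * b from Subtype.ext (hB16.comm b hb b' hb')]
  obtain ⟨a, ha⟩ : ∃ a, a = φ ⟨h.c, T.c_mem_Q⟩ := ⟨_, rfl⟩
  have ha1 : a ≠ 1 := fun e => f.c_not_W ((hφker ⟨h.c, T.c_mem_Q⟩).1 (ha ▸ e))
  obtain ⟨x₁, hx1, hx1a⟩ : ∃ x : T.Q, φ x ≠ 1 ∧ φ x ≠ a := by
    by_contra hall
    push Not at hall
    have hs : (φ.range : Set (Perm (Fin 4))) ⊆ (({1, a} : Finset (Perm (Fin 4))) : Set _) := by
      rintro _ ⟨x, rfl⟩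
      simp only [Finset.coe_insert, Finset.coe_singleton, Set.mem_insert_iff,
        Set.mem_singleton_iff]
      exact (eq_or_ne (φ x) 1).imp id (hall x)
    have := Nat.card_mono (Finset.finite_toSet _) hs
    rw [Nat.card_coe_set_eq, Nat.card_coe_set_eq, Set.ncard_coe_finset] at this
    have h2 : ({1, a} : Finset (Perm (Fin 4))).card ≤ 2 := Finset.card_le_two
    rw [← Nat.card_coe_set_eq] at this
    change Nat.card φ.range ≤ _ at this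
    omega
  obtain ⟨b, hb⟩ : ∃ b, b = φ x₁ := ⟨_, rfl⟩
  have hrange : ∀ x : T.Q, φ x = 1 ∨ φ x = a ∨ φ x = b ∨ φ x = a * b := fun x =>
    p4_elementary a (ha ▸ hinv _) ha1 b (hb ▸ hinv _) (hb ▸ hx1) (hb ▸ hx1a)
      (by rw [ha, hb]; exact hcom _ _) _ (hinv x) (by rw [ha]; exact hcom _ _)
      (by rw [hb]; exact hcom _ _)
  obtain ⟨r, ⟨hr1, hra, hrb, hrab⟩, hca, hcb⟩ := p4_norm a (ha ▸ hinv _) ha1 b (hb ▸ hinv _)
    (hb ▸ hx1) (hb ▸ hx1a) (by rw [ha, hb]; exact hcom _ _)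
  obtain ⟨H, hH⟩ := hsurj r
  have hmemrange : ∀ p, p = 1 ∨ p = a ∨ p = b ∨ p = a * b → p ∈ φ.range := by
    rintro p (e | e | e | e) <;> rw [e]
    · exact one_mem _
    · exact ⟨_, ha.symm⟩
    · exact ⟨_, hb.symm⟩
    · exact mul_mem ⟨_, ha.symm⟩ ⟨_, hb.symm⟩
  have hHQ : (H : G) ∈ Subgroup.normalizer (T.Q : Set G) := by
    refine conj_mem_normalizer fun x hx => ?_
    have h1 : r * φ ⟨x, hx⟩ * r⁻¹ ∈ φ.range := by
      have h3 : ∀ p, (p = a ∨ p = b ∨ p = a * b) → p ∈ φ.range :=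
        fun p hp => hmemrange p (Or.inr hp)
      rcases hrange ⟨x, hx⟩ with e | e | e | e <;> rw [e]
      · exact hmemrange _ (Or.inl (by group))
      · exact h3 _ hca
      · exact h3 _ hcb
      · rw [conj_mul3]; exact mul_mem (h3 _ hca) (h3 _ hcb)
    obtain ⟨x', hx'⟩ := h1
    have hW : (x' : G)⁻¹ * ((H : G) * x * (H : G)⁻¹) ∈ h.W := by
      refine (hker ((Subgroup.inclusion hQv x')⁻¹ * (H * ⟨x, hQv hx⟩ * H⁻¹))).1 ?_
      rw [map_mul, map_inv, map_mul, map_mul, map_inv, hH]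
      rw [hφ] at hx'
      rw [show ψ (Subgroup.inclusion hQv x') = r * ψ ⟨x, hQv hx⟩ * r⁻¹ from hx', inv_mul_cancel]
    have := mul_mem x'.2 (T.W_le_Q hW)
    rwa [mul_inv_cancel_left] at this
  have hHnQ : (H : G) ∉ T.Q := fun hq => by
    have h1 : φ ⟨H, hq⟩ = r := by rw [hφ, ← hH]; rfl
    rcases hrange ⟨H, hq⟩ with e | e | e | e <;> rw [h1] at e
    exacts [hr1 e, hra e, hrb e, hrab e]
  obtain ⟨hHN, hHv⟩ := h.mem_St.1 H.2
  have hHv' : (H : G) * h.v * (H : G)⁻¹ = h.v := commute_iff_conj.2 hHv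
  have hHLf : ∀ x ∈ f.Lf, (H : G) * x * (H : G)⁻¹ ∈ f.Lf := by
    intro x hx
    refine f.mem_Lf.2 ⟨(h.N_conj hHN (f.mem_Lf.1 hx).1).1, ?_⟩
    have hc' : (H : G)⁻¹ * h.c * (H : G) ∈ T.Q := by
      have := (Subgroup.mem_normalizer_iff.1 (inv_mem hHQ) h.c).1 T.c_mem_Q
      rwa [inv_inv] at this
    calc (H : G) * x * (H : G)⁻¹ * h.c = (H : G) * (x * ((H : G)⁻¹ * h.c * (H : G))) * (H : G)⁻¹ := by
          group
      _ = (H : G) * ((H : G)⁻¹ * h.c * (H : G) * x) * (H : G)⁻¹ := by rw [T.Q_fix hc' hx]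
      _ = _ := by group
  have hw : f.w₁ = h.v * f.e := by
    show f.w₁ = h.v * (h.v * f.w₁); rw [← mul_assoc, h.v_sq, one_mul]
  have hH1 : (H : G) * f.w₁ * (H : G)⁻¹ = f.e := by
    rcases f.Lf_cases (hHLf _ f.w₁_mem_Lf) with e | e | e | e
    · exact absurd (conj_eq_one_iff.1 e) f.w₁_ne
    · exact absurd (conj_inj (e.trans hHv'.symm)).symm f.v_ne_w₁
    · exact absurd (T.mem_Q.2 ⟨hHN, hHv, commute_iff_conj.1 e⟩) hHnQ
    · exact e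
  have hH2 : (H : G) * f.e * (H : G)⁻¹ = f.w₁ := by
    show (H : G) * (h.v * f.w₁) * (H : G)⁻¹ = f.w₁
    rw [conj_mul3, hH1, hHv', hw]
  obtain ⟨d₀, hd₀⟩ : ∃ d₀, d₀ = (H : G) * f.s := ⟨_, rfl⟩
  have hd1 : d₀ * h.v * d₀⁻¹ = f.e := by
    rw [hd₀, ← hH1]; show _ = (H : G) * (f.s * h.v * f.s⁻¹) * (H : G)⁻¹; group
  have hd2 : d₀ * f.e * d₀⁻¹ = f.w₁ := by
    calc d₀ * f.e * d₀⁻¹ = (H : G) * (f.s * f.e * f.s⁻¹) * (H : G)⁻¹ := by rw [hd₀]; group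
      _ = _ := by rw [f.s_e, hH2]
  have hd3 : d₀ * f.w₁ * d₀⁻¹ = h.v := by
    calc d₀ * f.w₁ * d₀⁻¹ = (H : G) * (f.s * f.w₁ * f.s⁻¹) * (H : G)⁻¹ := by rw [hd₀]; group
      _ = _ := by rw [f.s_w₁, hHv']
  have hd₀N : d₀ ∈ h.N := hd₀ ▸ mul_mem hHN f.s_mem_N
  have hd₀Q : d₀ ∈ Subgroup.normalizer (T.Q : Set G) := hd₀ ▸ mul_mem hHQ (T.S₀_norm_Q T.s_mem)
  have hpow : ∀ x ∈ f.Lf, d₀ ^ 3 * x * (d₀ ^ 3)⁻¹ = x := by
    intro x hx
    have hcyc : ∀ x : G, d₀ * (d₀ * (d₀ * x * d₀⁻¹) * d₀⁻¹) * d₀⁻¹ =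
        d₀ ^ 3 * x * (d₀ ^ 3)⁻¹ := fun x => by
      simp only [pow_succ, pow_zero, one_mul, mul_assoc, mul_inv_rev]
    rw [← hcyc]
    rcases f.Lf_cases hx with e | e | e | e <;> subst e
    · simp
    · rw [hd1, hd2, hd3]
    · rw [hd3, hd1, hd2]
    · rw [hd2, hd3, hd1]
  have hd₀3 : d₀ ^ 3 ∈ T.Q := T.mem_Q.2 ⟨pow_mem hd₀N 3,
    commute_iff_conj.1 (hpow _ f.v_mem_Lf), commute_iff_conj.1 (hpow _ f.w₁_mem_Lf)⟩
  obtain ⟨d, hd⟩ : ∃ d, d = d₀ ^ 64 := ⟨_, rfl⟩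
  have hd64 : (d₀ ^ 3) ^ 64 = 1 := by
    have := pow_card_eq_one' (x := (⟨d₀ ^ 3, hd₀3⟩ : T.Q))
    rw [T.card_Q] at this
    exact congrArg Subtype.val this
  have hdx : ∀ x ∈ f.Lf, d * x * d⁻¹ = d₀ * x * d₀⁻¹ := by
    intro x hx
    have h21 : (d₀ ^ 3) ^ 21 * x * ((d₀ ^ 3) ^ 21)⁻¹ = x :=
      commute_iff_conj.2 (T.Q_fix (pow_mem hd₀3 21) hx)
    have e : d = d₀ * (d₀ ^ 3) ^ 21 := by rw [hd, ← pow_mul, ← pow_succ']
    rw [e]
    calc d₀ * (d₀ ^ 3) ^ 21 * x * (d₀ * (d₀ ^ 3) ^ 21)⁻¹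
        = d₀ * ((d₀ ^ 3) ^ 21 * x * ((d₀ ^ 3) ^ 21)⁻¹) * d₀⁻¹ := by group
      _ = _ := by rw [h21]
  refine ⟨d, hd ▸ pow_mem hd₀N _, hd ▸ pow_mem hd₀Q _, ?_, ?_, ?_, ?_⟩
  · rw [hd, ← pow_mul, mul_comm, pow_mul, hd64]
  · rw [hdx _ f.v_mem_Lf, hd1]
  · rw [hdx _ f.e_mem_Lf, hd2]
  · rw [hdx _ f.w₁_mem_Lf, hd3]

theorem contradiction : False := by
  obtain ⟨g, hgQ, hgfix, hBle, hBne, huniq⟩ := T.exists_swap
  obtain ⟨d, hdN, hdQ, hd3, hdv, hde, hdw⟩ := T.exists_triality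
  obtain ⟨B, hB⟩ : ∃ B, B = h.W.map (MulAut.conj g).toMonoidHom := ⟨_, rfl⟩
  obtain ⟨hinf, -, -, -⟩ := T.second (hB ▸ f.isSixteen_W.map g) (hB ▸ hBle) (hB ▸ hBne)
  have hsame : ∀ k : G, k ∈ h.N → (∀ x ∈ f.Lf, k * x = x * k) → k ∈ T.Q := fun k hk hf =>
    T.mem_Q.2 ⟨hk, hf _ f.v_mem_Lf, hf _ f.w₁_mem_Lf⟩
  obtain ⟨g₁, hg₁⟩ : ∃ g₁, g₁ = d * g * d⁻¹ := ⟨_, rfl⟩
  have hg₁fix : ∀ x ∈ f.Lf, g₁ * x = x * g₁ := by
    have key : ∀ y ∈ f.Lf, g₁ * (d * y * d⁻¹) = d * y * d⁻¹ * g₁ := fun y hy => by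
      rw [hg₁, ← conj_mul3, hgfix y hy, conj_mul3]
    intro x hx
    rcases f.Lf_cases hx with e | e | e | e <;> rw [e]
    · simp
    · rw [← hdw]; exact key _ f.w₁_mem_Lf
    · rw [← hde]; exact key _ f.e_mem_Lf
    · rw [← hdv]; exact key _ f.v_mem_Lf
  have hg₁Q : g₁ ∈ Subgroup.normalizer (T.Q : Set G) :=
    hg₁ ▸ mul_mem (mul_mem hdQ hgQ) (inv_mem hdQ)
  have hgN : g ∉ h.N := fun e => by
    refine hBne (map_conj_eq_of_forall (fun x hx => (h.N_conj e hx).1) le_rfl)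
  have hstep : g⁻¹ * g₁ ∈ T.Q := by
    have h16 := f.isSixteen_W.map g₁
    have hle : h.W.map (MulAut.conj g₁).toMonoidHom ≤ T.S₀ := by
      rintro _ ⟨x, hx, rfl⟩
      exact T.Q_le_S₀ ((Subgroup.mem_normalizer_iff.1 hg₁Q x).1 (T.W_le_Q hx))
    rcases huniq _ h16 hle with e | e
    · exfalso
      have hg₁N : g₁ ∈ h.N := conj_mem_normalizer fun x hx => by
        have : g₁ * x * g₁⁻¹ ∈ h.W.map (MulAut.conj g₁).toMonoidHom := ⟨x, hx, rfl⟩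
        rwa [e] at this
      refine hgN ?_
      rw [show g = d⁻¹ * g₁ * d by rw [hg₁]; group]
      exact mul_mem (mul_mem (inv_mem hdN) hg₁N) hdN
    · refine hsame _ (conj_mem_normalizer fun x hx => ?_) fun x hx => ?_
      · obtain ⟨y, hy, hye⟩ : g₁ * x * g₁⁻¹ ∈ h.W.map (MulAut.conj g).toMonoidHom :=
          e ▸ ⟨x, hx, rfl⟩
        have hye' : g * y * g⁻¹ = g₁ * x * g₁⁻¹ := hye
        rw [show g⁻¹ * g₁ * x * (g⁻¹ * g₁)⁻¹ = g⁻¹ * (g₁ * x * g₁⁻¹) * g by group, ← hye',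
          conj_cancel]
        exact hy
      · exact ((show Commute g x from hgfix x hx).inv_left.mul_left
          (show Commute g₁ x from hg₁fix x hx)).eq
  -- a fixed point of `d`
  have hdne : d ≠ 1 := fun e => by
    rw [e] at hdv
    exact f.e_ne_v (by rw [← hdv]; group)
  haveI : Fact (Nat.Prime 3) := ⟨Nat.prime_three⟩
  have hAcard : Nat.card (Subgroup.zpowers d) = 3 := by
    rw [Nat.card_zpowers, orderOf_eq_prime hd3 hdne]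
  haveI : IsCyclic (Subgroup.zpowers d) := isCyclic_of_prime_card hAcard
  obtain ⟨g', hg'A, hg'Q⟩ := Coprime.exists_fixed_mem_coset
    (Subgroup.zpowers_le.2 hdQ : Subgroup.zpowers d ≤ Subgroup.normalizer (T.Q : Set G))
    (by rw [hAcard, T.card_Q]; norm_num) (Or.inl inferInstance) (k := g) (by
      intro a ha
      rw [← mem_powers_iff_mem_zpowers, Submonoid.mem_powers_iff] at ha
      obtain ⟨n, rfl⟩ := ha
      induction n with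
      | zero => simp
      | succ n ih =>
        have := mul_mem (hg₁ ▸ hstep) ((Subgroup.mem_normalizer_iff.1 hdQ _).1 ih)
        convert this using 1
        rw [pow_succ']; group)
  have hg'd : g' * d = d * g' :=
    (Subgroup.mem_centralizer_iff.1 hg'A d (Subgroup.mem_zpowers d)).symm
  obtain ⟨qq, hqq⟩ : ∃ qq, qq = g⁻¹ * g' := ⟨_, rfl⟩
  have hqqN : qq ∈ h.N := (T.mem_Q.1 (hqq ▸ hg'Q)).1
  have hg'W : h.W.map (MulAut.conj g').toMonoidHom = B := by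
    rw [hB]
    refine map_conj_eq_of_forall (fun x hx => ⟨qq * x * qq⁻¹, (h.N_conj hqqN hx).1, ?_⟩) ?_
    · show g * (qq * x * qq⁻¹) * g⁻¹ = _
      rw [hqq]; group
    · rw [Subgroup.card_map_of_injective (f := (MulAut.conj g).toMonoidHom) (MulAut.conj g).injective]
  -- move `d` into `D`
  obtain ⟨n, hn, hnD⟩ := h.into_D hdN hd3
  obtain ⟨X, hX⟩ : ∃ X, X = f.Lf.map (MulAut.conj n).toMonoidHom := ⟨_, rfl⟩
  have hXW : X ≤ h.W := by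
    rw [hX]; rintro _ ⟨x, hx, rfl⟩; exact (h.N_conj hn (f.mem_Lf.1 hx).1).1
  have hXmem : ∀ {x : G}, x ∈ f.Lf → n * x * n⁻¹ ∈ X := fun hx => hX ▸ ⟨_, hx, rfl⟩
  obtain ⟨δ, hδ⟩ : ∃ δ, δ = n * d * n⁻¹ := ⟨_, rfl⟩
  have hve : h.v * f.e = f.w₁ := by
    show h.v * (h.v * f.w₁) = f.w₁; rw [← mul_assoc, h.v_sq, one_mul]
  have hprod : ∀ x ∈ f.Lf, x ≠ 1 → ∃ y ∈ f.Lf, n * x * n⁻¹ =
      (n * y * n⁻¹) * (δ * (n * y * n⁻¹) * δ⁻¹) := by
    intro x hx hx1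
    have key : ∀ y, x = y * (d * y * d⁻¹) → n * x * n⁻¹ =
        (n * y * n⁻¹) * (δ * (n * y * n⁻¹) * δ⁻¹) := fun y e => by
      rw [e, hδ]; group
    rcases f.Lf_cases hx with e | e | e | e
    · exact absurd e hx1
    · refine ⟨f.e, f.e_mem_Lf, key _ ?_⟩
      rw [e, hde, show f.e * f.w₁ = h.v * (f.w₁ * f.w₁) by
        show h.v * f.w₁ * f.w₁ = _; group, f.W_sq f.w₁_mem, mul_one]
    · exact ⟨h.v, f.v_mem_Lf, key _ (by rw [e, hdv, hve])⟩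
    · refine ⟨f.w₁, f.w₁_mem_Lf, key _ ?_⟩
      rw [e, hdw]; exact f.W_comm (h.Vs_le_W h.v_mem) f.w₁_mem
  have hto : ∀ (P : Subgroup G), (∀ y ∈ h.W, y * (δ * y * δ⁻¹) ∈ P) →
      ∀ x ∈ f.Lf, n * x * n⁻¹ ∈ P := by
    intro P hP x hx
    rcases eq_or_ne x 1 with e | e
    · rw [e, mul_one, mul_inv_cancel]; exact one_mem _
    · obtain ⟨y, hy, hye⟩ := hprod x hx e
      rw [hye]; exact hP _ (h.N_conj hn (f.mem_Lf.1 hy).1).1
  have hδne : δ ≠ 1 := hδ ▸ fun e => hdne (conj_eq_one_iff.1 e)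
  have hxd : ∀ k : G, (k = g' ∨ k = g'⁻¹) → n * k * n⁻¹ * δ = δ * (n * k * n⁻¹) := by
    intro k hk
    have : Commute k d := by
      rcases hk with e | e <;> rw [e]
      · exact hg'd
      · exact (show Commute g' d from hg'd).inv_left
    rw [hδ, ← conj_mul3, this.eq, conj_mul3]
  rcases h.D_cases (hδ ▸ hnD) hδne with e | e | e | e | ⟨k, hk, e⟩
  · exact T.not_Lf_to_U hn (hto _ fun y hy => f.prod_commute_w (Or.inl e) hy)
  · exact T.not_Lf_to_U hn (hto _ fun y hy => f.prod_commute_w (Or.inr e) hy)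
  · exact T.not_Lf_to_V hn (hto _ fun y hy => f.prod_commute_z (Or.inl e) hy)
  · exact T.not_Lf_to_V hn (hto _ fun y hy => f.prod_commute_z (Or.inr e) hy)
  · have hnorm : ∀ k' : G, (k' = g' ∨ k' = g'⁻¹) → ∀ a ∈ h.D,
        n * k' * n⁻¹ * a * (n * k' * n⁻¹)⁻¹ ∈ h.D := fun k' hk' => by
      refine h.norm_D_of_commute hk ?_
      have hc : Commute (n * k' * n⁻¹) δ := hxd k' hk'
      rcases e with e | e <;> rw [e] at hc
      · exact hc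
      · exact Commute.inv_right_iff.1 hc
    -- `X` is invariant under `D`
    have hinv : ∀ y ∈ X, h.z * y * h.z⁻¹ ∈ X := by
      intro y hy
      rw [hX] at hy
      obtain ⟨x, hx, rfl⟩ := hy
      change h.z * (n * x * n⁻¹) * h.z⁻¹ ∈ X
      obtain ⟨p, hp⟩ : ∃ p, p = n⁻¹ * (h.z * (n * x * n⁻¹) * h.z⁻¹) * n := ⟨_, rfl⟩
      have hpW : p ∈ h.W :=
        hp ▸ (h.N_conj hn (h.N_conj (h.D_le_N h.z_mem) (h.N_conj hn (f.mem_Lf.1 hx).1).1).1).2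
      have hpB : p ∈ B := by
        have hxB : x ∈ B := (hinf.ge hx).1
        rw [← hg'W] at hxB ⊢
        obtain ⟨x', hx', rfl⟩ := hxB
        have hq := hnorm g'⁻¹ (Or.inr rfl) _ h.z_mem
        obtain ⟨z', hz'⟩ : ∃ z', z' = n * g'⁻¹ * n⁻¹ * h.z * (n * g'⁻¹ * n⁻¹)⁻¹ := ⟨_, rfl⟩
        rw [← hz'] at hq
        refine ⟨n⁻¹ * (z' * (n * x' * n⁻¹) * z'⁻¹) * n,
          (h.N_conj hn (h.N_conj (h.D_le_N hq) (h.N_conj hn hx').1).1).2, ?_⟩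
        show g' * _ * g'⁻¹ = p
        rw [hp, hz']
        show _ = n⁻¹ * (h.z * (n * (g' * x' * g'⁻¹) * n⁻¹) * h.z⁻¹) * n
        group
      have := hXmem (hinf.le ⟨hpB, hpW⟩)
      rwa [show n * p * n⁻¹ = h.z * (n * x * n⁻¹) * h.z⁻¹ by rw [hp]; group] at this
    rcases f.invariant_four hXW (by
      rw [hX, Subgroup.card_map_of_injective (f := (MulAut.conj n).toMonoidHom)
        (MulAut.conj n).injective, f.card_Lf]) hinv with e' | e'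
    · exact T.not_Lf_to_V hn fun x hx => e' (hXmem hx)
    · exact T.not_Lf_to_U hn fun x hx => e' (hXmem hx)

end Twist

/-- `N(W)` is not transitive on `W ∖ 1`. -/
theorem Frame.not_trans {h : Hyp G} [Finite G] (f : Frame h) : ¬ f.Trans := fun hT => by
  rcases f.s_sq with e | e
  · exact f.not_trans_of_eq_u hT e
  · obtain ⟨T⟩ := exists_twist hT e
    exact T.contradiction

end CfsgLib.AltEightLocal
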