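import Cfsg.Agent.AltEightLocal.TwistSylow

/-!
The second elementary abelian group of order 16 in `S₀`, and the contradiction it gives.
-/

set_option autoImplicit false
set_option linter.style.haveILetI false

namespace CfsgLib.AltEightLocal

open Equiv

variable {G : Type*} [Group G]

/-- An elementary abelian group of order 16. -/
structure IsSixteen (B : Subgroup G) : Prop where
  card : Nat.card B = 16
  comm : ∀ a ∈ B, ∀ b ∈ B, a * b = b * a
  sq : ∀ a ∈ B, a * a = 1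

theorem IsSixteen.map {B : Subgroup G} (hB : IsSixteen B) (g : G) :
    IsSixteen (B.map (MulAut.conj g).toMonoidHom) where
  card := by
    rw [Subgroup.card_map_of_injective (f := (MulAut.conj g).toMonoidHom) (MulAut.conj g).injective,
      hB.card]
  comm := by
    rintro _ ⟨a, ha, rfl⟩ _ ⟨b, hb, rfl⟩
    rw [← map_mul, ← map_mul, hB.comm a ha b hb]
  sq := by
    rintro _ ⟨a, ha, rfl⟩
    rw [← map_mul, hB.sq a ha, map_one]

theorem Frame.isSixteen_W {h : Hyp G} [Finite G] (f : Frame h) : IsSixteen h.W :=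
  ⟨f.card_W, fun _ ha _ hb => f.W_comm ha hb, fun _ ha => f.W_sq ha⟩

namespace Twist

variable {h : Hyp G} [Finite G] {f : Frame h} (T : Twist f)
include T

/-- An elementary abelian group of order 16 in `S₀` other than `W`. -/
theorem second {B : Subgroup G} (hB : IsSixteen B) (hle : B ≤ T.S₀) (hne : B ≠ h.W) :
    B ⊓ h.W = f.Lf ∧ B ≤ T.Q ∧ (∀ x ∈ T.Q, x * x = 1 → x ∉ h.W → x ∈ B) ∧
      ∀ x ∈ T.Q, ∃ b ∈ B, b⁻¹ * x ∈ h.W := by
  classical
  have hBSt : B ≤ h.St f.e := hle.trans T.S₀_le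
  obtain ⟨φ, hφ⟩ : ∃ φ : B →* Perm (Fin 4), φ = T.ψ.comp (Subgroup.inclusion hBSt) := ⟨_, rfl⟩
  have hφker : ∀ b : B, φ b = 1 ↔ (b : G) ∈ h.W := fun b => by
    rw [hφ]; exact T.ker (Subgroup.inclusion hBSt b)
  obtain ⟨b₀, hb₀, hb₀W⟩ : ∃ b ∈ B, b ∉ h.W := by
    by_contra hall
    push Not at hall
    exact hne (Subgroup.eq_of_le_of_card_ge hall (by rw [hB.card, f.card_W]))
  have hsub : B ⊓ h.W ≤ h.W ⊓ Subgroup.centralizer ({b₀} : Set G) := fun a ha =>
    ⟨ha.2, Subgroup.mem_centralizer_singleton_iff.2 (hB.comm a ha.1 b₀ hb₀)⟩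
  have hkle : Nat.card φ.ker ≤ 4 := by
    refine le_trans ?_ (Frame.card_fix T.hT T.hs2 (h.mem_St.1 (hBSt hb₀)).1 (hB.sq b₀ hb₀) hb₀W).le
    refine Nat.card_le_card_of_injective (fun a : φ.ker => (⟨((a : B) : G),
      hsub ⟨a.1.2, (hφker a.1).1 a.2⟩⟩ : (h.W ⊓ Subgroup.centralizer ({b₀} : Set G) : Subgroup G)))
      fun a b e => ?_
    exact Subtype.ext (Subtype.ext (congrArg
      (fun x : (h.W ⊓ Subgroup.centralizer ({b₀} : Set G) : Subgroup G) => (x : G)) e))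
  have hmul : Nat.card φ.ker * Nat.card φ.range = 16 := by
    rw [← hB.card, ← φ.ker.card_mul_index, Subgroup.index_ker]
  have hrge : 4 ≤ Nat.card φ.range := by
    by_contra hlt
    have : Nat.card φ.ker * Nat.card φ.range ≤ 4 * 3 := Nat.mul_le_mul hkle (by omega)
    omega
  -- two generators of the image
  obtain ⟨p, hp⟩ : ∃ p, p = φ ⟨b₀, hb₀⟩ := ⟨_, rfl⟩
  have hinv : ∀ b : B, φ b * φ b = 1 := fun b => by
    rw [← map_mul, show b * b = 1 from Subtype.ext (hB.sq b b.2), map_one]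
  have hcom : ∀ a b : B, φ a * φ b = φ b * φ a := fun a b => by
    rw [← map_mul, ← map_mul, show a * b = b * a from Subtype.ext (hB.comm a a.2 b b.2)]
  have hp1 : p ≠ 1 := fun e => hb₀W ((hφker ⟨b₀, hb₀⟩).1 (hp ▸ e))
  obtain ⟨b₁, hb1, hb1p⟩ : ∃ b₁ : B, φ b₁ ≠ 1 ∧ φ b₁ ≠ p := by
    by_contra hall
    push Not at hall
    have hs : (φ.range : Set (Perm (Fin 4))) ⊆ (({1, p} : Finset (Perm (Fin 4))) : Set _) := by
      rintro _ ⟨b, rfl⟩
      simp only [Finset.coe_insert, Finset.coe_singleton, Set.mem_insert_iff,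
        Set.mem_singleton_iff]
      exact (eq_or_ne (φ b) 1).imp id (hall b)
    have := Nat.card_mono (Finset.finite_toSet _) hs
    rw [Nat.card_coe_set_eq, Nat.card_coe_set_eq, Set.ncard_coe_finset] at this
    have h2 : ({1, p} : Finset (Perm (Fin 4))).card ≤ 2 := Finset.card_le_two
    rw [← Nat.card_coe_set_eq] at this
    change Nat.card φ.range ≤ _ at this
    omega
  obtain ⟨r, hr⟩ : ∃ r, r = φ b₁ := ⟨_, rfl⟩
  have hrange : ∀ b : B, φ b = 1 ∨ φ b = p ∨ φ b = r ∨ φ b = p * r := fun b =>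
    p4_elementary p (hp ▸ hinv _) hp1 r (hr ▸ hinv _) (hr ▸ hb1) (hr ▸ hb1p)
      (by rw [hp, hr]; exact hcom _ _) _ (hinv b) (by rw [hp]; exact hcom _ _)
      (by rw [hr]; exact hcom _ _)
  have hrle : Nat.card φ.range ≤ 4 := by
    have hs : (φ.range : Set (Perm (Fin 4))) ⊆
        (({1, p, r, p * r} : Finset (Perm (Fin 4))) : Set _) := by
      rintro _ ⟨b, rfl⟩
      simp only [Finset.coe_insert, Finset.coe_singleton, Set.mem_insert_iff,
        Set.mem_singleton_iff]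
      exact hrange b
    have := Nat.card_mono (Finset.finite_toSet _) hs
    rw [Nat.card_coe_set_eq, Nat.card_coe_set_eq, Set.ncard_coe_finset] at this
    have h4 : ({1, p, r, p * r} : Finset (Perm (Fin 4))).card ≤ 4 := Finset.card_le_four
    rw [← Nat.card_coe_set_eq] at this
    change Nat.card φ.range ≤ _ at this
    omega
  have hr4 : Nat.card φ.range = 4 := le_antisymm hrle hrge
  have hk4 : Nat.card φ.ker = 4 := by rw [hr4] at hmul; omega
  have hBW : Nat.card (B ⊓ h.W : Subgroup G) = 4 := by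
    rw [← hk4]
    exact Nat.card_congr
      { toFun := fun a => ⟨⟨a, a.2.1⟩, (hφker _).2 a.2.2⟩
        invFun := fun a => ⟨((a : B) : G), a.1.2, (hφker a.1).1 a.2⟩
        left_inv := fun _ => rfl
        right_inv := fun _ => rfl }
  -- `q` lies in the image
  have hcentq : ∀ b : B, φ b * T.q = T.q * φ b := fun b => by
    obtain ⟨hb', e⟩ := T.mem_S₀.1 (hle b.2)
    rw [hφ]; exact e
  obtain ⟨bc, hbc⟩ : ∃ bc : B, φ bc = T.q := by
    rcases p4_contains T.q T.q_sq T.q_double p (hp ▸ hinv _) hp1 (hp ▸ hcentq _) r (hr ▸ hinv _)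
      (hr ▸ hb1) (hr ▸ hb1p) (hr ▸ hcentq _) (by rw [hp, hr]; exact hcom _ _) with e | e | e
    · exact ⟨_, (e.trans hp).symm⟩
    · exact ⟨_, (e.trans hr).symm⟩
    · exact ⟨⟨b₀, hb₀⟩ * b₁, by rw [map_mul, ← hp, ← hr, e]⟩
  obtain ⟨y, hy⟩ : ∃ y, y = (bc : G) * h.c⁻¹ := ⟨_, rfl⟩
  have hyW : y ∈ h.W := by
    rw [hy]
    refine (T.ker (Subgroup.inclusion hBSt bc * (⟨h.c, c_St⟩)⁻¹)).1 ?_
    rw [map_mul, map_inv]
    have : T.ψ (Subgroup.inclusion hBSt bc) = T.q := by rw [← hbc, hφ]; rfl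
    rw [this, show T.ψ ⟨h.c, c_St⟩ = T.q from rfl, mul_inv_cancel]
  have hinf : B ⊓ h.W = f.Lf := by
    refine Subgroup.eq_of_le_of_card_ge (fun a ha => f.mem_Lf.2 ⟨ha.2, ?_⟩)
      (by rw [hBW, f.card_Lf])
    have e1 : Commute a (bc : G) := hB.comm a ha.1 _ bc.2
    have e2 : Commute a y⁻¹ := f.W_comm ha.2 (inv_mem hyW)
    have e3 := e2.mul_right e1
    rwa [show y⁻¹ * (bc : G) = h.c by rw [hy]; group] at e3
  have hLB : f.Lf ≤ B := hinf ▸ inf_le_left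
  have hBQ : B ≤ T.Q := fun b hb => T.mem_Q.2
    ⟨(h.mem_St.1 (hBSt hb)).1, hB.comm b hb _ (hLB f.v_mem_Lf), hB.comm b hb _ (hLB f.w₁_mem_Lf)⟩
  have hfour : ∀ x ∈ T.Q, ∃ b ∈ B, b⁻¹ * x ∈ h.W := by
    obtain ⟨φQ, hφQ⟩ : ∃ φQ : T.Q →* Perm (Fin 4),
        φQ = T.ψ.comp (Subgroup.inclusion T.Q_le_St) := ⟨_, rfl⟩
    have hQker : ∀ g : T.Q, φQ g = 1 ↔ (g : G) ∈ h.W := fun g => by
      rw [hφQ]; exact T.ker (Subgroup.inclusion T.Q_le_St g)
    have hkQ : Nat.card φQ.ker = 16 := by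
      rw [← f.card_W]
      exact Nat.card_congr
        { toFun := fun g => ⟨_, (hQker _).1 g.2⟩
          invFun := fun x => ⟨⟨x, T.W_le_Q x.2⟩, (hQker _).2 x.2⟩
          left_inv := fun _ => rfl
          right_inv := fun _ => rfl }
    have hrQ : Nat.card φQ.range = 4 := by
      have := φQ.ker.card_mul_index
      rw [Subgroup.index_ker, hkQ, T.card_Q] at this
      omega
    have heq : φ.range = φQ.range := by
      refine Subgroup.eq_of_le_of_card_ge ?_ (by rw [hr4, hrQ])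
      rintro _ ⟨b, rfl⟩
      exact ⟨⟨b, hBQ b.2⟩, by rw [hφ, hφQ]; rfl⟩
    intro x hx
    obtain ⟨b, hb⟩ : φQ ⟨x, hx⟩ ∈ φ.range := heq ▸ (⟨_, rfl⟩ : φQ ⟨x, hx⟩ ∈ φQ.range)
    refine ⟨b, b.2, ?_⟩
    refine (T.ker ((Subgroup.inclusion hBSt b)⁻¹ * Subgroup.inclusion T.Q_le_St ⟨x, hx⟩)).1 ?_
    rw [hφ, hφQ] at hb
    rw [map_mul, map_inv]
    rw [show T.ψ (Subgroup.inclusion hBSt b) =
      T.ψ (Subgroup.inclusion T.Q_le_St ⟨x, hx⟩) from hb, inv_mul_cancel]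
  refine ⟨hinf, hBQ, fun x hx hx2 hxW => ?_, hfour⟩
  obtain ⟨b, hb, hbx⟩ := hfour x hx
  obtain ⟨y', hy'⟩ : ∃ y', y' = b⁻¹ * x := ⟨_, rfl⟩
  have hy'W : y' ∈ h.W := hy' ▸ hbx
  have hbW : b ∉ h.W := fun e => hxW (by
    have := mul_mem e hbx
    rwa [mul_inv_cancel_left] at this)
  have hby : y' * b = b * y' := by
    have e : b * y' * (b * y') = 1 := by
      rw [hy', show b * (b⁻¹ * x) * (b * (b⁻¹ * x)) = x * x by group, hx2]
    have e1 := inv_eq_of_mul_eq_one_right e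
    rwa [mul_inv_rev, inv_eq_of_mul_eq_one_right (hB.sq b hb), f.W_inv hy'W] at e1
  have heq : f.Lf = h.W ⊓ Subgroup.centralizer ({b} : Set G) :=
    Subgroup.eq_of_le_of_card_ge (fun a ha => ⟨(f.mem_Lf.1 ha).1,
        Subgroup.mem_centralizer_singleton_iff.2 (hB.comm a (hLB ha) b hb)⟩)
      (by rw [f.card_Lf, Frame.card_fix T.hT T.hs2 (h.mem_St.1 (hBSt hb)).1 (hB.sq b hb) hbW])
  have hy'B : y' ∈ B := hLB (heq ▸ ⟨hy'W, Subgroup.mem_centralizer_singleton_iff.2 hby⟩)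
  have := mul_mem hb hy'B
  rwa [hy', mul_inv_cancel_left] at this

end Twist

end CfsgLib.AltEightLocal
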