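import Cfsg.Agent.AltEightLocal.TwistBase

/-!
The group `S₀` of order 128 fixing `e` when `N(W)` is transitive and `s² = c`.
-/

set_option autoImplicit false
set_option linter.style.haveILetI false

namespace CfsgLib.AltEightLocal

open Equiv

variable {G : Type*} [Group G]

/-- The data of a transitive `N(W)` with `s² = c`. -/
structure Twist {h : Hyp G} [Finite G] (f : Frame h) where
  hT : f.Trans
  hs2 : f.s * f.s = h.c
  ψ : h.St f.e →* Perm (Fin 4)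
  surj : Function.Surjective ψ
  ker : ∀ g, ψ g = 1 ↔ (g : G) ∈ h.W

theorem exists_twist {h : Hyp G} [Finite G] {f : Frame h} (hT : f.Trans)
    (hs2 : f.s * f.s = h.c) : Nonempty (Twist f) := by
  obtain ⟨ψ, h1, h2, -⟩ := Frame.exists_perm_at hT f.e_mem f.e_ne
  exact ⟨⟨hT, hs2, ψ, h1, h2⟩⟩

namespace Twist

variable {h : Hyp G} [Finite G] {f : Frame h} (T : Twist f)
include T

omit T in
theorem s_St : f.s ∈ h.St f.e := h.mem_St.2 ⟨f.s_mem_N, commute_iff_conj.1 f.s_e⟩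

omit T in
theorem c_St : h.c ∈ h.St f.e := h.mem_St.2 ⟨Frame.c_norm, (f.mem_Lf.1 f.e_mem_Lf).2.symm⟩

/-- The image of `c`. -/
def q : Perm (Fin 4) := T.ψ ⟨h.c, c_St⟩

theorem q_eq : T.q = T.ψ ⟨f.s, s_St⟩ * T.ψ ⟨f.s, s_St⟩ := by
  rw [q, ← map_mul]; exact congrArg T.ψ (Subtype.ext T.hs2.symm)

theorem q_sq : T.q * T.q = 1 := by
  rw [q, ← map_mul, ← map_one T.ψ]; exact congrArg T.ψ (Subtype.ext h.c_sq)

theorem q_ne : T.q ≠ 1 := fun e => f.c_not_W ((T.ker _).1 e)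

theorem q_double : ∀ x, T.q x ≠ x := by
  have h1 := T.q_sq
  have h2 := T.q_ne
  rw [T.q_eq] at h1 h2 ⊢
  exact p4_square _ h1 h2

theorem card_St : Nat.card (h.St f.e) = 384 := by
  have hk : Nat.card T.ψ.ker = 16 := by
    rw [← f.card_W]
    exact Nat.card_congr
      { toFun := fun g => ⟨_, (T.ker g).1 g.2⟩
        invFun := fun x => ⟨⟨x, f.W_le_St f.e_mem x.2⟩, (T.ker _).2 x.2⟩
        left_inv := fun _ => rfl
        right_inv := fun _ => rfl }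
  rw [← T.ψ.ker.card_mul_index, hk, Subgroup.index_ker, MonoidHom.range_eq_top.2 T.surj,
    Subgroup.card_top, Nat.card_eq_fintype_card, Fintype.card_perm, Fintype.card_fin,
    show Nat.factorial 4 = 24 by rfl]

/-- The preimage of the centraliser of `q`. -/
def S₀ : Subgroup G :=
  ((Subgroup.centralizer ({T.q} : Set (Perm (Fin 4)))).comap T.ψ).map (h.St f.e).subtype

theorem mem_S₀ {g : G} :
    g ∈ T.S₀ ↔ ∃ hg : g ∈ h.St f.e, T.ψ ⟨g, hg⟩ * T.q = T.q * T.ψ ⟨g, hg⟩ := by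
  constructor
  · rintro ⟨⟨x, hx⟩, hm, rfl⟩
    exact ⟨hx, Subgroup.mem_centralizer_singleton_iff.1 hm⟩
  · rintro ⟨hg, e⟩
    exact ⟨⟨g, hg⟩, Subgroup.mem_centralizer_singleton_iff.2 e, rfl⟩

theorem S₀_le : T.S₀ ≤ h.St f.e := fun _ hg => (T.mem_S₀.1 hg).1

theorem W_le_S₀ : h.W ≤ T.S₀ := fun x hx => T.mem_S₀.2 ⟨f.W_le_St f.e_mem hx, by
  rw [(T.ker _).2 hx, one_mul, mul_one]⟩

theorem c_mem : h.c ∈ T.S₀ := T.mem_S₀.2 ⟨c_St, rfl⟩

theorem s_mem : f.s ∈ T.S₀ := T.mem_S₀.2 ⟨s_St, by rw [T.q_eq, ← mul_assoc]⟩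

theorem card_S₀ : Nat.card T.S₀ = 128 := by
  classical
  obtain ⟨C, hC⟩ : ∃ C : Subgroup (Perm (Fin 4)), C = Subgroup.centralizer ({T.q} : Set _) :=
    ⟨_, rfl⟩
  have hC8 : Nat.card C = 8 := by
    rw [← p4_cent T.q T.q_sq T.q_double, Nat.card_eq_fintype_card, Fintype.card_subtype]
    congr 1
    refine Finset.filter_congr fun r _ => ?_
    rw [hC, Subgroup.mem_centralizer_singleton_iff]
  have hCi : C.index = 3 := by
    have := C.card_mul_index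
    rw [hC8, Nat.card_eq_fintype_card, Fintype.card_perm, Fintype.card_fin,
      show Nat.factorial 4 = 24 by rfl] at this
    omega
  have h1 := (C.comap T.ψ).card_mul_index
  rw [Subgroup.index_comap_of_surjective _ T.surj, hCi, T.card_St] at h1
  rw [S₀, Subgroup.card_map_of_injective (h.St f.e).subtype_injective, ← hC]
  omega

theorem S₀_isPGroup : IsPGroup 2 T.S₀ := IsPGroup.of_card (n := 7) (by rw [T.card_S₀]; rfl)

/-- A 2-subgroup fixing `e` has order at most 128. -/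
theorem card_two_le {R : Subgroup G} (hR : IsPGroup 2 R) (hle : R ≤ h.St f.e) :
    Nat.card R ≤ 128 := by
  haveI : Fact (Nat.Prime 2) := ⟨Nat.prime_two⟩
  obtain ⟨a, ha⟩ := IsPGroup.iff_card.1 hR
  have h1 : 2 ^ a ∣ 128 * 3 := by
    rw [← ha, show 128 * 3 = Nat.card (h.St f.e) by rw [T.card_St]]
    exact Subgroup.card_dvd_of_le hle
  rw [ha]
  exact Nat.le_of_dvd (by norm_num)
    ((Nat.Coprime.pow_left a (by norm_num)).dvd_of_dvd_mul_right h1)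

theorem le_S₀ {R : Subgroup G} (hR : IsPGroup 2 R) (hle : R ≤ h.St f.e)
    (hn : T.S₀ ≤ Subgroup.normalizer (R : Set G) ∨ R ≤ Subgroup.normalizer (T.S₀ : Set G)) :
    R ≤ T.S₀ := by
  haveI : Fact (Nat.Prime 2) := ⟨Nat.prime_two⟩
  have hp : IsPGroup 2 (R ⊔ T.S₀ : Subgroup G) := by
    rcases hn with e | e
    · exact hR.to_sup_of_normal_left' T.S₀_isPGroup e
    · rw [sup_comm]; exact T.S₀_isPGroup.to_sup_of_normal_left' hR e
  have he := Subgroup.eq_of_le_of_card_ge (le_sup_right : T.S₀ ≤ R ⊔ T.S₀)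
    (by rw [T.card_S₀]; exact T.card_two_le hp (sup_le hle T.S₀_le))
  rw [he]
  exact le_sup_left

/-- The elements of `S₀` permute the fixed points of `c`. -/
theorem S₀_Lf {g : G} (hg : g ∈ T.S₀) {a : G} (ha : a ∈ f.Lf) : g * a * g⁻¹ ∈ f.Lf := by
  obtain ⟨hgSt, hgq⟩ := T.mem_S₀.1 hg
  obtain ⟨haW, hac⟩ := f.mem_Lf.1 ha
  obtain ⟨y, hy⟩ : ∃ y, y = g * h.c * g⁻¹ * h.c⁻¹ := ⟨_, rfl⟩
  have hyW : y ∈ h.W := by
    rw [hy]
    refine (T.ker (⟨g, hgSt⟩ * ⟨h.c, c_St⟩ * (⟨g, hgSt⟩)⁻¹ * (⟨h.c, c_St⟩)⁻¹)).1 ?_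
    rw [map_mul, map_mul, map_mul, map_inv, map_inv,
      show T.ψ ⟨h.c, c_St⟩ = T.q from rfl, hgq]
    group
  have hbW := (h.N_conj (h.mem_St.1 hgSt).1 haW).1
  refine f.mem_Lf.2 ⟨hbW, ?_⟩
  have e1 : Commute (g * a * g⁻¹) (g * h.c * g⁻¹) := by
    show _ = _
    rw [← conj_mul3, hac, conj_mul3]
  have e2 : Commute (g * a * g⁻¹) y⁻¹ := (f.W_comm hbW (inv_mem hyW))
  have e3 := e2.mul_right e1
  rwa [show y⁻¹ * (g * h.c * g⁻¹) = h.c by rw [hy]; group] at e3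

theorem fix_e {g : G} (hg : g ∈ Subgroup.normalizer (T.S₀ : Set G)) : g * f.e * g⁻¹ = f.e := by
  obtain ⟨x, hx⟩ : ∃ x, x = g * f.e * g⁻¹ := ⟨_, rfl⟩
  have hcent : ∀ k ∈ T.S₀, x * k = k * x := by
    intro k hk
    have hk' : g⁻¹ * k * g ∈ T.S₀ := by
      have := (Subgroup.mem_normalizer_iff.1 (inv_mem hg) k).1 hk
      rwa [inv_inv] at this
    have he := (h.mem_St.1 (T.S₀_le hk')).2
    calc x * k = g * (f.e * (g⁻¹ * k * g)) * g⁻¹ := by rw [hx]; group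
      _ = g * (g⁻¹ * k * g * f.e) * g⁻¹ := by rw [he]
      _ = _ := by rw [hx]; group
  have hxW : x ∈ h.W := f.centralizer_W fun y hy => hcent y (T.W_le_S₀ hy)
  have hxL : x ∈ f.Lf := f.mem_Lf.2 ⟨hxW, hcent _ T.c_mem⟩
  rw [← hx]
  rcases f.Lf_cases hxL with e | e | e | e
  · exact absurd (conj_eq_one_iff.1 (hx.symm.trans e)) f.e_ne
  · have := hcent _ T.s_mem
    rw [e] at this
    exact absurd (commute_iff_conj.2 this.symm : f.s * h.v * f.s⁻¹ = h.v) f.v_ne_w₁.symm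
  · have := hcent _ T.s_mem
    rw [e] at this
    exact absurd (f.s_w₁.symm.trans (commute_iff_conj.2 this.symm)) f.v_ne_w₁
  · exact e

/-- `S₀` is normalised by an element moving `W`. -/
theorem exists_mover : ∃ g ∈ Subgroup.normalizer (T.S₀ : Set G),
    h.W.map (MulAut.conj g).toMonoidHom ≠ h.W := by
  haveI : Fact (Nat.Prime 2) := ⟨Nat.prime_two⟩
  obtain ⟨P, hP⟩ := T.S₀_isPGroup.exists_le_sylow
  have hne : T.S₀ ≠ (P : Subgroup G) := by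
    intro heq
    have hu : IsPGroup 2 (Subgroup.zpowers h.u) := IsPGroup.of_card (n := 1) (by
      rw [Nat.card_zpowers, pow_one]
      exact orderOf_eq_prime (by rw [pow_two, h.u_sq]) h.u_ne)
    obtain ⟨Q, hQ⟩ := hu.exists_le_sylow
    obtain ⟨k, hk⟩ := MulAction.exists_smul_eq G Q P
    have h1 := Subgroup.smul_mem_pointwise_smul _ (MulAut.conj k) _ (hQ (Subgroup.mem_zpowers h.u))
    rw [← Sylow.coe_subgroup_smul, hk, ← heq] at h1
    have h1' : k * h.u * k⁻¹ ∈ T.S₀ := h1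
    have htt := h.tt_conj (g := k⁻¹) (Frame.tt_N T.hT T.hs2 (h.mem_St.1 (T.S₀_le h1')).1
      (by rw [← conj_mul3, h.u_sq]; group) fun e => h.u_ne (conj_eq_one_iff.1 e))
    rw [inv_inv, conj_cancel] at htt
    exact h.t_not_u htt
  haveI : Group.IsNilpotent (P : Subgroup G) := P.isPGroup'.isNilpotent
  have hlt : T.S₀.subgroupOf P < ⊤ :=
    lt_top_iff_ne_top.2 fun e => hne (le_antisymm hP (Subgroup.subgroupOf_eq_top.1 e))
  obtain ⟨g, hg, hgn⟩ := SetLike.exists_of_lt (Group.normalizerCondition_of_isNilpotent _ hlt)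
  rw [← Subgroup.subgroupOf_normalizer_eq hP] at hg
  refine ⟨g, hg, fun e => hgn (Subgroup.mem_subgroupOf.2 ?_)⟩
  have hgN : (g : G) ∈ h.N := conj_mem_normalizer fun x hx => by
    have : (g : G) * x * (g : G)⁻¹ ∈ h.W.map (MulAut.conj (g : G)).toMonoidHom := ⟨x, hx, rfl⟩
    rwa [e] at this
  have hle : Subgroup.zpowers (g : G) ≤ h.St f.e :=
    Subgroup.zpowers_le.2 (h.mem_St.2 ⟨hgN, commute_iff_conj.1 (T.fix_e hg)⟩)
  exact T.le_S₀ (P.isPGroup'.to_le (Subgroup.zpowers_le.2 g.2)) hle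
    (Or.inr (Subgroup.zpowers_le.2 hg)) (Subgroup.mem_zpowers _)

theorem not_V_to_Lf {n : G} (hn : n ∈ h.N) : ¬ ∀ a ∈ h.Vs, n * a * n⁻¹ ∈ f.Lf := by
  intro hall
  have hmap := map_conj_eq_of_forall (K := f.Lf) hall (by rw [f.card_Lf, h.card_Vs])
  obtain ⟨a, ha, hae⟩ : f.e ∈ h.Vs.map (MulAut.conj n).toMonoidHom := hmap ▸ f.e_mem_Lf
  have hae' : n * a * n⁻¹ = f.e := hae
  obtain ⟨i, hi⟩ := Frame.w_pow_Vs (h := h) ha fun e => f.e_ne (by rw [← hae', e]; group)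
  obtain ⟨n', hn'⟩ : ∃ n', n' = n * (h.w ^ i)⁻¹ := ⟨_, rfl⟩
  have hn'N : n' ∈ h.N := hn' ▸ mul_mem hn (inv_mem (pow_mem (h.D_le_N h.w_mem) i))
  have hn'e : n' * h.v * n'⁻¹ = f.e := by rw [← hae', ← hi, hn']; group
  have hwV : ∀ k : ℕ, ∀ a ∈ h.Vs, (h.w ^ k)⁻¹ * a * h.w ^ k ∈ h.Vs := by
    intro k
    induction k with
    | zero => simp
    | succ k ih =>
      intro a ha
      have := (h.Vs_conj_w (ih a ha)).1
      rwa [show h.w⁻¹ * ((h.w ^ k)⁻¹ * a * h.w ^ k) * h.w =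
        (h.w ^ (k + 1))⁻¹ * a * h.w ^ (k + 1) by rw [pow_succ]; group] at this
  have hmem : ∀ b ∈ h.Vs, n' * b * n'⁻¹ ∈ f.Lf := fun b hb => by
    have := hall _ (hwV i b hb)
    convert this using 1
    rw [hn']; group
  have hmap' := map_conj_eq_of_forall (K := f.Lf) hmem (by rw [f.card_Lf, h.card_Vs])
  have hinto : ∀ g : T.S₀, ∀ hg : n'⁻¹ * (g : G) * n' ∈ h.St h.v, (⟨_, hg⟩ : h.St h.v) ∈ f.Flag := by
    intro g hg
    rw [f.mem_Flag]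
    obtain ⟨b, hb, hbe⟩ : (g : G) * (n' * h.v' * n'⁻¹) * (g : G)⁻¹ ∈
        h.Vs.map (MulAut.conj n').toMonoidHom := by
      rw [hmap']; exact T.S₀_Lf g.2 (hmem _ h.v'_mem)
    have hbe' : n' * b * n'⁻¹ = (g : G) * (n' * h.v' * n'⁻¹) * (g : G)⁻¹ := hbe
    show n'⁻¹ * (g : G) * n' * h.v' * (n'⁻¹ * (g : G) * n')⁻¹ ∈ h.Vs
    rw [show n'⁻¹ * (g : G) * n' * h.v' * (n'⁻¹ * (g : G) * n')⁻¹ =
      n'⁻¹ * ((g : G) * (n' * h.v' * n'⁻¹) * (g : G)⁻¹) * n' by group, ← hbe', conj_cancel]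
    exact hb
  have hle := Nat.card_le_card_of_injective
    (fun g : T.S₀ => (⟨_, hinto g (h.conj_St hn'N hn'e (T.S₀_le g.2))⟩ : f.Flag))
    (fun a b e => Subtype.ext (by
      have e' := congrArg (fun x : f.Flag => ((x : h.St h.v) : G)) e
      simpa using e'))
  rw [T.card_S₀, f.card_Flag] at hle
  omega

theorem not_Lf_to_V {n : G} (hn : n ∈ h.N) : ¬ ∀ x ∈ f.Lf, n * x * n⁻¹ ∈ h.Vs := fun hall => by
  have hmap := map_conj_eq_of_forall (K := h.Vs) hall (by rw [f.card_Lf, h.card_Vs])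
  refine T.not_V_to_Lf (inv_mem hn) fun a ha => ?_
  obtain ⟨x, hx, e⟩ : a ∈ f.Lf.map (MulAut.conj n).toMonoidHom := hmap ▸ ha
  rw [← show n * x * n⁻¹ = a from e, inv_inv, conj_cancel]
  exact hx

theorem not_Lf_to_U {n : G} (hn : n ∈ h.N) : ¬ ∀ x ∈ f.Lf, n * x * n⁻¹ ∈ f.Us := fun hall =>
  T.not_Lf_to_V (mul_mem (inv_mem f.s_mem_N) hn) fun x hx => by
    obtain ⟨b, hb, e⟩ := f.mem_Us.1 (hall x hx)
    rw [show f.s⁻¹ * n * x * (f.s⁻¹ * n)⁻¹ = f.s⁻¹ * (n * x * n⁻¹) * f.s by group, ← e,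
      conj_cancel]
    exact hb

/-- No element of order three of `N(W)` fixes the fixed points of `c`. -/
theorem no_three {m : G} (hm : m ∈ h.N) (hm3 : m ^ 3 = 1) (hfix : ∀ x ∈ f.Lf, m * x = x * m) :
    m = 1 := by
  by_contra hne
  obtain ⟨n, hn, hd⟩ := h.into_D hm hm3
  obtain ⟨d, hde⟩ : ∃ d, d = n * m * n⁻¹ := ⟨_, rfl⟩
  have hcomm : ∀ x ∈ f.Lf, Commute (n * x * n⁻¹) d := fun x hx => by
    show _ = _
    rw [hde, ← conj_mul3, ← hfix x hx, conj_mul3]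
  have hW : ∀ x ∈ f.Lf, n * x * n⁻¹ ∈ h.W := fun x hx => (h.N_conj hn (f.mem_Lf.1 hx).1).1
  rcases h.D_cases (hde ▸ hd) (hde ▸ fun e => hne (conj_eq_one_iff.1 e)) with
    e | e | e | e | ⟨k, hk, e | e⟩ <;> rw [e] at hcomm
  · exact T.not_Lf_to_V hn fun x hx => h.fix_z (hW x hx) (hcomm x hx)
  · exact T.not_Lf_to_V hn fun x hx =>
      h.fix_z (hW x hx) (Commute.inv_right_iff.1 (hcomm x hx))
  · exact T.not_Lf_to_U hn fun x hx => f.Us_of_commute (hW x hx) (hcomm x hx)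
  · exact T.not_Lf_to_U hn fun x hx =>
      f.Us_of_commute (hW x hx) (Commute.inv_right_iff.1 (hcomm x hx))
  · exact h.v_ne (conj_eq_one_iff.1 (h.fix_zw hk (hW _ f.v_mem_Lf) (hcomm _ f.v_mem_Lf)))
  · exact h.v_ne (conj_eq_one_iff.1
      (h.fix_zw hk (hW _ f.v_mem_Lf) (Commute.inv_right_iff.1 (hcomm _ f.v_mem_Lf))))

/-- The pointwise stabiliser of the fixed points of `c`. -/
def Q (_T : Twist f) : Subgroup G :=
  h.N ⊓ Subgroup.centralizer ({h.v} : Set G) ⊓ Subgroup.centralizer ({f.w₁} : Set G)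

theorem mem_Q {g : G} : g ∈ T.Q ↔ g ∈ h.N ∧ g * h.v = h.v * g ∧ g * f.w₁ = f.w₁ * g := by
  rw [Q, Subgroup.mem_inf, Subgroup.mem_inf, Subgroup.mem_centralizer_singleton_iff,
    Subgroup.mem_centralizer_singleton_iff, and_assoc]

theorem Q_fix {g : G} (hg : g ∈ T.Q) {x : G} (hx : x ∈ f.Lf) : g * x = x * g := by
  obtain ⟨-, h1, h2⟩ := T.mem_Q.1 hg
  rcases f.Lf_cases hx with e | e | e | e <;> subst e
  · simp
  · exact h1
  · exact h2
  · exact ((show Commute g h.v from h1).mul_right (show Commute g f.w₁ from h2)).eq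

theorem Q_le_St : T.Q ≤ h.St f.e := fun _ hg =>
  h.mem_St.2 ⟨(T.mem_Q.1 hg).1, T.Q_fix hg f.e_mem_Lf⟩

theorem W_le_Q : h.W ≤ T.Q := fun x hx =>
  T.mem_Q.2 ⟨h.W_le_N hx, h.W_Vs hx h.v_mem, f.W_comm hx f.w₁_mem⟩

theorem c_mem_Q : h.c ∈ T.Q := T.mem_Q.2 ⟨Frame.c_norm, h.c_v, f.c_w₁⟩

theorem Q_isPGroup : IsPGroup 2 T.Q := by
  have h3 : ¬ 3 ∣ Nat.card T.Q := fun h3 => by
    haveI : Fact (Nat.Prime 3) := ⟨Nat.prime_three⟩
    obtain ⟨x, hx⟩ := exists_prime_orderOf_dvd_card' 3 h3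
    have hx3 : (x : G) ^ 3 = 1 := by
      rw [← SubmonoidClass.coe_pow, ← hx, pow_orderOf_eq_one, OneMemClass.coe_one]
    have := T.no_three (T.mem_Q.1 x.2).1 hx3 fun a ha => T.Q_fix x.2 ha
    rw [show x = 1 from Subtype.ext this, orderOf_one] at hx
    norm_num at hx
  have h1 : Nat.card T.Q ∣ 2 ^ 7 * 3 := by
    rw [show 2 ^ 7 * 3 = Nat.card (h.St f.e) by rw [T.card_St]; rfl]
    exact Subgroup.card_dvd_of_le T.Q_le_St
  obtain ⟨k, -, hk⟩ := (Nat.dvd_prime_pow Nat.prime_two).1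
    ((Nat.Coprime.symm ((Nat.prime_three.coprime_iff_not_dvd).2 h3)).dvd_of_dvd_mul_right h1)
  exact IsPGroup.of_card hk

theorem S₀_norm_Q : T.S₀ ≤ Subgroup.normalizer (T.Q : Set G) := fun g hg => by
  refine conj_mem_normalizer fun x hx => T.mem_Q.2 ⟨?_, ?_, ?_⟩
  · have hgN := (h.mem_St.1 (T.S₀_le hg)).1
    exact mul_mem (mul_mem hgN (T.mem_Q.1 hx).1) (inv_mem hgN)
  all_goals
    refine (fun a ha => ?_ : ∀ a ∈ f.Lf, g * x * g⁻¹ * a = a * (g * x * g⁻¹)) _ ?_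
    · have hb : g⁻¹ * a * g ∈ f.Lf := by
        have := T.S₀_Lf (inv_mem hg) ha
        rwa [inv_inv] at this
      calc g * x * g⁻¹ * a = g * (x * (g⁻¹ * a * g)) * g⁻¹ := by group
        _ = g * (g⁻¹ * a * g * x) * g⁻¹ := by rw [T.Q_fix hx hb]
        _ = _ := by group
    first
      | exact f.v_mem_Lf
      | exact f.w₁_mem_Lf

theorem Q_le_S₀ : T.Q ≤ T.S₀ := T.le_S₀ T.Q_isPGroup T.Q_le_St (Or.inl T.S₀_norm_Q)

theorem mem_Q_of_S₀ {g : G} (hg : g ∈ T.S₀) : g ∈ T.Q ↔ g * h.v * g⁻¹ = h.v := by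
  refine ⟨fun hq => commute_iff_conj.2 (T.mem_Q.1 hq).2.1, fun hv =>
    T.mem_Q.2 ⟨(h.mem_St.1 (T.S₀_le hg)).1, commute_iff_conj.1 hv, ?_⟩⟩
  have he : g * f.e * g⁻¹ = f.e := commute_iff_conj.2 (h.mem_St.1 (T.S₀_le hg)).2
  refine commute_iff_conj.1 ?_
  have : f.w₁ = h.v * f.e := by
    show f.w₁ = h.v * (h.v * f.w₁); rw [← mul_assoc, h.v_sq, one_mul]
  rw [this, conj_mul3, hv, he]

theorem v_cases {g : G} (hg : g ∈ f.Lf) (h1 : g ≠ 1) (h2 : g ≠ f.e) : g = h.v ∨ g = f.w₁ := by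
  rcases f.Lf_cases hg with e | e | e | e
  exacts [absurd e h1, Or.inl e, Or.inr e, absurd e h2]

theorem S₀_v {g : G} (hg : g ∈ T.S₀) : g * h.v * g⁻¹ = h.v ∨ g * h.v * g⁻¹ = f.w₁ := by
  refine T.v_cases (T.S₀_Lf hg f.v_mem_Lf) (fun e => h.v_ne (conj_eq_one_iff.1 e)) fun e => ?_
  exact f.e_ne_v (conj_inj (e.trans (commute_iff_conj.2 (h.mem_St.1 (T.S₀_le hg)).2).symm)).symm

theorem card_Q : Nat.card T.Q = 64 := by
  have hidx : (T.Q.subgroupOf T.S₀).index = 2 := by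
    rw [Subgroup.index_eq_two_iff]
    refine ⟨⟨f.s, T.s_mem⟩, fun b => ?_⟩
    have hb' : ((b * ⟨f.s, T.s_mem⟩ : T.S₀) : G) * h.v * ((b * ⟨f.s, T.s_mem⟩ : T.S₀) : G)⁻¹ =
        (b : G) * f.w₁ * (b : G)⁻¹ := by
      rw [Subgroup.coe_mul]; show _ = (b : G) * (f.s * h.v * f.s⁻¹) * (b : G)⁻¹; group
    have hbe : (b : G) * f.e * (b : G)⁻¹ = f.e :=
      commute_iff_conj.2 (h.mem_St.1 (T.S₀_le b.2)).2
    have hw : f.w₁ = h.v * f.e := by
      show f.w₁ = h.v * (h.v * f.w₁); rw [← mul_assoc, h.v_sq, one_mul]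
    simp only [Subgroup.mem_subgroupOf, Subgroup.coe_mul]
    rw [T.mem_Q_of_S₀ b.2, T.mem_Q_of_S₀ (mul_mem b.2 T.s_mem : ((b : G) * f.s) ∈ T.S₀)]
    rw [Subgroup.coe_mul] at hb'
    rw [hb', hw, conj_mul3, hbe]
    rcases T.S₀_v b.2 with e | e <;> rw [e]
    · refine Or.inr ⟨rfl, fun e' => f.v_ne_w₁ ?_⟩
      rw [hw]; exact e'.symm
    · refine Or.inl ⟨?_, fun e' => f.v_ne_w₁ e'.symm⟩
      rw [hw, mul_assoc, f.W_sq f.e_mem, mul_one]
  have h1 := (T.Q.subgroupOf T.S₀).card_mul_index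
  rw [hidx, Nat.card_congr (Subgroup.subgroupOfEquivOfLe T.Q_le_S₀).toEquiv, T.card_S₀] at h1
  omega

end Twist

end CfsgLib.AltEightLocal
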